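import Cfsg.Agent.H3.Orb

set_option autoImplicit false
set_option linter.unusedSectionVars false

namespace Cfsg.Agent.H3

open Equiv Equiv.Perm Subgroup MulAction

/-- largest product of a partition of `n` -/
def Mx : ℕ → ℕ
  | 0 => 1 | 1 => 1 | 2 => 2 | 3 => 3 | 4 => 4
  | (n + 5) => 3 * Mx (n + 2)

/-- largest order of an abelian subgroup of the alternating group of degree `n` -/
def Ma : ℕ → ℕ
  | 0 => 1 | 1 => 1 | 2 => 1 | 3 => 3 | 4 => 4 | 5 => 5 | 6 => 9 | 7 => 12 | 8 => 16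
  | (n + 9) => 3 * Ma (n + 6)

theorem Mx_step (n : ℕ) : Mx (n + 5) = 3 * Mx (n + 2) := by rw [Mx]
theorem Ma_step (n : ℕ) : Ma (n + 9) = 3 * Ma (n + 6) := by rw [Ma]

theorem Mx_mul : ∀ n a b, a + b = n → Mx a * Mx b ≤ Mx (a + b) := by
  intro n
  induction n using Nat.strong_induction_on with
  | _ n ih =>
  intro a b hab
  by_cases ha : 5 ≤ a
  · obtain ⟨c, rfl⟩ := Nat.exists_eq_add_of_le' ha
    have := ih _ (by omega) (c + 2) b rfl
    rw [Mx_step, show c + 5 + b = c + b + 5 by ring, Mx_step, mul_assoc]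
    rw [show c + 2 + b = c + b + 2 by ring] at this
    omega
  by_cases hb : 5 ≤ b
  · obtain ⟨c, rfl⟩ := Nat.exists_eq_add_of_le' hb
    have := ih _ (by omega) a (c + 2) rfl
    rw [Mx_step, show a + (c + 5) = a + c + 5 by ring, Mx_step, mul_left_comm]
    rw [show a + (c + 2) = a + c + 2 by ring] at this
    omega
  push Not at ha hb
  interval_cases a <;> interval_cases b <;> decide

theorem Ma_mul : ∀ n a b, a + b = n → Ma a * Ma b ≤ Ma (a + b) := by
  intro n
  induction n using Nat.strong_induction_on with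
  | _ n ih =>
  intro a b hab
  by_cases ha : 9 ≤ a
  · obtain ⟨c, rfl⟩ := Nat.exists_eq_add_of_le' ha
    have := ih _ (by omega) (c + 6) b rfl
    rw [Ma_step, show c + 9 + b = c + b + 9 by ring, Ma_step, mul_assoc]
    rw [show c + 6 + b = c + b + 6 by ring] at this
    omega
  by_cases hb : 9 ≤ b
  · obtain ⟨c, rfl⟩ := Nat.exists_eq_add_of_le' hb
    have := ih _ (by omega) a (c + 6) rfl
    rw [Ma_step, show a + (c + 9) = a + c + 9 by ring, Ma_step, mul_left_comm]
    rw [show a + (c + 6) = a + c + 6 by ring] at this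
    omega
  push Not at ha hb
  interval_cases a <;> interval_cases b <;> decide

theorem le_Mx (m : ℕ) : m ≤ Mx m := by
  induction m using Nat.strong_induction_on with
  | _ m ih =>
  by_cases h : 5 ≤ m
  · obtain ⟨c, rfl⟩ := Nat.exists_eq_add_of_le' h
    have := ih (c + 2) (by omega)
    rw [Mx_step]; omega
  · push Not at h
    interval_cases m <;> decide

theorem lt_Ma (m : ℕ) (hm : 6 ≤ m) : m < Ma m := by
  induction m using Nat.strong_induction_on with
  | _ m ih =>
  by_cases h : 9 ≤ m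
  · obtain ⟨c, rfl⟩ := Nat.exists_eq_add_of_le' h
    have := ih (c + 6) (by omega) (by omega)
    rw [Ma_step]; omega
  · push Not at h
    interval_cases m <;> decide

theorem le_Ma (m : ℕ) (hm : 3 ≤ m) : m ≤ Ma m := by
  by_cases h : 6 ≤ m
  · exact (lt_Ma m h).le
  · push Not at h
    interval_cases m <;> decide

theorem Ma_pos (m : ℕ) : 0 < Ma m := by
  by_cases h : 3 ≤ m
  · have := le_Ma m h; omega
  · push Not at h
    interval_cases m <;> decide

theorem Mx_le_Ma (k : ℕ) (h2 : k ≠ 2) (h5 : k ≠ 5) : 8 * Mx k ≤ 9 * Ma k := by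
  induction k using Nat.strong_induction_on with
  | _ k ih =>
  by_cases h : 9 ≤ k
  · obtain ⟨c, rfl⟩ := Nat.exists_eq_add_of_le' h
    have := ih (c + 6) (by omega) (by omega) (by omega)
    rw [Ma_step, show c + 9 = c + 4 + 5 by ring, Mx_step, show c + 4 + 2 = c + 6 by ring]; omega
  · push Not at h
    interval_cases k <;> first | decide | omega

theorem five_mul_Ma_lt (k : ℕ) (hk : 1 ≤ k) : 5 * Ma k < Ma (k + 5) := by
  induction k using Nat.strong_induction_on with
  | _ k ih =>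
  by_cases h : 9 ≤ k
  · obtain ⟨c, rfl⟩ := Nat.exists_eq_add_of_le' h
    have := ih (c + 6) (by omega) (by omega)
    rw [Ma_step, show c + 9 + 5 = c + 5 + 9 by ring, Ma_step, show c + 5 + 6 = c + 6 + 5 by ring]
    omega
  · push Not at h
    interval_cases k <;> decide

theorem two_pow_lt_Ma (n : ℕ) (hn : 3 ≤ n) : 2 ^ (n / 2 - 1) < Ma n := by
  induction n using Nat.strong_induction_on with
  | _ n ih =>
  by_cases h : 9 ≤ n
  · obtain ⟨c, rfl⟩ := Nat.exists_eq_add_of_le' h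
    have h1 := ih (c + 3) (by omega) (by omega)
    have h2 := Ma_mul _ (c + 3) 6 rfl
    rw [show (c + 9) / 2 - 1 = (c + 3) / 2 - 1 + 3 by omega, pow_add]
    rw [show Ma 6 = 9 by decide, show c + 3 + 6 = c + 9 by ring] at h2
    omega
  · push Not at h
    interval_cases n <;> decide

theorem Ma_eq_cases {m k : ℕ} (hm : 3 ≤ m) (h : Ma (k + m) ≤ m * Ma k) :
    (m = 3 ∧ k ≠ 1 ∧ k ≠ 2 ∧ k ≠ 5) ∨ (m = 4 ∧ k ≠ 1 ∧ k ≠ 2 ∧ k ≠ 5 ∧ k ≠ 8) ∨ (m = 5 ∧ k = 0) := by
  have h1 := Ma_mul _ k m rfl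
  have h6 : m < 6 := by
    by_contra h6
    have := Nat.mul_lt_mul_of_pos_left (lt_Ma m (by omega)) (Ma_pos k)
    rw [mul_comm] at this
    omega
  interval_cases m
  · left
    refine ⟨rfl, ?_, ?_, ?_⟩ <;> rintro rfl <;> revert h <;> decide
  · right; left
    refine ⟨rfl, ?_, ?_, ?_, ?_⟩ <;> rintro rfl <;> revert h <;> decide
  · right; right
    refine ⟨rfl, ?_⟩
    by_contra h0
    have := five_mul_Ma_lt k (by omega)
    omega

theorem Mx_closed (k : ℕ) :
    Mx (3 * k) = 3 ^ k ∧ Mx (3 * (k + 1) + 1) = 4 * 3 ^ k ∧ Mx (3 * k + 2) = 2 * 3 ^ k := by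
  induction k with
  | zero => decide
  | succ k ih =>
    obtain ⟨h1, h2, h3⟩ := ih
    refine ⟨?_, ?_, ?_⟩
    · rcases k with _ | k
      · decide
      · rw [show 3 * (k + 1 + 1) = 3 * k + 1 + 5 by ring, Mx_step,
          show 3 * k + 1 + 2 = 3 * (k + 1) by ring, h1]; ring
    · rw [show 3 * (k + 1 + 1) + 1 = 3 * k + 2 + 5 by ring, Mx_step,
        show 3 * k + 2 + 2 = 3 * (k + 1) + 1 by ring, h2]; ring
    · rw [show 3 * (k + 1) + 2 = 3 * k + 5 by ring, Mx_step, h3]; ring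

theorem Ma_closed (k : ℕ) :
    Ma (3 * (k + 2)) = 3 ^ (k + 2) ∧ Ma (3 * (k + 2) + 1) = 4 * 3 ^ (k + 1) ∧
      Ma (3 * (k + 2) + 2) = 16 * 3 ^ k := by
  induction k with
  | zero => decide
  | succ k ih =>
    obtain ⟨h1, h2, h3⟩ := ih
    refine ⟨?_, ?_, ?_⟩
    · rw [show 3 * (k + 1 + 2) = 3 * k + 9 by ring, Ma_step,
        show 3 * k + 6 = 3 * (k + 2) by ring, h1]; ring
    · rw [show 3 * (k + 1 + 2) + 1 = 3 * k + 1 + 9 by ring, Ma_step,
        show 3 * k + 1 + 6 = 3 * (k + 2) + 1 by ring, h2]; ring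
    · rw [show 3 * (k + 1 + 2) + 2 = 3 * k + 2 + 9 by ring, Ma_step,
        show 3 * k + 2 + 6 = 3 * (k + 2) + 2 by ring, h3]; ring

variable {α : Type*} [DecidableEq α] [Fintype α]

/-- commutativity of a subgroup -/
def Ab {G : Type*} [Group G] (A : Subgroup G) : Prop := ∀ a ∈ A, ∀ b ∈ A, a * b = b * a

theorem Ab.mono {G : Type*} [Group G] {A B : Subgroup G} (h : Ab A) (hB : B ≤ A) : Ab B :=
  fun a ha b hb => h a (hB ha) b (hB hb)

theorem Ab.inf_orb {A : Subgroup (Perm α)} (h : Ab A) (x : α) :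
    A ⊓ SymOn (orbFin A x)ᶜ = A ⊓ stabilizer (Perm α) x := by
  ext g
  simp only [mem_inf, mem_SymOn, Finset.mem_compl, not_not, mem_stabilizer_iff, Perm.smul_def]
  refine and_congr_right fun hg => ⟨fun h1 => h1 x (self_mem_orbFin _ _), fun h1 y hy => ?_⟩
  obtain ⟨k, hk, rfl⟩ := mem_orbFin.1 hy
  rw [← Perm.mul_apply, h g hg k hk, Perm.mul_apply, h1]

theorem Ab.relIndex_orb {A : Subgroup (Perm α)} (h : Ab A) (x : α) :
    (SymOn (orbFin A x)ᶜ).relIndex A = (orbFin A x).card := by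
  rw [← inf_relIndex_left, h.inf_orb, inf_relIndex_left, relIndex_stabilizer]

theorem sdiff_orb_invariant {A : Subgroup (Perm α)} {s : Finset α}
    (hs : ∀ g ∈ A, ∀ x ∈ s, g x ∈ s) (x : α) :
    ∀ g ∈ A, ∀ y ∈ s \ orbFin A x, g y ∈ s \ orbFin A x := by
  intro g hg y hy
  rw [Finset.mem_sdiff] at hy ⊢
  exact ⟨hs g hg y hy.1, fun e => hy.2 ((apply_mem_orbFin_iff hg).1 e)⟩

theorem Ab.relIndex_le {A : Subgroup (Perm α)} (h : Ab A) (s : Finset α)
    (hs : ∀ g ∈ A, ∀ x ∈ s, g x ∈ s) : (SymOn sᶜ).relIndex A ≤ Mx s.card := by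
  induction s using Finset.strongInduction with
  | H s ih =>
  rcases s.eq_empty_or_nonempty with rfl | ⟨x, hx⟩
  · simp [SymOn_univ, Mx]
  have hO := orbFin_subset hs hx
  refine (relIndex_split A hO).trans ?_
  rw [h.relIndex_orb]
  have h1 := ih (s \ orbFin A x) (Finset.sdiff_ssubset hO ⟨x, self_mem_orbFin _ _⟩)
    (sdiff_orb_invariant hs x)
  have h2 := Mx_mul _ (orbFin A x).card (s \ orbFin A x).card rfl
  rw [add_comm, Finset.card_sdiff_add_card_eq_card hO] at h2
  exact (Nat.mul_le_mul (le_Mx _) h1).trans h2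

theorem Ab.card_le {A : Subgroup (Perm α)} (h : Ab A) : Nat.card A ≤ Mx (Fintype.card α) := by
  have := h.relIndex_le Finset.univ fun _ _ _ _ => Finset.mem_univ _
  rwa [Finset.compl_univ, SymOn_empty, relIndex_bot_left, Finset.card_univ] at this

theorem AltOn_invariant {A : Subgroup (Perm α)} {s : Finset α} (hA : A ≤ AltOn (s : Set α)) :
    ∀ g ∈ A, ∀ x ∈ s, g x ∈ s := fun _ hg _ hx => AltOn_apply_mem (hA hg) hx

theorem inf_le_AltOn_sdiff {A : Subgroup (Perm α)} {s : Finset α} (hA : A ≤ AltOn (s : Set α))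
    (O : Finset α) : A ⊓ SymOn Oᶜ ≤ AltOn ((s \ O : Finset α) : Set α) := by
  intro g hg
  refine ⟨(hA hg.1).1, fun x hx => ?_⟩
  by_cases h : x ∈ O
  · exact hg.2 x (by simpa using h)
  · exact (hA hg.1).2 x fun e => hx (by simp [Finset.mem_coe.1 e, h])

theorem Ab.card_eq {A : Subgroup (Perm α)} (h : Ab A) (x : α) :
    Nat.card A = (orbFin A x).card * Nat.card (A ⊓ SymOn (orbFin A x)ᶜ : Subgroup _) := by
  rw [card_eq_relIndex_mul A (SymOn (orbFin A x)ᶜ), h.relIndex_orb]

theorem orbFin_mono {A B : Subgroup (Perm α)} (h : A ≤ B) (x : α) : orbFin A x ⊆ orbFin B x := by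
  intro y hy
  obtain ⟨g, hg, e⟩ := mem_orbFin.1 hy
  exact mem_orbFin.2 ⟨g, h hg, e⟩

theorem AltOn_eq_bot {s : Finset α} (hs : s.card ≤ 2) : AltOn (s : Set α) = ⊥ := by
  rcases hs.eq_or_lt with h | h
  · have := two_mul_card_AltOn s h.ge
    rw [h] at this
    exact card_eq_one.1 (by simpa using this)
  · rw [eq_bot_iff, ← (card_eq_one (H := SymOn s)).1]
    · exact AltOn_le_SymOn s
    · rw [card_SymOn]
      have : s.card = 0 ∨ s.card = 1 := by omega
      rcases this with e | e <;> rw [e] <;> rfl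

theorem Ab.card_le_small (s : Finset α) : ∀ {A : Subgroup (Perm α)}, Ab A → A ≤ AltOn (s : Set α) →
    (∀ x ∈ s, (orbFin A x).card ≤ 2) → Nat.card A ≤ 2 ^ (s.card / 2 - 1) := by
  induction s using Finset.strongInduction with
  | H s ih =>
  intro A h hA h2
  by_cases h1 : A = ⊥
  · rw [h1, card_bot]; exact Nat.one_le_two_pow
  obtain ⟨g, hg, hg1⟩ := (A.bot_or_exists_ne_one).resolve_left h1
  obtain ⟨x, hx⟩ : ∃ x, g x ≠ x := by
    by_contra h3; push Not at h3; exact hg1 (Perm.ext h3)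
  have hxs : x ∈ s := by
    by_contra h3; exact hx ((hA hg).2 x h3)
  have hO := orbFin_subset (AltOn_invariant hA) hxs
  have hO2 : orbFin A x = {g x, x} := by
    symm
    apply Finset.eq_of_subset_of_card_le
    · intro y hy
      simp only [Finset.mem_insert, Finset.mem_singleton] at hy
      rcases hy with rfl | rfl
      · exact apply_mem_orbFin hg (self_mem_orbFin _ _)
      · exact self_mem_orbFin _ _
    · rw [Finset.card_pair hx]; exact h2 x hxs
  have hc : (orbFin A x).card = 2 := by rw [hO2, Finset.card_pair hx]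
  have h3 := ih (s \ orbFin A x) (Finset.sdiff_ssubset hO ⟨x, self_mem_orbFin _ _⟩)
    (h.mono inf_le_left) (inf_le_AltOn_sdiff hA _) fun y hy =>
      (Finset.card_le_card (orbFin_mono inf_le_left y)).trans (h2 y (Finset.mem_sdiff.1 hy).1)
  have h4 := Finset.card_sdiff_add_card_eq_card hO
  rw [hc] at h4
  by_cases h5 : 4 ≤ s.card
  · rw [h.card_eq x, hc, show s.card / 2 - 1 = (s \ orbFin A x).card / 2 - 1 + 1 by omega, pow_succ]
    omega
  · exfalso
    have e : g = swap (g x) x := by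
      have k : ∀ y ∈ s \ orbFin A x, g y = y := fun y hy =>
        Finset.card_le_one.1 (by omega) _ (sdiff_orb_invariant (AltOn_invariant hA) x g hg y hy) _ hy
      ext y
      by_cases c1 : y = x
      · rw [c1, swap_apply_right]
      by_cases c2 : y = g x
      · have : g (g x) ∈ orbFin A x := apply_mem_orbFin hg (apply_mem_orbFin hg (self_mem_orbFin _ _))
        rw [hO2, Finset.mem_insert, Finset.mem_singleton] at this
        rw [c2, swap_apply_left]
        exact this.resolve_left fun e => hx (g.injective e)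
      rw [swap_apply_of_ne_of_ne c2 c1]
      by_cases c3 : y ∈ s
      · exact k y (by simp [hO2, c1, c2, c3])
      · exact (hA hg).2 y c3
    have := (hA hg).1
    rw [e, sign_swap hx] at this
    exact absurd this (by decide)

theorem Ab.card_le_alt (s : Finset α) : ∀ {A : Subgroup (Perm α)}, Ab A → A ≤ AltOn (s : Set α) →
    Nat.card A ≤ Ma s.card := by
  induction s using Finset.strongInduction with
  | H s ih =>
  intro A h hA
  by_cases h3 : ∃ x ∈ s, 3 ≤ (orbFin A x).card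
  · obtain ⟨x, hx, h3⟩ := h3
    have hO := orbFin_subset (AltOn_invariant hA) hx
    have h1 := ih (s \ orbFin A x) (Finset.sdiff_ssubset hO ⟨x, self_mem_orbFin _ _⟩)
      (h.mono inf_le_left) (inf_le_AltOn_sdiff hA _)
    have h2 := Ma_mul _ (orbFin A x).card (s \ orbFin A x).card rfl
    rw [add_comm, Finset.card_sdiff_add_card_eq_card hO] at h2
    rw [h.card_eq x]
    exact (Nat.mul_le_mul (le_Ma _ h3) h1).trans h2
  · push Not at h3
    have := Ab.card_le_small s h hA fun x hx => by have := h3 x hx; omega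
    by_cases h4 : 3 ≤ s.card
    · exact this.trans (two_pow_lt_Ma _ h4).le
    · rw [show s.card / 2 - 1 = 0 by omega] at this
      exact this.trans (Ma_pos _)

theorem Ab.exists_orb_three {s : Finset α} {A : Subgroup (Perm α)} (h : Ab A)
    (hA : A ≤ AltOn (s : Set α)) (hs : 3 ≤ s.card) (hc : Nat.card A = Ma s.card) :
    ∃ x ∈ s, 3 ≤ (orbFin A x).card := by
  by_contra h3
  push Not at h3
  have := Ab.card_le_small s h hA fun x hx => by have := h3 x hx; omega
  have := two_pow_lt_Ma _ hs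
  omega

theorem Ab.structure {s : Finset α} {A : Subgroup (Perm α)} (h : Ab A)
    (hA : A ≤ AltOn (s : Set α)) (hc : Nat.card A = Ma s.card) {x : α} (hx : x ∈ s)
    (h3 : 3 ≤ (orbFin A x).card) :
    Nat.card (A ⊓ SymOn (orbFin A x)ᶜ : Subgroup _) = Ma (s \ orbFin A x).card ∧
    Ma ((s \ orbFin A x).card + (orbFin A x).card) ≤ (orbFin A x).card * Ma (s \ orbFin A x).card ∧
    Nat.card (A ⊓ SymOn (orbFin A x) : Subgroup _) = (orbFin A x).card ∧
    Dec A (A ⊓ SymOn (orbFin A x)) (A ⊓ SymOn (orbFin A x)ᶜ) := by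
  have hO := orbFin_subset (AltOn_invariant hA) hx
  set O := orbFin A x with hOdef
  have h1 := Ab.card_le_alt (s \ O) (h.mono inf_le_left) (inf_le_AltOn_sdiff hA _)
  have h2 := Ma_mul _ O.card (s \ O).card rfl
  have h4 := Finset.card_sdiff_add_card_eq_card hO
  rw [add_comm, h4] at h2
  have h5 := h.card_eq x
  rw [← hOdef] at h5
  have h6 := Nat.mul_le_mul_right (Ma (s \ O).card) (le_Ma _ h3)
  have h7 := Nat.mul_le_mul_left O.card h1
  have e1 : Nat.card (A ⊓ SymOn Oᶜ : Subgroup _) = Ma (s \ O).card :=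
    Nat.eq_of_mul_eq_mul_left (by omega : 0 < O.card) (by omega)
  have e2 : Ma ((s \ O).card + O.card) ≤ O.card * Ma (s \ O).card := by rw [h4]; omega
  have hd : (A ⊓ SymOn O) ⊓ (A ⊓ SymOn Oᶜ) = ⊥ := by
    rw [← inf_inf_distrib_left, SymOn_inf, Finset.inter_compl, SymOn_empty, inf_bot_eq]
  have h8 := card_mul_card_le (A := A) inf_le_left inf_le_left hd
  have h9 := card_eq_relIndex_mul A (SymOn (s \ O)ᶜ)
  have h10 := h.relIndex_le (s \ O) (sdiff_orb_invariant (AltOn_invariant hA) x)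
  have h11 : A ⊓ SymOn (s \ O)ᶜ = A ⊓ SymOn O := by
    ext g
    simp only [mem_inf, mem_SymOn, Finset.mem_compl, not_not, Finset.mem_sdiff]
    refine and_congr_right fun hg => ⟨fun k y hy => ?_, fun k y hy => k y hy.2⟩
    by_cases c : y ∈ s
    · exact k y ⟨c, hy⟩
    · exact (hA hg).2 y c
  rw [h11] at h9
  have e3 : Nat.card (A ⊓ SymOn O : Subgroup _) = O.card := by
    have hc' := Ma_eq_cases h3 e2
    have h12 := Mx_le_Ma (s \ O).card (by omega) (by omega)
    have hp := Ma_pos (s \ O).card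
    rw [h5, e1] at h8 h9
    have h13 := Nat.le_of_mul_le_mul_right h8 hp
    refine le_antisymm h13 ?_
    by_contra h14
    push Not at h14
    have h15 := Nat.mul_le_mul h10 (Nat.le_sub_one_of_lt h14)
    rw [← h9] at h15
    generalize Ma (s \ O).card = a at *
    generalize Mx (s \ O).card = b at *
    rcases hc' with e | e | e <;> rw [e.1] at h15 <;> omega
  exact ⟨e1, e2, e3, dec_of_card inf_le_left inf_le_left hd (by rw [e3, h5])⟩

/-- the size of a distinguished orbit -/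
def tauAb (n : ℕ) : ℕ := if n = 4 ∨ n = 8 then 4 else if n = 5 then 5 else 3

theorem Ab.exists_orb_tau (s : Finset α) : ∀ {A : Subgroup (Perm α)}, Ab A →
    A ≤ AltOn (s : Set α) → 3 ≤ s.card → Nat.card A = Ma s.card →
    ∃ x ∈ s, (orbFin A x).card = tauAb s.card := by
  induction s using Finset.strongInduction with
  | H s ih =>
  intro A h hA hs hc
  obtain ⟨x, hx, h3⟩ := h.exists_orb_three hA hs hc
  obtain ⟨e1, e2, e3, e4⟩ := h.structure hA hc hx h3
  have hO := orbFin_subset (AltOn_invariant hA) hx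
  have h4 := Finset.card_sdiff_add_card_eq_card hO
  have hc' := Ma_eq_cases h3 e2
  by_cases h5 : (orbFin A x).card = tauAb s.card
  · exact ⟨x, hx, h5⟩
  have h6 : (orbFin A x).card = 4 ∧ s.card ≠ 4 ∧ s.card ≠ 8 := by
    unfold tauAb at h5
    split_ifs at h5 <;> omega
  obtain ⟨y, hy, hy'⟩ := ih (s \ orbFin A x) (Finset.sdiff_ssubset hO ⟨x, self_mem_orbFin _ _⟩)
    (h.mono inf_le_left) (inf_le_AltOn_sdiff hA _) (by omega) e1
  refine ⟨y, (Finset.mem_sdiff.1 hy).1, ?_⟩
  have : orbFin A y = orbFin (A ⊓ SymOn (orbFin A x)ᶜ) y := by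
    refine Finset.Subset.antisymm (fun z hz => ?_) (orbFin_mono inf_le_left y)
    obtain ⟨g, hg, rfl⟩ := mem_orbFin.1 hz
    obtain ⟨u, hu, v, hv, rfl⟩ := e4.2.2 g hg
    rw [h u hu.1 v hv.1, Perm.mul_apply, hu.2 y (Finset.mem_sdiff.1 hy).2]
    exact mem_orbFin.2 ⟨v, hv, rfl⟩
  rw [this, hy']
  unfold tauAb
  split_ifs <;> omega

theorem Ab.exists_cj (s : Finset α) : ∀ {A B : Subgroup (Perm α)}, Ab A → Ab B →
    A ≤ AltOn (s : Set α) → B ≤ AltOn (s : Set α) → Nat.card A = Ma s.card →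
    Nat.card B = Ma s.card → ∃ g ∈ AltOn (s : Set α), Cj g A B := by
  induction s using Finset.strongInduction with
  | H s ih =>
  intro A B hA hB hAs hBs cA cB
  by_cases hs : 3 ≤ s.card
  swap
  · rw [AltOn_eq_bot (by omega), le_bot_iff] at hAs hBs
    exact ⟨1, one_mem _, by rw [hAs, hBs]; intro x; simp⟩
  obtain ⟨x, hx, hx'⟩ := Ab.exists_orb_tau s hA hAs hs cA
  obtain ⟨y, hy, hy'⟩ := Ab.exists_orb_tau s hB hBs hs cB
  have ht : tauAb s.card = 3 ∨ tauAb s.card = 4 ∨ tauAb s.card = 5 := by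
    unfold tauAb; split_ifs <;> simp
  obtain ⟨a1, -, a3, a4⟩ := hA.structure hAs cA hx (by omega)
  obtain ⟨b1, -, b3, b4⟩ := hB.structure hBs cB hy (by omega)
  have hO1 := orbFin_subset (AltOn_invariant hAs) hx
  have hO2 := orbFin_subset (AltOn_invariant hBs) hy
  have hc2 := two_mul_card_AltOn (orbFin B y) (by omega)
  obtain ⟨p, k, hp, hpk, hnd⟩ : ∃ p k : ℕ, p.Prime ∧ tauAb s.card = p ^ k ∧
      ¬ p ^ (k + 1) ∣ Nat.card (AltOn ((orbFin B y : Finset α) : Set α)) := by
    rw [hy'] at hc2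
    rcases ht with e | e | e <;> rw [e] at hc2 ⊢ <;> simp only [Nat.factorial] at hc2
    · exact ⟨3, 1, Nat.prime_three, rfl, by omega⟩
    · exact ⟨2, 2, Nat.prime_two, rfl, by omega⟩
    · exact ⟨5, 1, Nat.prime_five, rfl, by omega⟩
  have : Fact p.Prime := ⟨hp⟩
  refine cj_step hO1 hO2 (hx'.trans hy'.symm) (by omega) a4 b4
    (fun g hg => ⟨(hAs hg.1).1, hg.2⟩) (fun g hg => ⟨(hBs hg.1).1, hg.2⟩)
    (a3.trans (hx'.trans hpk)) (b3.trans (hy'.trans hpk)) hnd
    ((inf_le_AltOn_sdiff hAs _).trans (AltOn_le_SymOn _)) _ le_rfl fun σ V hσ hV => ?_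
  obtain ⟨τ, hτ, hτ'⟩ := ih (s \ orbFin B y) (Finset.sdiff_ssubset hO2 ⟨y, self_mem_orbFin _ _⟩)
    (A := V) (B := B ⊓ SymOn (orbFin B y)ᶜ) (fun a ha b hb => by
      have := hA _ ((hσ.symm a).1 ha).1 _ ((hσ.symm b).1 hb).1
      have h2 := congrArg (fun u => σ * u * σ⁻¹) this
      simpa [mul_assoc] using h2) (hB.mono inf_le_left)
    (fun a ha => ⟨by
      have := (hAs ((hσ.symm a).1 ha).1).1
      rwa [Perm.sign_mul, Perm.sign_mul, mul_right_comm, ← Perm.sign_mul, mul_inv_cancel, map_one,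
        one_mul] at this, hV ha⟩)
    (inf_le_AltOn_sdiff hBs _) (by
      rw [← hσ.card_eq, a1, Finset.card_sdiff_of_subset hO1, Finset.card_sdiff_of_subset hO2,
        hx', hy']) b1
  exact ⟨τ, ⟨AltOn_mono (by simp) hτ, AltOn_le_SymOn _ hτ⟩, hτ'⟩

/-- the embedding of a product of symmetric groups -/
noncomputable def sumHom {β γ δ : Type*} (e : β ⊕ γ ≃ δ) : Perm β × Perm γ →* Perm δ :=
  (e.permCongrHom : Perm (β ⊕ γ) →* Perm δ).comp (sumCongrHom β γ)

theorem sumHom_injective {β γ δ : Type*} (e : β ⊕ γ ≃ δ) : Function.Injective (sumHom e) :=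
  e.permCongrHom.injective.comp sumCongrHom_injective

theorem sign_sumHom {β γ δ : Type*} [Fintype β] [DecidableEq β] [Fintype γ] [DecidableEq γ]
    [Fintype δ] [DecidableEq δ] (e : β ⊕ γ ≃ δ) (p : Perm β × Perm γ) :
    sign (sumHom e p) = sign p.1 * sign p.2 := by
  change sign (e.permCongr (Perm.sumCongr p.1 p.2)) = _
  rw [sign_permCongr, sign_sumCongr]

/-- there is an abelian subgroup of order `c` on `n` points (even if `ev`) -/
def ExAb (ev : Prop) (n c : ℕ) : Prop :=
  ∃ A : Subgroup (Perm (Fin n)), Ab A ∧ (ev → ∀ g ∈ A, sign g = 1) ∧ Nat.card A = c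

theorem ExAb.add {ev : Prop} {n c m d : ℕ} (h1 : ExAb ev n c) (h2 : ExAb ev m d) :
    ExAb ev (n + m) (c * d) := by
  obtain ⟨A, a1, a2, a3⟩ := h1
  obtain ⟨B, b1, b2, b3⟩ := h2
  refine ⟨(A.prod B).map (sumHom finSumFinEquiv), ?_, ?_, ?_⟩
  · rintro _ ⟨p, hp, rfl⟩ _ ⟨q, hq, rfl⟩
    rw [← map_mul, ← map_mul]
    congr 1
    exact Prod.ext (a1 _ hp.1 _ hq.1) (b1 _ hp.2 _ hq.2)
  · rintro h _ ⟨p, hp, rfl⟩
    rw [sign_sumHom, a2 h _ hp.1, b2 h _ hp.2, one_mul]
  · rw [card_map_of_injective (sumHom_injective _), Nat.card_congr (Subgroup.prodEquiv A B).toEquiv,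
      Nat.card_prod, a3, b3]

theorem exAb_bot (ev : Prop) (n : ℕ) : ExAb ev n 1 :=
  ⟨⊥, fun a ha b hb => by rw [mem_bot.1 ha, mem_bot.1 hb], fun _ g hg => by
    rw [mem_bot.1 hg, map_one], card_bot⟩

theorem exAb_zpowers {ev : Prop} {n : ℕ} (g : Perm (Fin n)) (h : ev → sign g = 1) :
    ExAb ev n (orderOf g) := by
  refine ⟨zpowers g, ?_, ?_, Nat.card_zpowers g⟩
  · rintro _ ⟨a, rfl⟩ _ ⟨b, rfl⟩
    exact zpow_mul_comm g a b
  · rintro h1 _ ⟨a, rfl⟩
    simp [h h1]

theorem exAb_two : ExAb False 2 2 := by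
  have := exAb_zpowers (ev := False) (swap (0 : Fin 2) 1) False.elim
  rwa [orderOf_eq_prime (p := 2) (by decide) (by decide)] at this

theorem exAb_three (ev : Prop) : ExAb ev 3 3 := by
  have := exAb_zpowers (ev := ev) (finRotate 3) fun _ => by decide
  rwa [orderOf_eq_prime (p := 3) (by decide) (by decide)] at this

theorem exAb_five (ev : Prop) : ExAb ev 5 5 := by
  have : Fact (Nat.Prime 5) := ⟨Nat.prime_five⟩
  have := exAb_zpowers (ev := ev) (finRotate 5) fun _ => by decide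
  rwa [orderOf_eq_prime (p := 5) (by decide) (by decide)] at this

theorem exAb_four (ev : Prop) : ExAb ev 4 4 := by
  have h4 : Nat.card (Fin 4) = 4 := by simp
  have := alternatingGroup.kleinFour_isKleinFour h4
  refine ⟨(alternatingGroup.kleinFour (Fin 4)).map (alternatingGroup (Fin 4)).subtype, ?_, ?_, ?_⟩
  · have := IsKleinFour.isMulCommutative (G := alternatingGroup.kleinFour (Fin 4))
    exact isMulCommutative_iff_of_setLike.1 inferInstance
  · rintro - _ ⟨g, -, rfl⟩
    exact g.2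
  · rw [card_map_of_injective (subtype_injective _), IsKleinFour.card_four]

theorem exAb_Mx (n : ℕ) : ExAb False n (Mx n) := by
  induction n using Nat.strong_induction_on with
  | _ n ih =>
  by_cases h : 5 ≤ n
  · obtain ⟨c, rfl⟩ := Nat.exists_eq_add_of_le' h
    rw [Mx_step, mul_comm]
    exact (ih (c + 2) (by omega)).add (exAb_three _)
  · push Not at h
    interval_cases n
    exacts [exAb_bot _ _, exAb_bot _ _, exAb_two, exAb_three _, exAb_four _]

theorem exAb_Ma (n : ℕ) : ExAb True n (Ma n) := by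
  induction n using Nat.strong_induction_on with
  | _ n ih =>
  by_cases h : 9 ≤ n
  · obtain ⟨c, rfl⟩ := Nat.exists_eq_add_of_le' h
    rw [Ma_step, mul_comm]
    exact (ih (c + 6) (by omega)).add (exAb_three _)
  · push Not at h
    interval_cases n
    exacts [exAb_bot _ _, exAb_bot _ _, exAb_bot _ _, exAb_three _, exAb_four _, exAb_five _,
      (exAb_three _).add (exAb_three _), (exAb_three _).add (exAb_four _),
      (exAb_four _).add (exAb_four _)]

theorem isGreatest_Mx (n : ℕ) :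
    IsGreatest {c : ℕ | ∃ A : Subgroup (Perm (Fin n)), IsMulCommutative A ∧ Nat.card A = c}
      (Mx n) := by
  constructor
  · obtain ⟨A, h1, -, h3⟩ := exAb_Mx n
    exact ⟨A, isMulCommutative_iff_of_setLike.2 h1, h3⟩
  · rintro _ ⟨A, h1, rfl⟩
    simpa using Ab.card_le (isMulCommutative_iff_of_setLike.1 h1)

theorem map_subtype_le_AltOn (A : Subgroup (alternatingGroup α)) :
    A.map (alternatingGroup α).subtype ≤ AltOn ((Finset.univ : Finset α) : Set α) := by
  rw [Finset.coe_univ, AltOn_univ]; exact map_subtype_le A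

theorem isGreatest_Ma (n : ℕ) :
    IsGreatest {c : ℕ | ∃ A : Subgroup (alternatingGroup (Fin n)),
      IsMulCommutative A ∧ Nat.card A = c} (Ma n) := by
  constructor
  · obtain ⟨A, h1, h2, h3⟩ := exAb_Ma n
    have := isMulCommutative_iff_of_setLike.2 h1
    refine ⟨A.subgroupOf _, inferInstance, ?_⟩
    rw [← h3]
    exact Nat.card_congr (subgroupOfEquivOfLe fun g hg => h2 trivial g hg).toEquiv
  · rintro _ ⟨A, h1, rfl⟩
    have := Ab.card_le_alt Finset.univ (A := A.map (alternatingGroup (Fin n)).subtype)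
      (isMulCommutative_iff_of_setLike.1 inferInstance) (map_subtype_le_AltOn A)
    rw [card_map_of_injective (subtype_injective _)] at this
    simpa using this

theorem cj_of_cj_map {G : Type*} [Group G] {H : Subgroup G} {A B : Subgroup H} {g : H}
    (h : Cj (g : G) (A.map H.subtype) (B.map H.subtype)) : Cj g A B := fun x => by
  rw [← mem_map_iff_mem (subtype_injective H), h, ← mem_map_iff_mem (subtype_injective H)]
  rfl

end Cfsg.Agent.H3
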