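import Mathlib

set_option autoImplicit false

namespace Cfsg.Agent.H3

open Equiv Equiv.Perm

theorem mem_range_orderOf_alt_iff (n k : ℕ) :
    k ∈ Set.range (orderOf : alternatingGroup (Fin n) → ℕ) ↔
      ∃ m : Multiset ℕ, m.sum ≤ n ∧ (∀ a ∈ m, 2 ≤ a) ∧ Even (m.sum + m.card) ∧ m.lcm = k := by
  constructor
  · rintro ⟨g, rfl⟩
    refine ⟨g.1.cycleType, by simpa using sum_cycleType_le g.1,
      fun a ha => two_le_of_mem_cycleType ha, ?_, ?_⟩
    · have h := g.2
      rw [mem_alternatingGroup, sign_of_cycleType, neg_one_pow_eq_one_iff_even (by simp)] at h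
      exact h
    · rw [lcm_cycleType, Subgroup.orderOf_coe]
  · rintro ⟨m, h1, h2, h3, h4⟩
    obtain ⟨g, hg⟩ := (exists_with_cycleType_iff (α := Fin n) (m := m)).2 ⟨by simpa using h1, h2⟩
    refine ⟨⟨g, ?_⟩, ?_⟩
    · rw [mem_alternatingGroup, sign_of_cycleType, hg, h3.neg_one_pow]
    · rw [← Subgroup.orderOf_coe, ← lcm_cycleType, hg, h4]

theorem exists_mem_of_prime_dvd_lcm {r : ℕ} (hr : r.Prime) (m : Multiset ℕ) (h : r ∣ m.lcm) :
    ∃ a ∈ m, r ∣ a := by
  induction m using Multiset.induction_on with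
  | empty => simp at h; exact absurd h hr.one_lt.ne'
  | cons a s ih =>
    rw [Multiset.lcm_cons] at h
    have h2 : r ∣ a * s.lcm := h.trans (lcm_dvd_mul _ _)
    rcases (Nat.Prime.dvd_mul hr).1 h2 with h3 | h3
    · exact ⟨a, Multiset.mem_cons_self _ _, h3⟩
    · obtain ⟨b, hb, hb2⟩ := ih h3
      exact ⟨b, Multiset.mem_cons_of_mem hb, hb2⟩

end Cfsg.Agent.H3
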