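import Mathlib

set_option autoImplicit false

namespace Cfsg.Agent.H3

open Nat

theorem centralBinom_le_of_one_prime (n : ℕ) (n_large : 2 < n)
    (no_prime : ∀ p : ℕ, p.Prime → n < p → 2 * n - 2 < p) :
    centralBinom n ≤ (2 * n) ^ sqrt (2 * n) * 4 ^ (2 * n / 3) := by
  have n_pos : 0 < n := (Nat.zero_le _).trans_lt n_large
  have n2_pos : 1 ≤ 2 * n := mul_pos (zero_lt_two' ℕ) n_pos
  let S := {p ∈ Finset.range (2 * n / 3 + 1) | Nat.Prime p}
  let f x := x ^ n.centralBinom.factorization x
  have hnot : 2 * n - 1 ∉ S := by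
    simp only [S, Finset.mem_filter, Finset.mem_range]; omega
  have h0 : centralBinom n = ∏ x ∈ insert (2 * n - 1) S, f x := by
    refine (Eq.trans ?_ n.prod_pow_factorization_centralBinom).symm
    apply Finset.prod_subset
    · intro x hx
      simp only [S, Finset.mem_insert, Finset.mem_filter, Finset.mem_range] at hx ⊢
      omega
    intro x hx h2x
    dsimp only [f]
    by_cases hp : x.Prime
    · simp only [S, Finset.mem_insert, Finset.mem_filter, Finset.mem_range, hp, and_true,
        not_or] at hx h2x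
      have h1 : x ≤ n := by
        by_contra h
        have h2 := no_prime x hp (by omega)
        have h3 : x = 2 * n := by omega
        rw [h3] at hp
        exact Nat.not_prime_mul (by norm_num) (by omega) hp
      rw [factorization_centralBinom_of_two_mul_self_lt_three_mul n_large h1 (by omega),
        Nat.pow_zero]
    · rw [factorization_eq_zero_of_not_prime n.centralBinom hp, Nat.pow_zero]
  have hsq : 1 ≤ sqrt (2 * n) := Nat.le_sqrt.2 (by omega)
  rw [h0, Finset.prod_insert hnot, ←
    Finset.prod_filter_mul_prod_filter_not S (· ≤ sqrt (2 * n)), ← mul_assoc]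
  apply mul_le_mul'
  · have e : (2 * n) ^ sqrt (2 * n) = (2 * n) * (2 * n) ^ (sqrt (2 * n) - 1) := by
      rw [← _root_.pow_succ']; congr 1; omega
    rw [e]
    apply mul_le_mul' (pow_factorization_choose_le (mul_pos two_pos n_pos))
    refine (Finset.prod_le_prod' fun p _ => (?_ : f p ≤ 2 * n)).trans ?_
    · exact pow_factorization_choose_le (mul_pos two_pos n_pos)
    have : (Finset.Icc 2 (sqrt (2 * n))).card = sqrt (2 * n) - 1 := by rw [card_Icc]; omega
    rw [Finset.prod_const]
    refine pow_right_mono₀ n2_pos ((Finset.card_le_card fun x hx => ?_).trans this.le)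
    obtain ⟨h1, h2⟩ := Finset.mem_filter.1 hx
    exact Finset.mem_Icc.mpr ⟨(Finset.mem_filter.1 h1).2.two_le, h2⟩
  · refine le_trans ?_ (primorial_le_four_pow (2 * n / 3))
    refine (Finset.prod_le_prod' fun p hp => (?_ : f p ≤ p)).trans ?_
    · obtain ⟨h1, h2⟩ := Finset.mem_filter.1 hp
      refine (pow_right_mono₀ (Finset.mem_filter.1 h1).2.one_lt.le ?_).trans (pow_one p).le
      exact Nat.factorization_choose_le_one (sqrt_lt'.mp <| not_le.1 h2)
    refine Finset.prod_le_prod_of_subset_of_one_le' (Finset.filter_subset _ _) ?_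
    exact fun p hp _ => (Finset.mem_filter.1 hp).2.one_lt.le

theorem exists_prime_glue (n : ℕ) (hn : 7 ≤ n) :
    ∃ p : ℕ, p.Prime ∧ p + 2 ≤ n ∧ n + 2 ≤ 2 * p := by
  by_cases h : 1024 ≤ n
  · have n_large : 512 ≤ (n + 1) / 2 := by omega
    have h1 : 4 ^ ((n + 1) / 2) < ((n + 1) / 2) * ((n + 1) / 2).centralBinom :=
      Nat.four_pow_lt_mul_centralBinom _ (by omega)
    by_contra hc
    have h2 : ∀ p : ℕ, p.Prime → (n + 1) / 2 < p → 2 * ((n + 1) / 2) - 2 < p := by
      intro p hp h3
      by_contra h4
      have h5 := hp.eq_two_or_odd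
      exact hc ⟨p, hp, by omega, by omega⟩
    have h3 := centralBinom_le_of_one_prime ((n + 1) / 2) (by omega) h2
    have h4 := bertrand_main_inequality n_large
    rw [mul_assoc] at h4
    exact absurd (h1.trans_le ((Nat.mul_le_mul_left _ h3).trans h4)) (lt_irrefl _)
  by_cases n ≤ 8
  · exact ⟨5, by norm_num, by omega, by omega⟩
  by_cases n ≤ 12
  · exact ⟨7, by norm_num, by omega, by omega⟩
  by_cases n ≤ 20
  · exact ⟨11, by norm_num, by omega, by omega⟩
  by_cases n ≤ 36
  · exact ⟨19, by norm_num, by omega, by omega⟩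
  by_cases n ≤ 60
  · exact ⟨31, by norm_num, by omega, by omega⟩
  by_cases n ≤ 116
  · exact ⟨59, by norm_num, by omega, by omega⟩
  by_cases n ≤ 224
  · exact ⟨113, by norm_num, by omega, by omega⟩
  by_cases n ≤ 444
  · exact ⟨223, by norm_num, by omega, by omega⟩
  by_cases n ≤ 884
  · exact ⟨443, by norm_num, by omega, by omega⟩
  by_cases n ≤ 1764
  · exact ⟨883, by norm_num, by omega, by omega⟩
  omega

end Cfsg.Agent.H3
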