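import Cfsg.Agent.H3.VecAct

/-! Order, base and presentation from a permutation model; generation of small abelian
groups. -/

set_option autoImplicit false

namespace Cfsg.Agent.H3

open L0

universe u

/-- levels given by intervals: base point, first point, length -/
def ivl (L : List (ℕ × ℕ × ℕ)) : List (ℕ × Finset ℕ) :=
  L.map fun p => (p.1, Finset.Ico p.2.1 (p.2.1 + p.2.2))

theorem chainProd_ivl (L : List (ℕ × ℕ × ℕ)) :
    RAct.chainProd (ivl L) = (L.map fun p => p.2.2).prod := by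
  simp [RAct.chainProd, ivl, List.map_map, Function.comp_def]

theorem fst_ivl (L : List (ℕ × ℕ × ℕ)) : (ivl L).map Prod.fst = L.map Prod.fst := by
  simp [ivl, List.map_map, Function.comp_def]

section
variable {G : Type u} [Group G] {N k : ℕ} {T : ℕ → ℕ → ℕ} {A : RAct G N} {x : ℕ → G}

theorem chain_nil {pre : List ℕ} : A.Chain ⊤ pre (ivl []) := trivial

theorem chain_cons (h : A.Tab x k T) {S : List (List ℕ)} {pre : List ℕ} {info : ℕ → ℕ}
    {gm dsh lo n β M : ℕ} {L : List (ℕ × ℕ × ℕ)}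
    (hs : (lettersB k S && RAct.fixB T S pre && Nat.blt β N && Nat.ble (lo + n) N &&
      Nat.ble n M) = true) (hchk : ∀ t < M, RAct.levI T S info gm dsh lo n β t = true)
    (h' : A.Chain ⊤ (β :: pre) (ivl L)) : A.Chain ⊤ pre (ivl ((β, lo, n) :: L)) := by
  simp only [Bool.and_eq_true, Nat.blt_eq, Nat.ble_eq] at hs
  obtain ⟨⟨⟨⟨h1, h2⟩, h3⟩, h4⟩, h5⟩ := hs
  exact ⟨h.lev_interval (H := ⊤) h1 (fun _ _ => trivial) h2 h3 h4 h5 hchk, h'⟩

/-- what the certificates give -/
structure Core (A : RAct G N) (x : ℕ → G) (k : ℕ) (T : ℕ → ℕ → ℕ) (B : List ℕ)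
    (R : List (List ℕ)) (n : ℕ) : Prop where
  tab : A.Tab x k T
  fin : Finite G
  card : Nat.card G = n
  base : A.IsBase B
  pres : IsPres x k R

theorem core_of (h : A.Tab x k T) {B' : List ℕ} (hb : A.IsBase B')
    (ht : genL x (List.range k) = ⊤) {R : List (List ℕ)} (hk : lettersB k R = true)
    (hf : RAct.fixB T R B' = true) {n : ℕ} (hc : CardLe (PG.gen k R) (List.range k) n)
    {L : List (ℕ × ℕ × ℕ)} (hl : A.Chain ⊤ [] (ivl L)) (hn : (L.map fun p => p.2.2).prod = n)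
    {B : List ℕ} (hB : L.map Prod.fst = B) : Core A x k T B R n := by
  have rel := hb.ev_eq_one h hk hf
  have lt := lettersLt_of_B hk
  obtain ⟨_, h2⟩ := hc.top (PG.genL_range k R)
  have hs := surj_lift lt rel ht
  haveI : Finite G := Finite.of_surjective _ hs
  have h3 : Nat.card G ≤ RAct.chainProd (ivl L) := by
    rw [chainProd_ivl, hn]; exact (Nat.card_le_card_of_surjective _ hs).trans h2
  have h4 : Nat.card G = n := by rw [hl.card_eq h3, chainProd_ivl, hn]
  exact ⟨h, inferInstance, h4, by rw [← hB, ← fst_ivl]; exact hl.isBase h3,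
    isPres_of_card lt rel ht h4 hc⟩

end

/-! ### generating small abelian groups -/

theorem top_of_one {m : ℕ} (B : AddSubgroup (ZMod m)) (h : 1 ∈ B) : B = ⊤ := by
  rw [eq_top_iff]
  intro a _
  obtain ⟨z, rfl⟩ := ZMod.intCast_surjective a
  simpa using B.zsmul_mem h z

theorem top_prod {A A' : Type} [AddCommGroup A] [AddCommGroup A'] (B : AddSubgroup (A × A'))
    (h : B.comap (AddMonoidHom.inl A A') = ⊤) (h' : B.comap (AddMonoidHom.inr A A') = ⊤) :
    B = ⊤ := by
  rw [eq_top_iff]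
  intro a _
  have h1 : (a.1, 0) ∈ B := 
    (h ▸ AddSubgroup.mem_top a.1 : a.1 ∈ B.comap (AddMonoidHom.inl A A'))
  have h2 : (0, a.2) ∈ B := 
    (h' ▸ AddSubgroup.mem_top a.2 : a.2 ∈ B.comap (AddMonoidHom.inr A A'))
  simpa using B.add_mem h1 h2

theorem top_of_two {m n : ℕ} (B : AddSubgroup (ZMod m × ZMod n)) (h : (1, 0) ∈ B)
    (h' : (0, 1) ∈ B) : B = ⊤ := top_prod B (top_of_one _ h) (top_of_one _ h')

theorem top_of_three {l m n : ℕ} (B : AddSubgroup (ZMod l × ZMod m × ZMod n)) (h : (1, 0, 0) ∈ B)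
    (h' : (0, 1, 0) ∈ B) (h'' : (0, 0, 1) ∈ B) : B = ⊤ :=
  top_prod B (top_of_one _ h) (top_of_two _ h' h'')

section lower
variable {G : Type u} [Group G] [Finite G] {x : ℕ → G} {k : ℕ} {R : List (List ℕ)}

theorem lower_one (hP : IsPres x k R) {m : ℕ} {val : ℕ → ZMod m} (h : Rep k R (ZMod m) 1 val)
    (L : List (ℤ × ℕ)) (hz : zeroExp k R L = true) (h1 : (L.map fun p => p.1 • val p.2).sum = 1) :
    LowerMult G (Multiplicative (ZMod m)) :=
  h.lower hP [L] (by simpa using hz) fun B hB => top_of_one B (h1 ▸ hB L (by simp))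

theorem lower_two (hP : IsPres x k R) {m n : ℕ} {val : ℕ → ZMod m} {val' : ℕ → ZMod n}
    (h : Rep k R (ZMod m) 1 val) (h' : Rep k R (ZMod n) 1 val') (L L' : List (ℤ × ℕ))
    (hz : [L, L'].all (zeroExp k R) = true)
    (h1 : (L.map fun p => p.1 • (val p.2, val' p.2)).sum = (1, 0))
    (h2 : (L'.map fun p => p.1 • (val p.2, val' p.2)).sum = (0, 1)) :
    LowerMult G (Multiplicative (ZMod m × ZMod n)) :=
  (h.prod h').lower hP [L, L'] hz fun B hB =>
    top_of_two B (h1 ▸ hB L (by simp)) (h2 ▸ hB L' (by simp))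

theorem lower_three (hP : IsPres x k R) {l m n : ℕ} {val : ℕ → ZMod l} {val' : ℕ → ZMod m}
    {val'' : ℕ → ZMod n} (h : Rep k R (ZMod l) 1 val) (h' : Rep k R (ZMod m) 1 val')
    (h'' : Rep k R (ZMod n) 1 val'') (L L' L'' : List (ℤ × ℕ))
    (hz : [L, L', L''].all (zeroExp k R) = true)
    (h1 : (L.map fun p => p.1 • (val p.2, val' p.2, val'' p.2)).sum = (1, 0, 0))
    (h2 : (L'.map fun p => p.1 • (val p.2, val' p.2, val'' p.2)).sum = (0, 1, 0))
    (h3 : (L''.map fun p => p.1 • (val p.2, val' p.2, val'' p.2)).sum = (0, 0, 1)) :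
    LowerMult G (Multiplicative (ZMod l × ZMod m × ZMod n)) :=
  (h.prod (h'.prod h'')).lower hP [L, L', L''] hz fun B hB =>
    top_of_three B (h1 ▸ hB L (by simp)) (h2 ▸ hB L' (by simp)) (h3 ▸ hB L'' (by simp))

omit [Finite G] in
theorem lower_six (h : LowerMult G (Multiplicative (ZMod 2 × ZMod 3))) :
    LowerMult G (Multiplicative (ZMod 6)) :=
  h.congr_right (AddEquiv.toMultiplicative
    (ZMod.chineseRemainder (m := 2) (n := 3) (by norm_num)).toAddEquiv.symm)

end lower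

end Cfsg.Agent.H3
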