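import Mathlib

/-! A `2`-group with a self-centralizing four-group has a cyclic subgroup of index two. -/

set_option autoImplicit false

namespace Cfsg.Agent.H3.EB

open Subgroup

variable {S : Type*} [Group S] [Finite S]

theorem idx2 {n : ℕ} {N H : Subgroup S} (hc : Nat.card N = 2 ^ (n + 1)) (h1 : H ≤ N) (h2 : H ≠ N) :
    ∃ M : Subgroup S, H ≤ M ∧ M ≤ N ∧ Nat.card M = 2 ^ n ∧
      ∀ a ∈ N, ∀ b ∈ N, a * b ∈ M ↔ (a ∈ M ↔ b ∈ M) := by
  obtain ⟨j, j1, j2⟩ := (Nat.dvd_prime_pow Nat.prime_two).1 (hc ▸ card_dvd_of_le h1)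
  have j3 : j ≤ n := Nat.lt_succ_iff.1 (lt_of_le_of_ne j1 fun e =>
    h2 (eq_of_le_of_card_ge h1 (by rw [hc, j2, e])))
  obtain ⟨K, k1, k2⟩ := Sylow.exists_subgroup_card_pow_prime_le 2 (G := N) (m := n)
    (hc ▸ pow_dvd_pow 2 n.le_succ) (H.subgroupOf N)
    ((Nat.card_congr (subgroupOfEquivOfLe h1).toEquiv).trans j2) j3
  have k3 : K.index = 2 := Nat.eq_of_mul_eq_mul_right (Nat.two_pow_pos n) (by
    rw [← k1, index_mul_card, hc, k1, pow_succ'])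
  have k4 : ∀ a (h : a ∈ N), a ∈ K.map N.subtype ↔ (⟨a, h⟩ : N) ∈ K := fun a h =>
    mem_map_iff_mem (f := N.subtype) (x := ⟨a, h⟩) N.subtype_injective
  refine ⟨K.map N.subtype, fun a ha => (k4 a (h1 ha)).2 (k2 ha), map_subtype_le K,
    (card_map_of_injective N.subtype_injective).trans k1, fun a ha b hb => ?_⟩
  rw [k4 _ (mul_mem ha hb), k4 a ha, k4 b hb]
  exact mul_mem_iff_of_index_two k3 (a := ⟨a, ha⟩) (b := ⟨b, hb⟩)

theorem max_class {k : ℕ} (hc : Nat.card S = 2 ^ (k + 3)) {v : S}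
    (h4 : Nat.card (centralizer ({v} : Set S)) = 4) (h2 : ∀ c, Commute c v → c * c = 1) :
    ∃ (x : S) (M : Subgroup S), orderOf x = 2 ^ (k + 2) ∧ v ∉ zpowers x ∧
      v * x ^ 2 * v = (x ^ 2)⁻¹ ∧ (∀ a b, a * b ∈ M ↔ (a ∈ M ↔ b ∈ M)) ∧ v ∈ M ∧ x ∉ M ∧
      ∀ a ∈ M, a ∈ zpowers (x ^ 2) ∨ IsConj v a := by
  have vv := h2 v rfl
  have vi : v⁻¹ = v := inv_eq_of_mul_eq_one_left vv
  have k0 := Nat.two_pow_pos k
  have ct : Nat.card (⊤ : Subgroup S) = 2 ^ (k + 2 + 1) := card_top.trans hc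
  have c1 : centralizer {v} ≠ ⊤ := fun e => by rw [e, ct, pow_succ, pow_add] at h4; omega
  have v1 : v ≠ 1 := fun e => c1 (by simp [e])
  obtain ⟨M, m1, -, m2, m3⟩ := idx2 ct le_top c1
  obtain ⟨a, ha⟩ : ∃ a, a ∉ M := by
    by_contra hn
    push Not at hn
    rw [(eq_top_iff' M).2 hn, ct, pow_succ] at m2
    have := Nat.two_pow_pos (k + 2)
    omega
  obtain ⟨M', n1, -, n2, n3⟩ := idx2 ct le_top (H := zpowers a) fun e => c1 (eq_top_iff.2
    fun s _ => mem_centralizer_singleton_iff.2 (by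
      obtain ⟨i, rfl⟩ := mem_zpowers_iff.1 (e ▸ mem_top s : s ∈ zpowers a)
      obtain ⟨j, rfl⟩ := mem_zpowers_iff.1 (e ▸ mem_top v : v ∈ zpowers a)
      exact Commute.zpow_zpow_self a i j))
  simp only [mem_top, forall_const] at m3 n3
  have vM : v ∈ M := m1 (mem_centralizer_singleton_iff.2 rfl)
  have aM : a ∈ M' := n1 (mem_zpowers a)
  obtain ⟨N, n4, n5, n6, n7⟩ := idx2 m2 (inf_le_left (b := M')) fun e => ha (by
    rw [eq_of_le_of_card_ge (inf_eq_left.1 e) (n2.trans m2.symm).le]; exact aM)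
  have cj : ∀ s, v * (s * v * s⁻¹) ∈ M ⊓ M' := fun s => mem_inf.2 ⟨by
    simp only [m3, inv_mem_iff]; tauto, by simp only [n3, inv_mem_iff]; tauto⟩
  have sj : ∀ n ∈ N, ∃ s, n = v * (s * v * s⁻¹) := fun n hn => by
    let f : S ⧸ centralizer ({v} : Set S) → N := fun q => ⟨_, n4 (cj q.out)⟩
    have : Function.Bijective f := (Nat.bijective_iff_injective_and_card f).2 ⟨fun q r e => by
      rw [← q.out_eq', ← r.out_eq', QuotientGroup.eq, mem_centralizer_singleton_iff]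
      have : q.out * v * q.out⁻¹ = r.out * v * r.out⁻¹ := mul_left_cancel (congrArg Subtype.val e)
      rw [mul_assoc, inv_mul_eq_iff_eq_mul, ← mul_assoc, ← mul_assoc, this, inv_mul_cancel_right],
      Nat.eq_of_mul_eq_mul_right four_pos (by
        rw [← h4, ← card_eq_card_quotient_mul_card_subgroup, hc, h4, n6]; ring)⟩
    obtain ⟨q, hq⟩ := this.2 ⟨n, hn⟩
    exact ⟨_, (congrArg Subtype.val hq).symm⟩
  have hN : ∀ n, n ∈ N ↔ n ∈ M ∧ n ∈ M' := fun n => ⟨fun h => by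
    obtain ⟨s, rfl⟩ := sj n h
    exact cj s, fun h => n4 h⟩
  have iv : ∀ n ∈ N, v * n * v = n⁻¹ := fun n h => by
    obtain ⟨s, rfl⟩ := sj n h
    simp only [← mul_assoc, vv, one_mul, mul_inv_rev, inv_inv, vi]
  have vN : v ∉ N := fun h => by
    obtain ⟨s, hs⟩ := sj v h
    exact v1 (by simpa using hs)
  have d1 : ∀ s ∈ M, ∃ m ∈ N, v * (s * v * s⁻¹) = m * m := fun s hs => by
    by_cases h : s ∈ N
    · exact ⟨s⁻¹, inv_mem h, by rw [← iv s h]; simp only [mul_assoc]⟩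
    have h' : v * s ∈ N := (n7 v vM s hs).2 (by tauto)
    refine ⟨_, h', ?_⟩
    rw [show s⁻¹ = s by simpa [vi, mul_assoc, vv] using iv _ (inv_mem h')]
    simp only [mul_assoc]
  obtain ⟨z, hz⟩ : ∃ z, z = v * (a * v * a⁻¹) := ⟨_, rfl⟩
  have d2 : ∀ n ∈ N, ∃ m ∈ N, n = m * m ∨ n = z * (m * m) := fun n hn => by
    obtain ⟨s, rfl⟩ := sj n hn
    by_cases h : s ∈ M
    · obtain ⟨m, h1, h2⟩ := d1 s h
      exact ⟨m, h1, Or.inl h2⟩
    obtain ⟨m, h1, h2⟩ := d1 (a⁻¹ * s) (by simp only [m3, inv_mem_iff]; tauto)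
    refine ⟨a * m * a⁻¹, by simp only [hN, m3, n3, inv_mem_iff] at h1 ⊢; tauto, Or.inr ?_⟩
    rw [conj_mul, ← h2, hz]
    simp [mul_assoc, ← mul_assoc v v, vv]
  have d3 : ∀ H ≤ N, H ≠ N → ∃ L, H ≤ L ∧ z ∉ L ∧ ∀ m ∈ N, m * m ∈ L := fun H h1 h2 => by
    obtain ⟨L, l1, l2, l3, l4⟩ := idx2 n6 h1 h2
    have l5 : ∀ m ∈ N, m * m ∈ L := fun m h => (l4 m h m h).2 Iff.rfl
    refine ⟨L, l1, fun e => ?_, l5⟩
    have := card_le_of_le (show N ≤ L from fun n hn => by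
      obtain ⟨m, h1, rfl | rfl⟩ := d2 n hn
      exacts [l5 m h1, mul_mem e (l5 m h1)])
    rw [l3, n6] at this
    omega
  have nb : ⊥ ≠ N := fun e => by rw [← e, card_bot] at n6; omega
  obtain ⟨x, x1, x2⟩ : ∃ x, x ∉ M ∧ ¬ ∃ m ∈ N, x * x = m * m := by
    obtain ⟨L, -, l2, l3⟩ := d3 ⊥ bot_le nb
    by_contra hn
    push Not at hn
    obtain ⟨m, h1, h2⟩ := hn a ha
    obtain ⟨n, h3, h4⟩ := hn (v * a) (by simp only [m3]; tauto)
    exact l2 (by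
      rw [show z = v * a * (v * a) * (a * a)⁻¹ by rw [hz]; group, h2, h4]
      exact mul_mem (l3 n h3) (inv_mem (l3 m h1)))
  have x3 : x ^ 2 ∈ N := by simp only [pow_two, hN, m3, n3, and_self]
  have x4 : zpowers (x ^ 2) = N := by
    by_contra hn
    obtain ⟨L, l1, l2, l3⟩ := d3 _ (zpowers_le.2 x3) hn
    obtain ⟨m, h1, h | h⟩ := d2 _ x3
    · exact x2 ⟨m, h1, pow_two x ▸ h⟩
    · exact l2 ((mul_mem_cancel_right (l3 m h1)).1 (h ▸ l1 (mem_zpowers _)))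
  have x5 : x * x ≠ 1 := fun e => x2 ⟨1, one_mem _, by simp [e]⟩
  refine ⟨x, M, ?_, fun h => x5 (h2 x ?_), iv _ x3, m3, vM, x1, fun b hb => ?_⟩
  · have h1 : orderOf (x ^ 2) = 2 ^ (k + 1) := by rw [← Nat.card_zpowers, x4, n6]
    obtain ⟨j, -, hj⟩ := (Nat.dvd_prime_pow Nat.prime_two).1 (hc ▸ orderOf_dvd_natCard x)
    rcases j with _ | j
    · exact absurd (by simp [orderOf_eq_one_iff.1 hj]) x5
    rw [orderOf_pow_of_dvd two_ne_zero (hj ▸ dvd_pow_self 2 j.succ_ne_zero), hj, pow_succ,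
      Nat.mul_div_cancel _ two_pos] at h1
    rw [hj, pow_succ, h1, ← pow_succ]
  · obtain ⟨i, rfl⟩ := mem_zpowers_iff.1 h
    exact Commute.self_zpow x i
  rw [x4]
  refine or_iff_not_imp_left.2 fun h => ?_
  obtain ⟨s, hs⟩ := sj _ ((n7 v vM b hb).2 (by tauto))
  exact isConj_iff.2 ⟨s, (mul_left_cancel hs).symm⟩

end Cfsg.Agent.H3.EB
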