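import Cfsg.Agent.H3.EB1
import Cfsg.Agent.L0.EP.A0

/-! The dihedral Sylow `2`-subgroup. -/

set_option autoImplicit false

namespace Cfsg.Agent.H3.EB

open Subgroup L0.EP

variable {G : Type*} [Group G] [Finite G]

/-- a dihedral Sylow `2`-subgroup which is the centralizer of its central involution -/
structure DH (G : Type*) [Group G] (k : ℕ) where
  x : G
  v : G
  ord : orderOf x = 2 ^ (k + 2)
  vv : v * v = 1
  inv : v * x * v = x⁻¹
  vn : v ∉ zpowers x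
  cent : ∀ c, Commute c (x ^ 2 ^ (k + 1)) → c ∈ zpowers x ∨ v * c ∈ zpowers x
  c1 : IsConj (x ^ 2 ^ (k + 1)) v
  c2 : IsConj (x ^ 2 ^ (k + 1)) (v * x)
  card : Nat.card (centralizer ({x ^ 2 ^ (k + 1)} : Set G)) = 2 ^ (k + 3)
  odd : Odd (centralizer ({x ^ 2 ^ (k + 1)} : Set G)).index
  syl : ∀ g, PE 2 g → ∃ c, Commute (c * g * c⁻¹) (x ^ 2 ^ (k + 1))

theorem inv_cyc {x c : G} {n : ℕ} (h : orderOf x = 2 * n) (hc : c ∈ zpowers x) (h2 : c * c = 1) :
    c = 1 ∨ c = x ^ n := by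
  classical
  obtain ⟨i, hi, rfl⟩ := Finset.mem_image.1 (mem_zpowers_iff_mem_range_orderOf.1 hc)
  rw [← pow_add, ← orderOf_dvd_iff_pow_eq_one, ← two_mul, h,
    Nat.mul_dvd_mul_iff_left two_pos] at h2
  obtain ⟨j, rfl⟩ := h2
  rw [Finset.mem_range, h, mul_comm 2] at hi
  have := Nat.lt_of_mul_lt_mul_left hi
  interval_cases j <;> simp

omit [Finite G] in
theorem inv_zpow_of {v a : G} (vv : v * v = 1) (h : v * a * v = a⁻¹) (i : ℤ) :
    v * a ^ i * v = (a ^ i)⁻¹ := by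
  have := conj_zpow (a := v) (b := a) (i := i)
  rw [inv_eq_of_mul_eq_one_left vv, h, inv_zpow] at this
  exact this.symm

theorem exists_DH [IsSimpleGroup G] (hG : ¬ IsMulCommutative G) (h : EPPO G) (V : Subgroup G)
    (h4 : Nat.card V = 4) (h2 : ∀ v ∈ V, v * v = 1) (hc : centralizer (V : Set G) = V) {y g : G}
    (hy : y ∈ normalizer (V : Set G)) (y3 : orderOf y = 3) (hg : g ∈ normalizer (V : Set G))
    (g1 : g ∉ V) (g2 : g * g ∈ V) : ∃ k, Nonempty (DH G k) := by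
  have cm : ∀ a ∈ V, ∀ b ∈ V, b * a = a * b := fun a ha b hb => by
    have : a ∈ centralizer (V : Set G) := hc.symm ▸ ha
    exact this b hb
  obtain ⟨v, v1, v2⟩ : ∃ v ∈ V, g * v * g⁻¹ ≠ v := by
    by_contra hn
    push Not at hn
    exact g1 (hc ▸ fun v hv => (mul_inv_eq_iff_eq_mul.1 (hn v hv)).symm)
  have v3 := (mem_normalizer_iff.1 hg v).1 v1
  have vv := h2 v v1
  obtain ⟨t, ht⟩ : ∃ t, t = v * (g * v * g⁻¹) := ⟨_, rfl⟩
  have t1 : t ∈ V := ht ▸ mul_mem v1 v3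
  have v4 : v * t = g * v * g⁻¹ := by rw [ht, ← mul_assoc, vv, one_mul]
  have t2 : t ≠ 1 := fun e => v2 (by rw [← v4, e, mul_one])
  have v0 : v ≠ 1 := fun e => v2 (by simp [e])
  have tv : v ≠ t := fun e => v0 (by simpa [← e, vv] using v4.symm)
  have tg : Commute g t := comm_of_conj (by
    rw [ht, ← conj_mul, show g * (g * v * g⁻¹) * g⁻¹ = g * g * v * (g * g)⁻¹ by group,
      cm v v1 _ g2, mul_inv_cancel_right, cm v v1 _ v3])
  have mV : ∀ w ∈ V, w = 1 ∨ w = v ∨ w = t ∨ w = v * t := fun w hw => by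
    have : Nontrivial V := ⟨⟨⟨v, v1⟩, 1, fun e => v0 (congrArg Subtype.val e)⟩⟩
    have : IsKleinFour V := ⟨h4, (Monoid.exponent_eq_prime_iff Nat.prime_two).2 fun a ha =>
      orderOf_eq_prime (Subtype.ext ((pow_two _).trans (h2 a a.2))) ha⟩
    by_contra hn
    push Not at hn
    exact hn.2.2.2 (congrArg Subtype.val (IsKleinFour.eq_mul_of_ne_all (x := (⟨v, v1⟩ : V))
      (y := ⟨t, t1⟩) (z := ⟨w, hw⟩) (by simpa) (by simpa) (by simpa) (by simpa using hn.1)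
      (by simpa using hn.2.1) (by simpa using hn.2.2.1)))
  have cV : ∀ c, Commute c v → Commute c t → c ∈ V := fun c h1 h3 => hc ▸ fun w hw => by
    rcases mV w hw with rfl | rfl | rfl | rfl
    exacts [by simp, h1.symm, h3.symm, (h1.mul_right h3).symm]
  have c1 : IsConj t v := by
    rcases mV _ ((mem_normalizer_iff.1 hy t).1 t1) with e | e | e | e
    · exact absurd (by simpa using e) t2
    · exact isConj_iff.2 ⟨y, e⟩
    · have := h.eq_one_of_comm (comm_of_conj e).symm (pe_of_sq (h2 t t1)) t2 (by rw [y3]; decide)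
      simp [this] at y3
    · exact (isConj_iff.2 ⟨y, e.trans v4⟩).trans (isConj_iff.2 ⟨g, rfl⟩).symm
  obtain ⟨S, hS⟩ : ∃ S, S = centralizer ({t} : Set G) := ⟨_, rfl⟩
  have mS : ∀ c, c ∈ S ↔ Commute c t := fun c => hS ▸ mem_centralizer_singleton_iff
  have pS : IsPGroup 2 S := isPGroup_of_pe fun c hc' =>
    h.pe_of_comm Nat.prime_two ((mS c).1 hc').symm (pe_of_sq (h2 t t1)) t2
  have VS : V ≤ S := fun w hw => (mS w).2 (cm t t1 w hw)
  obtain ⟨P, hP⟩ := pS.exists_le_sylow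
  have hPS : S = P := le_antisymm hP fun c hc' => by
    obtain ⟨z, -, z1, z2⟩ := exists_central_iv P.isPGroup' fun e => v0 (mem_bot.1 (e ▸ hP (VS v1)))
    have z3 := z2 g (hP ((mS g).2 tg))
    rcases mV z (cV z (z2 v (hP (VS v1))).symm (z2 t (hP (VS t1))).symm) with e | e | e | e
    · exact absurd e z1.2
    · exact absurd (mul_inv_eq_iff_eq_mul.2 (e ▸ z3)) v2
    · exact (mS c).2 (e ▸ z2 c hc')
    · refine absurd (mul_inv_eq_iff_eq_mul.2 ?_) v2
      simpa [e, mul_assoc, h2 t t1] using (z3.mul_right tg).eq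
  obtain ⟨n, hn⟩ := pS.exists_card_eq
  obtain ⟨k, rfl⟩ : ∃ k, n = k + 3 := Nat.exists_eq_add_of_le' (le_of_not_gt fun e => g1 (by
    rw [eq_of_le_of_card_ge VS (by rw [hn, h4]; interval_cases n <;> omega)]; exact (mS g).2 tg))
  obtain ⟨⟨x, xS⟩, M, x1, x2, x3, m1, m2, m3, m4⟩ := max_class hn (v := ⟨v, VS v1⟩) (by
    rw [← h4, ← Nat.card_congr (subgroupOfEquivOfLe VS).toEquiv]
    congr 2
    ext c
    rw [mem_centralizer_singleton_iff, mem_subgroupOf, Subtype.ext_iff]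
    exact ⟨fun e => cV _ e ((mS _).1 c.2), fun e => cm v v1 _ e⟩)
    fun c e => Subtype.ext (h2 _ (cV _ (congrArg Subtype.val e) ((mS _).1 c.2)))
  have zp : ∀ a b : S, a ∈ zpowers b ↔ (a : G) ∈ zpowers (b : G) := fun a b =>
    exists_congr fun i => Subtype.ext_iff
  rw [← orderOf_coe] at x1
  rw [zp] at x2
  replace x3 : v * x ^ 2 * v = (x ^ 2)⁻¹ := congrArg Subtype.val x3
  have vi : v⁻¹ = v := inv_eq_of_mul_eq_one_left vv
  have x4 := inv_zpow_of vv x3
  have ix : ∀ a ∈ S, ∀ b ∈ S, a * b ∈ zpowers x ↔ (a ∈ zpowers x ↔ b ∈ zpowers x) :=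
    fun a ha b hb => by
      have := mul_mem_iff_of_index_two (H := zpowers (⟨x, xS⟩ : S)) (Nat.eq_of_mul_eq_mul_right
        (Nat.two_pow_pos (k + 2)) (by rw [← pow_succ', ← hn, ← x1, orderOf_coe, ← Nat.card_zpowers,
          index_mul_card])) (a := ⟨a, ha⟩) (b := ⟨b, hb⟩)
      simpa only [zp, coe_mul] using this
  have ic := fun c => inv_cyc (c := c) (x1.trans (pow_succ' 2 (k + 1)))
  have x5 : x * x ≠ 1 := fun e => by
    have := Nat.le_of_dvd two_pos (x1 ▸ orderOf_dvd_of_pow_eq_one ((pow_two x).trans e))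
    have := Nat.two_pow_pos k
    rw [pow_add] at *
    omega
  obtain rfl : t = x ^ 2 ^ (k + 1) := by
    have w1 : x ^ 2 ^ (k + 1) * x ^ 2 ^ (k + 1) = 1 := by
      rw [← pow_two, ← pow_mul, ← pow_succ, ← x1, pow_orderOf_eq_one]
    have w2 := x4 (2 ^ k : ℕ)
    rw [zpow_natCast, ← pow_mul, ← pow_succ', inv_eq_of_mul_eq_one_left w1] at w2
    rcases mV _ (cV _ (comm_of_conj (by rwa [vi])).symm ((mS _).1 (pow_mem xS _))) with e | e | e | e
    · have := Nat.le_of_dvd (by positivity) (x1 ▸ orderOf_dvd_of_pow_eq_one e)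
      exact absurd ((Nat.pow_le_pow_iff_right one_lt_two).1 this) (by omega)
    · exact absurd (e ▸ npow_mem_zpowers x _) x2
    · exact e.symm
    · refine absurd (h2 x (cV x ?_ ((mS x).1 xS))) x5
      simpa [e, mul_assoc, h2 t t1] using (Commute.self_pow x (2 ^ (k + 1))).mul_right ((mS x).1 xS)
  have hf : ∀ a ∈ S, a * a ≠ 1 → a ^ (orderOf a / 2) = x ^ 2 ^ (k + 1) := fun a ha a1 => by
    obtain ⟨j, -, hj⟩ := (Nat.dvd_prime_pow Nat.prime_two).1
      (hn ▸ S.orderOf_dvd_natCard ha)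
    rcases j with _ | _ | j
    · exact absurd (by simp [orderOf_eq_one_iff.1 hj]) a1
    · exact absurd ((pow_two a).symm.trans (orderOf_dvd_iff_pow_eq_one.1 hj.dvd)) a1
    rw [hj, pow_succ, Nat.mul_div_cancel _ two_pos]
    refine (ic _ (by
      rw [pow_succ', pow_mul, pow_two]; exact pow_mem ((ix a ha a ha).2 Iff.rfl) _) (by
      rw [← pow_two, ← pow_mul, ← pow_succ, ← hj, pow_orderOf_eq_one])).resolve_left fun e => ?_
    have := Nat.le_of_dvd (by positivity) (hj ▸ orderOf_dvd_of_pow_eq_one e)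
    have := Nat.two_pow_pos (j + 1)
    omega
  have tM : ∀ a : S, (a : G) ∈ zpowers x → (a : G) * a = 1 → a ∈ M := fun a a1 a2 => by
    rcases ic _ a1 a2 with e | e
    · exact (show a = 1 from Subtype.ext e) ▸ one_mem M
    · rw [show a = (⟨x, xS⟩ * ⟨x, xS⟩) ^ 2 ^ k from Subtype.ext (by
        rw [e, pow_succ', pow_mul, pow_two]; rfl)]
      exact pow_mem ((m1 _ _).2 Iff.rfl) _
  obtain ⟨w, w1, w2⟩ : ∃ w, w ∉ M ∧ IsConj (x ^ 2 ^ (k + 1)) (w : G) := by
    by_contra hn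
    push Not at hn
    have k1 : ∀ a b : S, IsConj (a : G) b → a ∈ M → b ∈ M := fun a b e ha => by
      obtain ⟨u, hu⟩ := isConj_iff.1 e
      by_cases a1 : (a : G) * a = 1
      · by_contra hb
        refine hn b hb (IsConj.trans ?_ e)
        rcases m4 a ha with e' | e'
        · refine (ic _ (zpowers_le.2 (npow_mem_zpowers x 2) ((zp _ _).1 e')) a1).elim
            (fun e => absurd (show b = 1 from Subtype.ext (by simp [← hu, e])) fun e =>
              hb (e ▸ one_mem M)) fun e => e ▸ IsConj.refl _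
        · exact c1.trans (MonoidHom.map_isConj S.subtype e')
      have u1 : u ∈ S := (mS u).2 (comm_of_conj (by
        conv_lhs => rw [← hf a a.2 a1, ← conj_pow, ← H2.orderOf_conj' u, hu]
        exact hf b b.2 fun e => a1 (by simpa [← hu, conj_mul] using e)))
      rw [show b = ⟨u, u1⟩ * a * ⟨u, u1⟩⁻¹ from Subtype.ext hu.symm]
      simp only [m1, inv_mem_iff]
      tauto
    have k2 : S.focalSubgroup ≤ M.map S.subtype :=
      (closure_le _).2 (by
        rintro _ ⟨a1, a, a2, u, rfl⟩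
        have a3 : u * a⁻¹ * u⁻¹ ∈ S := by
          simpa [commutatorElement_def, mul_assoc] using mul_mem (inv_mem a2) a1
        have a4 : IsConj a⁻¹ (u * a⁻¹ * u⁻¹) := isConj_iff.2 ⟨u, rfl⟩
        refine ⟨⟨a, a2⟩ * ⟨_, a3⟩, (m1 _ _).2 ((inv_mem_iff.symm).trans
          ⟨k1 _ _ a4, k1 _ _ a4.symm⟩), by simp [commutatorElement_def, mul_assoc]⟩)
    have k3 := commutator_inf_eq_focalSubgroup P
    rw [(IsSimpleGroup.eq_bot_or_eq_top_of_normal (_root_.commutator G) inferInstance).resolve_left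
      fun e => hG ((commutator_eq_bot_iff G).1 e), top_inf_eq, ← hPS] at k3
    obtain ⟨a, a1, a2⟩ := k2 (k3 ▸ xS)
    exact m3 ((show a = ⟨x, xS⟩ from Subtype.ext a2) ▸ a1)
  have w3 : (w : G) * w = 1 := by
    obtain ⟨c, hc⟩ := isConj_iff.1 w2
    rw [← hc, conj_mul, h2 _ t1]
    simp
  obtain ⟨i, hi⟩ := mem_zpowers_iff.1 ((ix v (VS v1) w w.2).2
    (iff_of_false x2 fun e => w1 (tM w e w3)))
  obtain ⟨j, rfl | rfl⟩ := Int.even_or_odd' i
  · refine absurd (((m1 ⟨v, VS v1⟩ w).1 ?_).1 m2) w1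
    rw [show ⟨v, VS v1⟩ * w = (⟨x, xS⟩ * ⟨x, xS⟩) ^ j from Subtype.ext (by
      simp [← hi, zpow_mul, pow_two])]
    exact zpow_mem ((m1 _ _).2 Iff.rfl) _
  have w4 : (w : G) = v * ((x ^ 2) ^ j * x) := by
    rw [← zpow_natCast, ← zpow_mul, ← zpow_add_one, Nat.cast_ofNat, hi, ← mul_assoc, vv, one_mul]
  have x6 : v * x * v = x⁻¹ := by
    rw [w4, show v * ((x ^ 2) ^ j * x) * (v * ((x ^ 2) ^ j * x)) = v * (x ^ 2) ^ j * v *
      (v * x * v) * ((x ^ 2) ^ j * x) by simp [mul_assoc, ← mul_assoc v v, vv], x4 j,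
      ← ((Commute.self_pow x 2).zpow_right j).eq, mul_assoc, inv_mul_eq_one, ← mul_assoc,
      right_eq_mul] at w3
    exact eq_inv_of_mul_eq_one_left w3
  refine ⟨k, ⟨⟨x, v, x1, vv, x6, x2, fun c e => or_iff_not_imp_left.2 fun e' =>
    (ix v (VS v1) c ((mS c).2 e)).2 (iff_of_false x2 e'), c1, w2.trans (isConj_iff.2 ⟨x ^ j, ?_⟩),
    hS ▸ hn, hS ▸ hPS ▸ Nat.odd_iff.2 (Nat.two_dvd_ne_zero.1 P.not_dvd_index), fun a ha => ?_⟩⟩⟩
  · have : x ^ j * v = v * (x ^ j)⁻¹ := by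
      simp [← inv_zpow_of vv x6 j, ← mul_assoc, vv]
    rw [w4, ← mul_assoc, this, ← zpow_natCast]
    group
  obtain ⟨Q, hQ⟩ := (isPGroup_of_pe (p := 2) (P := zpowers a) fun b hb => by
    obtain ⟨i, rfl⟩ := mem_powers_iff_mem_zpowers.2 hb
    exact ha.pow i).exists_le_sylow
  obtain ⟨c, hc⟩ := MulAction.exists_smul_eq G Q P
  exact ⟨c, (mS _).1 (hPS.ge (hc ▸ conj_mem_smul (hQ (mem_zpowers a)) c))⟩

end Cfsg.Agent.H3.EB
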