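import Cfsg.Agent.H3.NJ

/-! Case analysis on the automizer. -/

set_option autoImplicit false
set_option linter.unusedSectionVars false

namespace Cfsg.Agent.H3.NQ

open Cfsg Cfsg.Agent.H1 Subgroup Finset Matrix

theorem sum_supp {ι : Type*} [Fintype ι] [DecidableEq ι] {v : ι → ℤ} {s : Finset ι}
    (h : v ⬝ᵥ v ≤ ∑ i ∈ s, v i * v i) {R : Type} [Ring R] (g : ι → R) :
    ∑ i, v i * g i = ∑ i ∈ s, v i * g i :=
  (sum_subset (subset_univ s) fun i _ hi => by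
    have := sq_le v (insert i s)
    rw [sum_insert hi] at this
    rw [show v i = 0 by nlinarith, Int.cast_zero, zero_mul]).symm

theorem dvd_cases {d a : ℕ} (h : d ∣ 9 * 2 ^ a) : ∃ c k, (c = 1 ∨ c = 3 ∨ c = 9) ∧ d = c * 2 ^ k := by
  obtain ⟨c, e, h1, h2, rfl⟩ := (Nat.dvd_mul).1 h
  obtain ⟨k, -, rfl⟩ := (Nat.dvd_prime_pow Nat.prime_two).1 h2
  have := Nat.le_of_dvd (by norm_num) h1
  exact ⟨c, k, by interval_cases c <;> omega, rfl⟩

variable {G : Type*} [Group G] [Fintype G] [IsSimpleGroup G] {q a : ℕ} [Fact q.Prime]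

theorem abs_lt_dg (hG : ¬ IsMulCommutative G) {χ : IrrCharacter G} (h : χ ≠ tr1 G) {z : G}
    (hz : z ≠ 1) {v : ℤ} (hv : χ.1 z = v) : |v| < dg χ := by
  have := (np h).norm_ne hG (dg_eq χ) hz
  rw [hv, Complex.norm_intCast] at this
  exact_mod_cast this

theorem v_zero (hG : ¬ IsMulCommutative G) {χ : IrrCharacter G} (h : χ ≠ tr1 G) {z : G}
    (hz : z ≠ 1) (ho : Odd (centralizer ({z} : Set G)).index) {v : ℤ} (hv : χ.1 z = v) (k : ℕ)
    (hk : dg χ = 2 ^ k) : v = 0 := by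
  have := (np h).burn hG (dg_eq χ) hz (hk ▸ ho.coprime_two_right.pow_right k)
  exact_mod_cast hv.symm.trans this

theorem exists_v {z : G} (hz : z * z = 1) :
    ∃ v : IrrCharacter G → ℤ, (∀ χ, χ.1 z = v χ) ∧ v (tr1 G) = 1 := by
  choose v hv using fun χ : IrrCharacter G => inv_val (chi χ) hz
  exact ⟨v, hv, by exact_mod_cast (show (v (tr1 G) : ℂ) = 1 from (hv _).symm)⟩

namespace QD

variable (D : QD G q a)

theorem red (c s t : ℕ) (σ : ℤ) (h : (q : ℤ) ∣ c * 2 ^ s - σ * 2 ^ t) : ∃ X ε : ℤ, 0 < X ∧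
    2 * X ≤ q + 1 ∧ (X = 1 ∨ 2 ∣ X) ∧ (ε = 1 ∨ ε = -1) ∧ (D.η = 1 → ε = 1) ∧
      (c = σ * ε * X ∨ (q : ℤ) ≤ c - σ * ε * X ∨ (q : ℤ) ≤ -(c - σ * ε * X)) := by
  have i0 := D.two_le
  have e1 : (2 : ZMod q) ^ D.i = D.η := by simpa using congrArg (Int.cast : ℤ → ZMod q) D.deg'
  have e2 : (D.η : ZMod q) ^ 2 = 1 := by rcases D.hη with h | h <;> simp [h]
  obtain ⟨N, hN⟩ : ∃ N, N = t + (2 * D.i - 1) * s := ⟨_, rfl⟩
  refine ⟨2 ^ (N % D.i), D.η ^ (N / D.i), by positivity, ?_, ?_, ?_, fun e => by simp [e], ?_⟩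
  · have := pow_le_pow_right₀ (show (1 : ℤ) ≤ 2 by norm_num) (Nat.mod_lt N (by omega : 0 < D.i))
    have := D.deg'
    have := D.hη
    omega
  · rcases N % D.i with _ | k
    · simp
    · exact Or.inr (dvd_pow_self 2 k.succ_ne_zero)
  · rcases D.hη with h | h
    · simp [h]
    · rw [h]
      exact neg_one_pow_eq_or ℤ _
  refine or_iff_not_imp_right.2 fun hn => sub_eq_zero.1
    (Int.eq_zero_of_abs_lt_dvd ?_ (not_le.1 (mt le_abs.1 hn)))
  rw [← ZMod.intCast_zmod_eq_zero_iff_dvd] at h ⊢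
  push_cast at h ⊢
  have : (2 : ZMod q) ^ s * 2 ^ ((2 * D.i - 1) * s) = 1 := by
    rw [← pow_add, show s + (2 * D.i - 1) * s = D.i * 2 * s by
      obtain ⟨k, hk⟩ := Nat.exists_eq_add_of_le' (show 1 ≤ 2 * D.i by omega)
      rw [mul_comm D.i, hk]; simp; ring, pow_mul, pow_mul, e1, e2, one_pow]
  rw [mul_assoc, ← e1, ← pow_mul, ← pow_add, Nat.div_add_mod, hN, pow_add]
  linear_combination 2 ^ ((2 * D.i - 1) * s) * h - c * this

theorem norm_n {j : ZMod q} (hj : j ≠ 0) : D.n j ⬝ᵥ D.n j = D.f + 1 := by simp [D.dot_n hj hj]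

theorem eta_sq : D.η * D.η = 1 := by rcases D.hη with h | h <;> simp [h]

theorem q_small (h : q ≤ 19) : (q = 5 ∧ D.η = -1) ∨ (q = 7 ∧ D.η = 1) ∨ (q = 17 ∧ D.η = -1) := by
  have h1 := D.deg'
  have h2 := D.hη
  have h3 := D.q5
  have : q ≠ 9 := fun e => absurd (e ▸ D.prime) (by norm_num)
  have : q ≠ 15 := fun e => absurd (e ▸ D.prime) (by norm_num)
  by_cases h4 : 5 ≤ D.i
  · have := pow_le_pow_right₀ (show (1 : ℤ) ≤ 2 by norm_num) h4
    omega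
  generalize D.i = i at *
  interval_cases i <;> omega

theorem key (hG : ¬ IsMulCommutative G) :
    D.f = 2 ∨ (q = 5 ∧ D.f = 4) ∨ (q = 17 ∧ (D.f = 4 ∨ D.f = 8)) ∨ D.f = 9 := by
  classical
  obtain ⟨φ, h1, h2, h3, h4, h5⟩ := D.odd_one hG one_ne_zero
  have h6 := sq_le3 (D.n 1) D.θ1.symm h1.symm h2.symm
  rw [D.n_tr1 one_ne_zero, D.n_θ one_ne_zero, D.eta_sq, D.norm_n one_ne_zero] at h6
  have h7 := mul_self_pos.2 (show D.n 1 φ ≠ 0 from fun e => by simp [e] at h3)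
  have h8 := D.f_dvd
  have h9 := (Nat.modEq_iff_dvd).1 D.f_mod.symm
  obtain ⟨c, k, c1, c2⟩ := dvd_cases D.f_dvd'
  have q5 := D.q5
  have k0 := Nat.two_pow_pos k
  have k3 : k ≤ 3 := by
    by_contra hn
    have := Nat.pow_le_pow_right two_pos (show 4 ≤ k by omega)
    rcases c1 with rfl | rfl | rfl <;> omega
  rcases c1 with rfl | rfl | rfl
  · obtain ⟨X, ε, x⟩ := D.red 9 a k 1 (by simpa [c2] using h9)
    have := D.q_small (by rcases x.2.2.2.1 with rfl | rfl <;> omega)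
    interval_cases k <;> simp only [c2, Nat.reducePow, Nat.reduceMul] at h8 <;> omega
  · have := (Dvd.intro _ c2.symm).trans h8
    obtain ⟨X, ε, x⟩ := D.red 3 a k 1 ((Nat.prime_iff_prime_int.1 D.prime).dvd_or_dvd (a := 3)
      (h9.trans (dvd_of_eq (by rw [c2]; push_cast; ring))) |>.resolve_left fun e => by
        have := Int.le_of_dvd (by norm_num) e; omega)
    have := D.q_small (by rcases x.2.2.2.1 with rfl | rfl <;> omega)
    rcases x.2.2.2.1 with rfl | rfl <;> omega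
  · omega

theorem same {j l : ZMod q} (hj : j ≠ 0) (hl : l ≠ 0) (h : l ^ D.f ≠ j ^ D.f)
    {φ ψ χ : IrrCharacter G} (h1 : φ ≠ ψ) (h2 : φ ≠ χ) (h3 : ψ ≠ χ) (h4 : D.n j φ ≠ D.n l φ)
    (h5 : D.n j ψ ≠ D.n l ψ) : D.n j χ = D.n l χ := by
  classical
  have := sq_le3 (D.n j - D.n l) h1 h2 h3
  simp only [sub_dotProduct, dotProduct_sub, D.dot_n, hj, hl, ne_eq, not_false_iff, h, h.symm,
    if_true, if_false, Pi.sub_apply] at this
  nlinarith [mul_self_pos.2 (sub_ne_zero.2 h4), mul_self_pos.2 (sub_ne_zero.2 h5)]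

theorem n_K (χ : IrrCharacter G) {j l : ZMod q} (hj : j ≠ 0) (h : l ^ D.f = j ^ D.f) :
    D.n l χ = D.n j χ := by rw [n, n, D.m_K χ hj h]

theorem no9 (hG : ¬ IsMulCommutative G) (hf : D.f = 9) : False := by
  classical
  have h8 := hf ▸ D.f_dvd
  have q5 := D.q5
  have q19 : 19 < q := lt_of_not_ge fun e => by have := D.q_small e; omega
  have e1 : D.η = 1 := D.hη.resolve_right fun e => by
    have := D.deg'
    have : 3 ∣ 2 ^ D.i := by rw [e] at this; zify; omega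
    exact absurd (Nat.prime_three.dvd_of_dvd_pow this) (by norm_num)
  have : ∀ j, j ≠ 0 → ∃ ψ, ψ ≠ D.θ ∧ dg ψ = 9 ∧ D.n j ψ = -1 ∧
      ∀ l, l ≠ 0 → l ^ D.f ≠ j ^ D.f → D.n l ψ = 0 := fun j hj => by
    obtain ⟨φ, h1, h2, ⟨r, h3⟩, h4, h5⟩ := D.odd_one hG hj
    have h6 := D.dg_ge φ {j} (by simpa using hj.symm) (by simp)
    simp only [n, sum_singleton, hf] at h3 h5 h6 ⊢
    refine ⟨φ, h2, by omega, by omega, fun l hl e => ?_⟩
    have h7 := D.dg_ge φ {j, l} (by simp [hj.symm, hl.symm]) (by simp [hf, e, e.symm])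
    rw [sum_pair (fun h => e (by rw [h])), hf] at h7
    omega
  obtain ⟨φ, f1, f2, f3, f4⟩ := this 1 one_ne_zero
  obtain ⟨χ, c1, c2⟩ : ∃ χ, χ ≠ φ ∧ D.n 1 χ < 0 := by
    by_contra hn
    push Not at hn
    have h1 := D.dot_d 1
    have h2 := single_le_sum (f := fun χ => D.n 1 χ * dg χ) (fun χ h => mul_nonneg
      (hn χ (ne_of_mem_erase h)) (by positivity)) (mem_erase.2 ⟨f1.symm, mem_univ _⟩)
    rw [dotProduct, ← add_sum_erase _ _ (mem_univ φ), f2, f3] at h1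
    have := D.deg'
    simp only [D.n_θ one_ne_zero, D.deg, e1] at h2
    push_cast at h1 h2
    omega
  have h1 := D.dg_mod (χ := χ) fun j hj => by
    by_cases e : j ^ D.f = 1 ^ D.f
    · exact D.n_K χ one_ne_zero e
    obtain ⟨ψ, -, -, p3, p4⟩ := this j hj
    have := p4 1 one_ne_zero (Ne.symm e)
    have := f4 j hj e
    exact D.same hj one_ne_zero (Ne.symm e) (φ := φ) (ψ := ψ) (by rintro rfl; omega) c1.symm
      (by rintro rfl; omega) (by omega) (by omega)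
  have h2 := sq_le2 (D.n 1) (i := χ) (j := tr1 G) (by
    rintro rfl; simp [D.n_tr1 one_ne_zero] at c2)
  rw [D.n_tr1 one_ne_zero, D.norm_n one_ne_zero, hf] at h2
  have h3 := sq_le3 (D.n 1) (i := χ) (by rintro rfl; simp [D.n_tr1 one_ne_zero] at c2)
    (by rintro rfl; simp [D.n_θ one_ne_zero, e1] at c2) D.θ1.symm
  rw [D.n_tr1 one_ne_zero, D.n_θ one_ne_zero, D.eta_sq, D.norm_n one_ne_zero, hf] at h3
  obtain ⟨c, k, k1, k2⟩ := dvd_cases (D.dvd_of_n one_ne_zero c2.ne)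
  obtain ⟨t, ht⟩ : ∃ t : ℕ, D.n 1 χ = -1 * 2 ^ t := by
    rcases show D.n 1 χ = -1 ∨ D.n 1 χ = -2 by
      have : -3 < D.n 1 χ := by push_cast at h3; nlinarith
      omega with e | e
    exacts [⟨0, e⟩, ⟨1, e⟩]
  obtain ⟨X, ε, x⟩ := D.red c k t (-1) (by simpa [k2, ht] using h1)
  obtain rfl := x.2.2.2.2.1 e1
  omega

theorem f2 (hG : ¬ IsMulCommutative G) (hf : D.f = 2) {j : ZMod q} (hj : j ≠ 0) :
    ∃ φ, φ ≠ tr1 G ∧ φ ≠ D.θ ∧ ((q = 5 ∧ dg φ = 3 ∧ D.η = -1) ∨ (q = 7 ∧ dg φ = 9 ∧ D.η = 1)) ∧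
      D.n j φ = -D.η ∧ ∀ {R : Type} [Ring R] (g : IrrCharacter G → R),
        ∑ χ, D.n j χ * g χ = g (tr1 G) + D.η * g D.θ - D.η * g φ := by
  classical
  obtain ⟨φ, h1, h2, h3, h4, -⟩ := D.odd_one hG hj
  have h6 := sq_le3 (D.n j) D.θ1.symm h1.symm h2.symm
  have h7 := mul_self_pos.2 (show D.n j φ ≠ 0 from fun e => by simp [e] at h3)
  have h8 : ∀ {R : Type} [Ring R] (g : IrrCharacter G → R),
      ∑ χ, D.n j χ * g χ = g (tr1 G) + D.η * g D.θ + D.n j φ * g φ := fun g => by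
    rw [sum_supp (s := {tr1 G, D.θ, φ})] <;>
      simp [D.θ1.symm, h1.symm, h2.symm, D.n_tr1 hj, D.n_θ hj, D.eta_sq, D.norm_n hj, hf, add_assoc]
    omega
  rw [D.n_tr1 hj, D.n_θ hj, D.eta_sq, D.norm_n hj, hf] at h6
  have h9 := (h8 _).symm.trans (D.dot_d j)
  have e1 := D.deg'
  have e2 := D.q5
  have e3 : D.n j φ = 1 ∨ D.n j φ = -1 := mul_self_eq_one_iff.1 (by omega)
  simp only [dg_tr1, D.deg, Nat.cast_pow, Nat.cast_ofNat, e1, Int.cast_id] at h9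
  have e4 : q ≤ 19 ∧ D.n j φ = -D.η := by
    rcases D.hη with e | e <;> rcases e3 with e' | e' <;> rw [e, e'] at h9 ⊢ <;> omega
  refine ⟨φ, h1, h2, ?_, e4.2, fun g => by simp [h8, e4.2, sub_eq_add_neg]⟩
  have := D.q_small e4.1
  rcases D.hη with e | e <;> rw [e4.2, e] at h9 <;> omega

theorem no52 (hG : ¬ IsMulCommutative G) (hf : D.f = 2) : q = 7 := by
  obtain ⟨φ, h1, h2, h3, -, h4⟩ := D.f2 hG hf one_ne_zero
  refine (h3.resolve_left fun ⟨_, e1, e2⟩ => ?_).1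
  obtain ⟨z, z1, z2, z3, -⟩ := D.exists_central
  obtain ⟨v, v1, v2⟩ := exists_v z1
  have v3 := v_zero hG D.θ1 z2 z3 (v1 _) _ D.deg
  have v4 := (h4 v).symm.trans (D.dot_v 1 z1 v1)
  simp only [v2, v3, e2, Int.cast_id] at v4
  have v5 : D.F 1 v = 4 / 3 := by
    rw [F, h4]
    norm_num [v2, v3, e1, e2, dg_tr1, show v φ = -1 by omega]
  have v6 := (D.invol' z1 one_ne_zero v1 (by norm_num [v5])).2
  have v7 : 3 * 2 ^ (a + 2) = Nat.card (centralizer ({z} : Set G)) ^ 2 := by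
    rw [v5] at v6
    exact_mod_cast (show (3 * 2 ^ (a + 2) : ℚ) = _ from Eq.trans (by ring) v6)
  obtain ⟨r, hr⟩ := Nat.prime_three.dvd_of_dvd_pow (Dvd.intro _ v7)
  exact absurd (Nat.prime_three.dvd_of_dvd_pow (n := a + 2) (m := 2) ⟨r ^ 2, by
    rw [hr] at v7; nlinarith⟩) (by norm_num)

end QD

instance fact17 : Fact (Nat.Prime 17) := ⟨by norm_num⟩

theorem no174 (hG : ¬ IsMulCommutative G) (D : QD G 17 a) (hf : D.f = 4) : False := by
  classical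
  obtain ⟨φ, -, -, -, h4, h5⟩ := D.odd_one hG one_ne_zero
  have h6 := D.dg_R φ {1, 2, 3, 6} (by decide) (by rw [hf]; decide) (by rw [hf]; decide)
  have h7 : ∀ j, j ≠ 0 → -3 < D.n j φ ∧ D.n j φ < 3 := fun j hj => by
    have := sq_le (D.n j) {φ}
    rw [sum_singleton, D.norm_n hj, hf] at this
    constructor <;> push_cast at this <;> nlinarith
  have h8 : ∀ j k l m : ZMod 17, (j ≠ 0 ∧ k ≠ 0 ∧ l ≠ 0 ∧ m ≠ 0 ∧ j ^ 4 ≠ k ^ 4 ∧ j ^ 4 ≠ l ^ 4 ∧
      j ^ 4 ≠ m ^ 4 ∧ k ^ 4 ≠ l ^ 4 ∧ k ^ 4 ≠ m ^ 4 ∧ l ^ 4 ≠ m ^ 4) →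
      D.n j φ + D.n k φ - D.n l φ - D.n m φ ≠ 2 := fun j k l m h e => by
    obtain ⟨a1, a2, a3, a4, a5, a6, a7, a8, a9, a0⟩ := h
    have := sum_supp (v := D.n j + D.n k - D.n l - D.n m) (s := {φ}) (by
      simp [add_dotProduct, sub_dotProduct, dotProduct_add, dotProduct_sub, D.dot_n, *, a5.symm,
        a6.symm, a7.symm, a8.symm, a9.symm, a0.symm]) fun χ => (dg χ : ℤ)
    have h0 : (D.n j + D.n k - D.n l - D.n m) ⬝ᵥ (fun χ => (dg χ : ℤ)) = 0 := by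
      simp [add_dotProduct, sub_dotProduct, D.dot_d]
    have := this.symm.trans h0
    simp [e, (dg_pos φ).ne'] at this
  have b1 := h7 1 (by decide)
  have b2 := h7 2 (by decide)
  have b3 := h7 3 (by decide)
  have b6 := h7 6 (by decide)
  have c1 := h8 1 2 3 6 (by decide)
  have c2 := h8 1 3 2 6 (by decide)
  have c3 := h8 1 6 2 3 (by decide)
  have c4 := h8 3 6 1 2 (by decide)
  have c5 := h8 2 6 1 3 (by decide)
  have c6 := h8 2 3 1 6 (by decide)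
  rw [sum_insert (by decide), sum_insert (by decide), sum_pair (by decide), hf] at h6
  simp only [QD.n, hf] at *
  omega

end Cfsg.Agent.H3.NQ
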