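import Cfsg.Agent.H3.EB2
import Cfsg.Agent.H3.NK

/-! Exceptional characters for the cyclic subgroup of a dihedral Sylow `2`-subgroup. -/

set_option autoImplicit false
set_option linter.unusedSectionVars false

namespace Cfsg.Agent.H3.EB

open Cfsg Cfsg.Agent.H1 Subgroup Finset Matrix L0.EP NQ
open scoped ComplexConjugate

section
variable {N : ℕ} [NeZero N]

/-- additive character -/
noncomputable def ec (k : ZMod N) : ℂ := ZMod.stdAddChar k

theorem ec_add (k l : ZMod N) : ec (k + l) = ec k * ec l := AddChar.map_add_eq_mul _ k l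

theorem ec_zero : ec (0 : ZMod N) = 1 := AddChar.map_zero_eq_one _

theorem sum_ec (b : ZMod N) : ∑ k, ec (b * k) = if b = 0 then (N : ℂ) else 0 := by
  simpa [ec, mul_comm b] using AddChar.sum_mulShift b (ZMod.isPrimitive_stdAddChar N)

/-- linear character -/
noncomputable def lc (j : ZMod N) : Multiplicative (ZMod N) →* ℂ :=
  (ZMod.stdAddChar (N := N)).toMonoidHom.comp (AddMonoidHom.mulLeft j).toMultiplicative

theorem conj_ec (k : ZMod N) : conj (ec k) = ec (-k) := by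
  have := hom_inv_eq_conj (lc (1 : ZMod N)) (Multiplicative.ofAdd k)
  exact ((congrArg (fun x => conj (ec x)) (one_mul k)).symm.trans this.symm).trans
    (congrArg ec (one_mul (-k)))

theorem N0 : (N : ℂ) ≠ 0 := by exact_mod_cast NeZero.ne N

end

variable {G : Type*} [Group G] [Fintype G] {k : ℕ}

theorem card_conj {a b : G} (h : IsConj a b) :
    Nat.card (centralizer ({a} : Set G)) = Nat.card (centralizer ({b} : Set G)) := by
  have c4 := sum_irr_mul_conj a b
  have c5 := sum_irr_mul_conj b b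
  simp only [IsClassFunction.of_isConj (IsCharacter.isClassFunction (chi _)) h, h, if_true,
    IsConj.refl] at c4 c5
  exact_mod_cast c4.symm.trans c5

/-- the order of the cyclic subgroup -/
def hh (k : ℕ) : ℕ := 2 ^ (k + 2)

theorem hh_eq : hh k = 2 * 2 ^ (k + 1) := pow_succ' 2 _

instance hhNe : NeZero (hh k) := ⟨(Nat.two_pow_pos _).ne'⟩

/-- the index group -/
abbrev Z (k : ℕ) := ZMod (hh k)

/-- the element of order two -/
def T (k : ℕ) : Z k := (2 ^ (k + 1) : ℕ)

theorem cast_ne {c : ℕ} (h0 : 0 < c) (h : c < hh k) : (c : Z k) ≠ 0 := fun e =>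
  absurd (Nat.le_of_dvd h0 ((ZMod.natCast_eq_zero_iff _ _).1 e)) (by omega)

theorem T_ne : T k ≠ 0 := cast_ne (by positivity) (Nat.pow_lt_pow_right one_lt_two (by omega))

theorem T_add : T k + T k = 0 := by
  rw [T, ← Nat.cast_add, ← two_mul, ← hh_eq, ZMod.natCast_self]

theorem neg_T : -T k = T k := neg_eq_of_add_eq_zero_left T_add

theorem two_tors {i : Z k} (h : -i = i) : i = 0 ∨ i = T k :=
  ((ZMod.neg_eq_self_iff i).1 h).imp_right fun e => by
    rw [← ZMod.natCast_zmod_val i, T, show i.val = 2 ^ (k + 1) by have := hh_eq (k := k); omega]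

theorem ex_T {i : Z k} (h : i ≠ 0) : ∃ s, s * i = T k := by
  obtain ⟨j, -, hj⟩ := (Nat.dvd_prime_pow Nat.prime_two).1
    (show addOrderOf i ∣ 2 ^ (k + 2) from (addOrderOf_dvd_card (x := i)).trans (ZMod.card _).dvd)
  rcases j with _ | j
  · exact absurd (AddMonoid.addOrderOf_eq_one_iff.1 hj) h
  refine ⟨(2 ^ j : ℕ), (two_tors (neg_eq_of_add_eq_zero_left ?_)).resolve_left fun e => ?_⟩
  · rw [← add_mul, ← Nat.cast_add, ← mul_two, ← pow_succ, ← hj, ← nsmul_eq_mul,
      addOrderOf_nsmul_eq_zero]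
  have := Nat.le_of_dvd (by positivity) (hj ▸ addOrderOf_dvd_of_nsmul_eq_zero
    ((nsmul_eq_mul _ _).trans e))
  exact absurd ((Nat.pow_le_pow_iff_right one_lt_two).1 this) (by omega)

theorem ec_T : ec (T k) = -1 := (mul_self_eq_one_iff.1 (by rw [← ec_add, T_add, ec_zero])).resolve_left
  fun e => T_ne (ZMod.injective_stdAddChar (e.trans ec_zero.symm))

namespace DH

variable (D : DH G k)

theorem ord' : orderOf D.x = hh k := D.ord

/-- the embedding of the cyclic group -/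
def ι : Multiplicative (Z k) →* G :=
  MonoidHom.mk' (fun i => D.x ^ i.toAdd.val) fun i j => by
    rw [toAdd_mul, ZMod.val_add, ← pow_add]
    conv_rhs => rw [← pow_mod_orderOf, D.ord']

/-- powers of `x` -/
def X (i : Z k) : G := D.ι (Multiplicative.ofAdd i)

theorem X_add (i j : Z k) : D.X (i + j) = D.X i * D.X j := map_mul D.ι _ _

theorem X_zero : D.X 0 = 1 := map_one D.ι

theorem X_neg (i : Z k) : D.X (-i) = (D.X i)⁻¹ := map_inv D.ι _

theorem X_pow (i : Z k) (n : ℕ) : D.X i ^ n = D.X (n * i) := by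
  rw [X, ← map_pow, ← ofAdd_nsmul, nsmul_eq_mul, X]

theorem X_nat (n : ℕ) : D.X n = D.x ^ n := by
  show D.x ^ (n : Z k).val = _
  rw [ZMod.val_natCast]
  conv_rhs => rw [← pow_mod_orderOf, D.ord']

theorem X_inj : Function.Injective D.X := fun i j h =>
  ZMod.val_injective _ (pow_injOn_Iio_orderOf ((ZMod.val_lt i).trans_eq D.ord'.symm)
    ((ZMod.val_lt j).trans_eq D.ord'.symm) h)

theorem X_ne {i : Z k} (h : i ≠ 0) : D.X i ≠ 1 := fun e => h (D.X_inj (e.trans D.X_zero.symm))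

theorem X_mem (i : Z k) : D.X i ∈ zpowers D.x := npow_mem_zpowers _ _

theorem exists_X {g : G} (h : g ∈ zpowers D.x) : ∃ i, D.X i = g := by
  obtain ⟨n, rfl⟩ := (mem_powers_iff_mem_zpowers.2 h)
  exact ⟨n, D.X_nat n⟩

theorem conj_mul {g : G} {i j : Z k} (h : g * D.X i * g⁻¹ = D.X j) (s : Z k) :
    g * D.X (s * i) * g⁻¹ = D.X (s * j) := by
  rw [← ZMod.natCast_zmod_val s, ← X_pow, ← X_pow, ← h, conj_pow]

/-- the central involution -/
def t : G := D.X (T k)

theorem t_eq : D.t = D.x ^ 2 ^ (k + 1) := D.X_nat _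

theorem tt : D.t * D.t = 1 := by rw [t, ← X_add, T_add, X_zero]

theorem vi : D.v⁻¹ = D.v := inv_eq_of_mul_eq_one_left D.vv

theorem v_X (i : Z k) : D.v * D.X i = D.X (-i) * D.v := by
  have := inv_zpow_of D.vv D.inv i.val
  rw [zpow_natCast, ← X_nat, ZMod.natCast_zmod_val, ← X_neg] at this
  rw [← this, mul_assoc, D.vv, mul_one]

theorem vX_ne (i j : Z k) : D.v * D.X i ≠ D.X j := fun e =>
  D.vn (eq_mul_inv_of_mul_eq e ▸ mul_mem (D.X_mem j) (inv_mem (D.X_mem i)))

theorem cent' {c : G} (h : Commute c D.t) : ∃ i, c = D.X i ∨ c = D.v * D.X i := by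
  rcases D.cent c (D.t_eq ▸ h) with e | e <;> obtain ⟨i, hi⟩ := D.exists_X e
  · exact ⟨i, Or.inl hi.symm⟩
  · exact ⟨i, Or.inr (by rw [hi, ← mul_assoc, D.vv, one_mul])⟩

theorem vX_conj (i : Z k) : IsConj D.t (D.v * D.X i) := by
  have h : ∀ a j : Z k, IsConj (D.v * D.X a) (D.v * D.X (a + 2 * j)) := fun a j =>
    isConj_iff.2 ⟨D.X (-j), by
      rw [← mul_assoc, ← v_X, ← X_neg, mul_assoc, mul_assoc, ← X_add, ← X_add]; congr 2; ring⟩
  obtain ⟨j, e | e⟩ := Nat.even_or_odd' i.val <;> rw [← ZMod.natCast_zmod_val i, e, t_eq]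
  · simpa [X_zero] using D.c1.trans (by simpa [X_zero] using h 0 j)
  · have := h ((1 : ℕ) : Z k) j
    rw [X_nat, pow_one] at this
    simpa [add_comm] using D.c2.trans this

theorem comm_t {c : G} {i j : Z k} (hi : i ≠ 0) (h : c * D.X i * c⁻¹ = D.X j) : Commute c D.t := by
  obtain ⟨s, hs⟩ := ex_T hi
  have h1 := D.conj_mul h s
  rw [hs] at h1
  refine comm_of_conj (h1.trans (congrArg D.X ((two_tors (D.X_inj ?_)).resolve_left fun e =>
    D.X_ne T_ne (by simpa [e, X_zero] using h1))))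
  rw [X_neg, ← h1, conj_inv, ← X_neg, neg_T]

theorem conj_iff {i : Z k} (hi : i ≠ 0) (j : Z k) : IsConj (D.X i) (D.X j) ↔ j = i ∨ j = -i := by
  have h1 : ∀ l, D.X l * D.X i * (D.X l)⁻¹ = D.X i := fun l => by
    rw [← X_add, add_comm, X_add, mul_inv_cancel_right]
  have h2 : D.v * D.X i * D.v⁻¹ = D.X (-i) := by rw [v_X, mul_inv_cancel_right]
  refine ⟨fun h => ?_, ?_⟩
  · obtain ⟨c, hc⟩ := isConj_iff.1 h
    obtain ⟨l, rfl | rfl⟩ := D.cent' (D.comm_t hi hc)
    · exact Or.inl (D.X_inj (hc.symm.trans (h1 l)))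
    · exact Or.inr (D.X_inj (by rw [← hc, ← h2]; nth_rw 2 [← h1 l]; group))
  · rintro (rfl | rfl)
    exacts [IsConj.refl _, isConj_iff.2 ⟨_, h2⟩]

theorem card_cent {i : Z k} (hi : i ≠ 0) : (Nat.card (centralizer {D.X i}) : ℂ) =
    if i = T k then 2 * hh k else hh k := by
  split_ifs with e
  · rw [e, ← t, t_eq, D.card, pow_succ']; rfl
  rw [← D.ord', ← Nat.card_zpowers]
  congr 3
  refine le_antisymm (fun c hc => ?_) (zpowers_le.2 (mem_centralizer_singleton_iff.2
    (Commute.self_pow D.x _)))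
  have h1 := mul_inv_eq_iff_eq_mul.2 (mem_centralizer_singleton_iff.1 hc)
  obtain ⟨l, rfl | rfl⟩ := D.cent' (D.comm_t hi h1)
  · exact D.X_mem l
  rw [mul_inv_eq_iff_eq_mul, mul_assoc, ← X_add, add_comm, X_add, ← mul_assoc, ← mul_assoc, v_X,
    mul_left_inj, mul_left_inj, D.X_inj.eq_iff] at h1
  exact absurd (two_tors h1) (by tauto)

theorem two_conj {g : G} (h : PE 2 g) (h1 : g ≠ 1) : ∃ i, i ≠ 0 ∧ IsConj g (D.X i) := by
  obtain ⟨c, hc⟩ := D.syl g h
  have h2 : IsConj g (c * g * c⁻¹) := isConj_iff.2 ⟨c, rfl⟩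
  obtain ⟨i, e | e⟩ := D.cent' (D.t_eq ▸ hc) <;> rw [e] at h2
  · exact ⟨i, fun e => h1 (by simpa [e, X_zero] using h2), h2⟩
  · exact ⟨_, T_ne, h2.trans (D.vX_conj i).symm⟩

theorem pe_of_conj {g : G} {i : Z k} (h : IsConj g (D.X i)) : PE 2 g := by
  obtain ⟨c, rfl⟩ := isConj_iff.1 h.symm
  exact PE.conj ⟨k + 2, by rw [X_pow, ← hh, ZMod.natCast_self, zero_mul, X_zero]⟩ c

/-- multiplicities -/
noncomputable def m (χ : IrrCharacter G) (j : Z k) : ℕ :=
  (IsCharacter.classInner_nat (isCharacter_hom (lc j)) (IsCharacter.comp (chi χ) D.ι)).choose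

theorem m_eq (χ : IrrCharacter G) (j : Z k) :
    (hh k : ℂ) * D.m χ j = ∑ i, ec (j * i) * conj (χ.1 (D.X i)) := by
  rw [m, ← (IsCharacter.classInner_nat (isCharacter_hom (lc j))
    (IsCharacter.comp (chi χ) D.ι)).choose_spec, classInner, Nat.card_eq_fintype_card,
    Fintype.card_multiplicative, ZMod.card, mul_inv_cancel_left₀ N0]
  exact Fintype.sum_equiv Multiplicative.toAdd _ _ fun _ => rfl

theorem m_eq' (χ : IrrCharacter G) (j : Z k) :
    (hh k : ℂ) * D.m χ j = ∑ i, ec (-j * i) * χ.1 (D.X i) := by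
  simpa [conj_ec] using congrArg conj (D.m_eq χ j)

theorem inv_m (χ : IrrCharacter G) (i : Z k) : χ.1 (D.X i) = ∑ j, D.m χ j * ec (j * i) := by
  refine mul_left_cancel₀ (N0 (N := hh k)) ?_
  simp only [mul_sum, ← mul_assoc, m_eq', sum_mul]
  rw [sum_comm]
  have : ∀ l j, ec (-j * l) * χ.1 (D.X l) * ec (j * i) = χ.1 (D.X l) * ec ((i - l) * j) :=
    fun l j => by rw [mul_right_comm, ← ec_add, mul_comm]; congr 2; ring
  simp only [this, ← mul_sum, sum_ec]
  simp [sub_eq_zero, mul_comm]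

/-- coordinates of the induced generalized characters -/
noncomputable def n (j : Z k) (χ : IrrCharacter G) : ℤ := D.m χ 0 - D.m χ j

theorem n_eq (j : Z k) (χ : IrrCharacter G) :
    (hh k : ℂ) * D.n j χ = ∑ i, (1 - ec (j * i)) * conj (χ.1 (D.X i)) := by
  simp [n, mul_sub, m_eq, sub_mul, ec_zero]

theorem n_eq' (j : Z k) (χ : IrrCharacter G) :
    (hh k : ℂ) * D.n j χ = ∑ i, (1 - ec (-j * i)) * χ.1 (D.X i) := by
  simp [n, mul_sub, m_eq', sub_mul, ec_zero]

theorem n_tr1 {j : Z k} (hj : j ≠ 0) : D.n j (tr1 G) = 1 := by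
  have := D.n_eq' j (tr1 G)
  simp only [tr1, mul_one, sum_sub_distrib, sum_ec, neg_eq_zero, hj, if_false, sum_const,
    card_univ, ZMod.card, nsmul_eq_mul, sub_zero] at this
  exact_mod_cast mul_left_cancel₀ N0 (this.trans (mul_one _).symm)

theorem const {χ : IrrCharacter G} {c : ℤ} (h : ∀ j, j ≠ 0 → D.n j χ = c) (i : Z k) :
    χ.1 (D.X i) = c + if i = 0 then (hh k * (D.m χ 0 - c) : ℤ) else 0 := by
  rw [inv_m, sum_congr rfl (g := fun j => (D.m χ 0 - c) * ec (i * j) + if j = 0 then c else 0)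
    fun j _ => ?_, sum_add_distrib, ← mul_sum, sum_ec]
  · split_ifs <;> simp [add_comm, mul_comm]
  split_ifs with e
  · simp [e, ec_zero]
  · simp [← h j e, n, mul_comm i]

theorem ev_n (j : Z k) (g : G) : (hh k : ℂ) * ev (D.n j) g = ∑ i, (1 - ec (j * i)) *
    Nat.card (centralizer {D.X i}) * classInd ℂ (D.X i) g := by
  simp only [ev, mul_sum, ← mul_assoc, n_eq, sum_mul]
  rw [sum_comm]
  refine sum_congr rfl fun i _ => ?_
  simp only [mul_assoc, ← mul_sum, mul_comm (conj _), sum_irr_mul_conj, classInd]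
  by_cases e : IsConj g (D.X i)
  · rw [if_pos e, if_pos e.symm, card_conj e, mul_one]
  · rw [if_neg e, if_neg fun e' => e e'.symm]
    simp

theorem ev_zero (j : Z k) {g : G} (h : g = 1 ∨ ¬ PE 2 g) : ev (D.n j) g = 0 := by
  refine mul_left_cancel₀ (N0 (N := hh k)) ?_
  rw [ev_n, mul_zero]
  refine sum_eq_zero fun i _ => ?_
  by_cases hi : i = 0
  · simp [hi, ec_zero]
  rw [show classInd ℂ (D.X i) g = 0 from if_neg fun e => h.elim
    (fun e' => D.X_ne hi (by simpa [e'] using e)) fun e' => e' (D.pe_of_conj e.symm), mul_zero]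

theorem ev_X (j i : Z k) : ev (D.n j) (D.X i) = 2 - ec (j * i) - ec (-j * i) := by
  classical
  by_cases hi : i = 0
  · rw [D.ev_zero j (Or.inl (by rw [hi, X_zero]))]
    norm_num [hi, ec_zero]
  refine mul_left_cancel₀ (N0 (N := hh k)) ?_
  rw [ev_n, ← sum_subset (subset_univ {i, -i}) fun l _ h => by
    rw [show classInd ℂ (D.X l) (D.X i) = 0 from if_neg fun e => h (by
      simpa using (D.conj_iff hi l).1 e.symm), mul_zero]]
  have c1 : classInd ℂ (D.X i) (D.X i) = 1 := if_pos (IsConj.refl _)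
  have c2 : classInd ℂ (D.X (-i)) (D.X i) = 1 := if_pos ((D.conj_iff hi _).2 (Or.inr rfl)).symm
  by_cases e : i = T k
  · rw [show -j * i = j * -i by ring, show -i = i by rw [e, neg_T], pair_eq_singleton, sum_singleton,
      c1, D.card_cent hi, if_pos e]
    push_cast
    ring
  rw [sum_pair fun e' => absurd (two_tors e'.symm) (by tauto), c1, c2, D.card_cent hi, if_neg e,
    D.card_cent (neg_ne_zero.2 hi), if_neg fun e' => e (by rw [← neg_T, ← e', neg_neg]),
    show -j * i = j * -i by ring]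
  ring

theorem dot_d (j : Z k) : D.n j ⬝ᵥ (fun χ => (dg χ : ℤ)) = 0 := dot_dg (D.ev_zero j (Or.inl rfl))

theorem dot_n {j l : Z k} (hj : j ≠ 0) (hl : l ≠ 0) :
    D.n j ⬝ᵥ D.n l = 2 + (if j = l then 1 else 0) + if j = -l then 1 else 0 := by
  have : (hh k : ℂ) * (D.n j ⬝ᵥ D.n l : ℤ) = hh k *
      (2 + (if j = l then 1 else 0) + if j = -l then 1 else 0 : ℤ) := by
    simp only [dotProduct, Int.cast_sum, Int.cast_mul, mul_sum, mul_left_comm (hh k : ℂ),
      n_eq']
    rw [sum_comm]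
    simp only [mul_left_comm (_ : ℂ) (1 - _), ← mul_sum]
    rw [sum_congr rfl (g := fun i => 2 - ec (j * i) - ec (-j * i) - 2 * ec (-l * i) +
      ec ((j - l) * i) + ec ((-j - l) * i)) fun i _ => by
        rw [show ∑ χ : IrrCharacter G, _ = _ from D.ev_X j i, sub_mul j, sub_mul (-j),
          sub_eq_add_neg (j * i), sub_eq_add_neg (-j * i), ec_add, ec_add, ← neg_mul]
        ring]
    simp only [sum_add_distrib, sum_sub_distrib, ← mul_sum, sum_ec]
    simp [hj, hl, sub_eq_zero, neg_eq_iff_eq_neg, mul_add, mul_comm (2 : ℂ)]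
  exact_mod_cast mul_left_cancel₀ N0 this

theorem N_X {i : Z k} (hi : i ≠ 0) :
    ∑ u, classInd ℂ D.t u * classInd ℂ D.t (D.X i * u⁻¹) = hh k := by
  classical
  rw [sum_congr rfl (g := fun u => ∑ l, if u = D.v * D.X l then 1 else 0) fun u _ => ?_, sum_comm]
  · simp
  by_cases h : ∃ l, u = D.v * D.X l
  · obtain ⟨l, rfl⟩ := h
    rw [classInd, classInd, if_pos (D.vX_conj l), if_pos (by
      convert D.vX_conj (l - i) using 1
      rw [_root_.mul_inv_rev, vi, ← X_neg, ← mul_assoc, ← X_add, v_X]; congr 2; ring)]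
    simp [D.X_inj.eq_iff]
  rw [sum_eq_zero fun l _ => if_neg fun e => h ⟨l, e⟩]
  simp only [classInd, ite_mul, one_mul, zero_mul, ite_eq_right_iff, one_ne_zero]
  intro h1 h2
  have sq : ∀ w, IsConj D.t w → w⁻¹ = w := fun w h => by
    obtain ⟨c, rfl⟩ := isConj_iff.1 h
    rw [conj_inv, inv_eq_of_mul_eq_one_left D.tt]
  have h3 := sq _ h2
  obtain ⟨l, rfl | rfl⟩ := D.cent' (D.comm_t (c := u) (j := -i) hi (by
    rw [mul_assoc, ← h3, sq u h1, _root_.mul_inv_rev, sq u h1, ← mul_assoc, ← sq u h1,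
      X_neg, sq u h1, mul_eq_one_iff_eq_inv.2 (sq u h1).symm, one_mul]))
  · rw [← X_neg, ← X_add] at h2
    have a1 := (D.conj_iff T_ne _).1 h1
    have a2 := (D.conj_iff T_ne _).1 h2
    rw [neg_T, or_self] at a1 a2
    exact hi (by linear_combination a1 + a2 + T_add)
  · exact h ⟨l, rfl⟩

theorem pairs_n {j : Z k} (hj : j ≠ 0) :
    pairs D.t (ev (D.n j)) = Nat.card G * hh k := by
  have h1 := pairs_sum D.t univ (fun i => (hh k : ℂ)⁻¹ * ((1 - ec (j * i)) *
    Nat.card (centralizer {D.X i}))) fun i => classInd ℂ (D.X i)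
  refine ((congrArg (pairs D.t) (funext fun g => ((eq_inv_mul_iff_mul_eq₀ N0).2 (D.ev_n j g)).trans
    (by simp only [mul_sum, ← mul_assoc]))).trans h1).trans ?_
  rw [sum_congr rfl
      (g := fun i => (1 - ec (j * i)) * Nat.card G) fun i _ => ?_, ← sum_mul, sum_sub_distrib, sum_ec]
  · simp [hj, mul_comm]
  by_cases hi : i = 0
  · simp [hi, ec_zero]
  rw [pairs_cl, D.N_X hi, ← (centralizer {D.X i}).index_mul_card]
  have := N0 (N := hh k)
  push_cast at this ⊢
  field_simp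

end DH

end Cfsg.Agent.H3.EB
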