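import Cfsg.Agent.H3.EB3

/-! The order formula of Brauer, Suzuki and Wall. -/

set_option autoImplicit false
set_option linter.unusedSectionVars false

namespace Cfsg.Agent.H3.EB

open Cfsg Cfsg.Agent.H1 Subgroup Finset Matrix L0.EP NQ
open scoped ComplexConjugate

variable {G : Type*} [Group G] [Fintype G] [IsSimpleGroup G] {k : ℕ}

theorem hh_four : 4 ∣ hh k := ⟨2 ^ k, by rw [hh]; ring⟩

theorem small_ne (c : ℕ) [c.AtLeastTwo] (h : c < 4 := by norm_num) : (OfNat.ofNat c : Z k) ≠ 0 :=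
  cast_ne (c := c) (by have := Nat.AtLeastTwo.prop (n := c); omega)
    (h.trans_le (Nat.le_of_dvd (NeZero.pos _) hh_four))

theorem one_ne : (1 : Z k) ≠ 0 := fun e => small_ne (k := k) 2 (by norm_num) (by linear_combination 2 * e)

/-- indices other than `0, 1, -1` -/
def Gd (j : Z k) : Prop := j ≠ 0 ∧ j ≠ 1 ∧ j ≠ -1

theorem gd_T : Gd (T k) := ⟨T_ne, fun e => small_ne (k := k) 2 (by norm_num)
  (by linear_combination T_add - 2 * e), fun e => small_ne (k := k) 2 (by norm_num)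
  (by linear_combination 2 * e - T_add)⟩

theorem other {j : Z k} (h : Gd j) (h' : j ≠ T k) : ∃ l, Gd l ∧ l ≠ T k ∧ j ≠ l ∧ j ≠ -l := by
  rcases k with _ | k
  · exfalso
    revert j
    unfold Gd
    decide
  have c : ∀ c : ℕ, 0 < c → c < 8 → (c : Z (k + 1)) ≠ 0 := fun c h1 h2 => cast_ne h1 (by
    have := Nat.two_pow_pos k
    rw [hh, pow_add, pow_add]
    omega)
  have c4 : (4 : Z (k + 1)) ≠ 0 := c 4 (by omega) (by omega)
  have c5 : (5 : Z (k + 1)) ≠ 0 := c 5 (by omega) (by omega)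
  have c6 : (6 : Z (k + 1)) ≠ 0 := c 6 (by omega) (by omega)
  by_cases e : j = 2 ∨ j = -2
  · refine ⟨3, ⟨small_ne 3, fun e => small_ne 2 (by norm_num) (by linear_combination e),
      fun e => c4 (by linear_combination e)⟩, fun e => c6 (by linear_combination T_add + 2 * e), ?_⟩
    rcases e with rfl | rfl
    exacts [⟨fun e => one_ne (by linear_combination -e), fun e => c5 (by linear_combination e)⟩,
      ⟨fun e => c5 (by linear_combination -e), fun e => one_ne (by linear_combination e)⟩]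
  exact ⟨2, ⟨small_ne 2, fun e => one_ne (by linear_combination e),
    fun e => small_ne 3 (by norm_num) (by linear_combination e)⟩,
    fun e => c4 (by linear_combination T_add + 2 * e), by tauto⟩

namespace DH

variable (D : DH G k)

theorem n_neg {j : Z k} (hj : j ≠ 0) : D.n (-j) = D.n j := sub_eq_zero.1 (dotProduct_self_eq_zero.1 (by
  simp [sub_dotProduct, dotProduct_sub, D.dot_n, hj, eq_comm (a := j), add_right_comm]))

theorem common (hG : ¬ IsMulCommutative G) : ∃ (a b : IrrCharacter G) (δ : ℤ), (δ = 1 ∨ δ = -1) ∧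
    a ≠ tr1 G ∧ (∀ {R : Type} [Ring R] (g : IrrCharacter G → R),
      ∑ χ, D.n 1 χ * g χ = g (tr1 G) + δ * g a - δ * g b) ∧ ∀ j, j ≠ 0 → D.n j a = δ := by
  classical
  have o1 : (1 : Z k) ≠ -1 := fun e => small_ne (k := k) 2 (by norm_num) (by linear_combination e)
  obtain ⟨A, B, a1, a2, a3, a4⟩ := norm3 (dg_two hG) (by simp [dg_tr1]) (D.n_tr1 one_ne)
    (by simp [D.dot_n one_ne one_ne, o1]) (D.dot_d 1)
  have sm : ∀ {R : Type} [Ring R] (g : IrrCharacter G → R),
      ∑ χ, D.n 1 χ * g χ = g (tr1 G) + g A - g B := fun g => by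
    simp [a4, Pi.single_apply, add_mul, sub_mul, sum_add_distrib, sum_sub_distrib]
  have v1 : D.n 1 A = 1 ∧ D.n 1 B = -1 := by simp [a4, a1, a2, a3, a3.symm]
  have ty : ∀ j, Gd j → (D.n j A = 1 ∧ D.n j B = 0) ∨ (D.n j A = 0 ∧ D.n j B = -1) := fun j h => by
    have h1 := (sm (D.n j)).symm.trans (D.dot_n one_ne h.1)
    have h2 := sq_le3 (D.n j) a1.symm a2.symm a3
    rw [D.dot_n h.1 h.1, if_pos rfl, D.n_tr1 h.1] at h2
    rw [if_neg h.2.1.symm, if_neg fun e => h.2.2 (by rw [e, neg_neg]), D.n_tr1 h.1] at h1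
    have : D.n j A < 2 ∧ -1 < D.n j A := by
      rw [show D.n j B = D.n j A - 1 by omega] at h2
      constructor <;> split_ifs at h2 <;> nlinarith
    omega
  have sup : ∀ w : IrrCharacter G → ℤ, w ⬝ᵥ w = w A * w A + w B * w B →
      w ⬝ᵥ (fun χ => (dg χ : ℤ)) = 0 → w A * dg A + w B * dg B = 0 := fun w h1 h2 => by
    have := sum_supp (v := w) (s := {A, B}) (by rw [sum_pair a3, h1]) fun χ => (dg χ : ℤ)
    rw [sum_pair a3] at this
    exact this.symm.trans h2
  have pA := dg_pos A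
  have pB := dg_pos B
  have nT : ∀ j, j ≠ 0 → j ≠ T k → j ≠ -j := fun j h1 h2 e => absurd (two_tors e.symm) (by tauto)
  have k2 : ∀ j l, Gd j → Gd l → j ≠ T k → l ≠ T k → D.n j A = 1 → D.n l A = 1 :=
    fun j l h1 h2 h3 h4 h5 => by
      by_contra h6
      have e1 : j ≠ l := by rintro rfl; exact h6 h5
      have e2 : j ≠ -l := by rintro rfl; exact h6 (D.n_neg h2.1 ▸ h5)
      have e3 : l ≠ -j := fun e => e2 (by rw [e, neg_neg])
      obtain ⟨u1, u2⟩ := (ty j h1).resolve_right (by omega)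
      obtain ⟨u3, u4⟩ := (ty l h2).resolve_left (by omega)
      have := sup (D.n j - D.n l) (by simp [sub_dotProduct, dotProduct_sub, D.dot_n, h1.1, h2.1, e1,
        e2, e3, e1.symm, nT, h3, h4, u1, u2, u3, u4]) (by simp [sub_dotProduct, D.dot_d])
      simp only [Pi.sub_apply, u1, u2, u3, u4] at this
      omega
  have k3 : ∀ j, Gd j → D.n j A = D.n (T k) A := fun j h1 => by
    by_contra h6
    have h3 : j ≠ T k := by rintro rfl; exact h6 rfl
    obtain ⟨l, h2, h4, e1, e2⟩ := other h1 h3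
    have e3 : l ≠ -j := fun e => e2 (by rw [e, neg_neg])
    have f : ∀ j, Gd j → j ≠ T k → 1 ≠ j ∧ 1 ≠ -j ∧ T k ≠ j ∧ T k ≠ -j := fun j h h' =>
      ⟨h.2.1.symm, fun e => h.2.2 (by rw [e, neg_neg]), h'.symm,
        fun e => h' (by rw [← neg_T, e, neg_neg])⟩
    have := sup (D.n j + D.n l - D.n (T k) - D.n 1) ?_ (by simp [add_dotProduct, sub_dotProduct, D.dot_d])
    all_goals
      have := k2 j l h1 h2 h3 h4
      have := k2 l j h2 h1 h4 h3
      rcases ty j h1 with ⟨u1, u2⟩ | ⟨u1, u2⟩ <;> rcases ty l h2 with ⟨u3, u4⟩ | ⟨u3, u4⟩ <;>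
        rcases ty _ gd_T with ⟨u5, u6⟩ | ⟨u5, u6⟩ <;> try omega
    iterate 2
      simp only [Pi.sub_apply, Pi.add_apply, u1, u2, u3, u4, u5, u6, v1] at *
      omega
    all_goals simp [add_dotProduct, sub_dotProduct, dotProduct_add, dotProduct_sub, D.dot_n, h1.1,
      h2.1, h1.2, h2.2, e1, e2, e3, e1.symm, nT, h3, h4, u1, u2, u3, u4, u5, u6, v1, f j h1 h3,
      f l h2 h4, neg_T, T_ne, one_ne, o1, gd_T.2, gd_T.2.1.symm]
  have all : ∀ j, j ≠ 0 → (D.n j A = 1 ∧ D.n j B = -1) ∨ Gd j := fun j hj => by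
    by_cases e : j = 1 ∨ j = -1
    · rcases e with rfl | rfl
      exacts [Or.inl v1, Or.inl (D.n_neg one_ne ▸ v1)]
    exact Or.inr ⟨hj, by tauto⟩
  rcases ty _ gd_T with e | e
  · exact ⟨A, B, 1, Or.inl rfl, a1, fun g => by simp [sm], fun j hj =>
      (all j hj).elim (·.1) fun h => (k3 j h).trans e.1⟩
  · refine ⟨B, A, -1, Or.inr rfl, a2, fun g => by simp [sm]; abel, fun j hj =>
      (all j hj).elim (·.2) fun h => ?_⟩
    have := k3 j h
    have := ty j h
    omega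

theorem idx_mul : (centralizer ({D.t} : Set G)).index * (2 * hh k) = Nat.card G := by
  rw [← (centralizer ({D.t} : Set G)).index_mul_card, t_eq, D.card, hh, ← pow_succ']

theorem order (hG : ¬ IsMulCommutative G) : ∃ (a b : IrrCharacter G) (δ : ℤ) (m : ℕ),
    (δ = 1 ∨ δ = -1) ∧ a ≠ tr1 G ∧ (m : ℤ) = hh k + δ ∧ (dg a : ℤ) = 2 * hh k + δ ∧ dg b = 2 * m ∧
    (centralizer ({D.t} : Set G)).index = dg a * m ∧ (∀ i, i ≠ 0 → a.1 (D.X i) = δ) ∧
    ∀ g, ¬ PE 2 g → a.1 g = b.1 g - δ := by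
  obtain ⟨a, b, δ, d1, a1, sm, cn⟩ := D.common hG
  have d2 : δ * δ = 1 := by rcases d1 with rfl | rfl <;> rfl
  have d3 : (δ : ℂ) * δ = 1 := by exact_mod_cast d2
  have va : ∀ i, i ≠ 0 → a.1 (D.X i) = δ := fun i hi => by simpa [hi] using D.const cn i
  obtain ⟨r, hr⟩ : ∃ r : ℤ, (dg a : ℤ) = δ + hh k * r := ⟨_, by
    have := D.const cn 0
    rw [X_zero, dg_eq, if_pos rfl] at this
    exact_mod_cast this⟩
  have e1 := (sm _).symm.trans (D.dot_d 1)
  rw [dg_tr1] at e1
  have e2 : (dg b : ℤ) = dg a + δ := by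
    simp only [Int.cast_id, Nat.cast_one] at e1
    linear_combination -δ * e1 + (dg a - dg b) * d2
  have e3 : b.1 D.t = -2 * δ := by
    have := (sm fun χ => χ.1 D.t).symm.trans (D.ev_X 1 (T k))
    rw [show a.1 D.t = δ from va _ T_ne, neg_mul, one_mul, neg_T, ec_T, d3] at this
    simp only [tr1] at this
    linear_combination -δ * this - b.1 D.t * d3
  have h1 := pairs_sum D.t univ (fun χ => (D.n 1 χ : ℂ)) (fun χ : IrrCharacter G => χ.1)
  simp only [fun χ : IrrCharacter G => pairs_irr χ.2 D.t, mul_left_comm _ (_ ^ 2), ← mul_sum] at h1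
  replace h1 := (D.pairs_n one_ne).symm.trans h1
  rw [sm, show a.1 D.t = δ from va _ T_ne, e3, dg_eq a, dg_eq b, ← D.idx_mul] at h1
  obtain ⟨i, hi⟩ : ∃ i, i = (centralizer ({D.t} : Set G)).index := ⟨_, rfl⟩
  have io : Odd i := hi ▸ D.t_eq ▸ D.odd
  have i0 : (i : ℂ) ≠ 0 := by exact_mod_cast io.pos.ne'
  have pa : (dg a : ℂ) ≠ 0 := by exact_mod_cast (dg_pos a).ne'
  have pb : (dg b : ℂ) ≠ 0 := by exact_mod_cast (dg_pos b).ne'
  have e4 : (i : ℤ) * r ^ 2 = 2 * dg a * dg b := by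
    have e5 : (dg b : ℂ) = dg a + δ := by exact_mod_cast e2
    have e6 : (dg a : ℂ) = δ + hh k * r := by exact_mod_cast hr
    simp only [← hi, tr1] at h1
    push_cast at h1
    field_simp at h1
    have : (hh k : ℂ) ^ 2 * (i * r ^ 2) = hh k ^ 2 * (2 * dg a * dg b) := by
      rw [e5] at h1 ⊢
      linear_combination -h1 - i * (dg a + hh k * r - δ) * e6 + i * (3 * δ * dg a - δ * δ) * d3
    exact_mod_cast mul_left_cancel₀ (pow_ne_zero 2 N0) this
  obtain ⟨s, hs⟩ := hh_four (k := k)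
  have := dg_two hG a a1
  have s0 : 0 < s := by have := NeZero.pos (hh k); omega
  have r0 : 0 < r := by
    by_contra hn
    have : (hh k : ℤ) * r ≤ 0 := mul_nonpos_of_nonneg_of_nonpos (by positivity) (by omega)
    omega
  have r4 : r ∣ 4 := ⟨i * r - 2 * hh k * (hh k * r + 3 * δ), by
    rw [e2, hr] at e4
    linear_combination -e4 - 4 * d2⟩
  obtain ⟨o, ho⟩ := io
  have r5 := Int.le_of_dvd (by norm_num) r4
  obtain rfl : r = 2 := by
    rw [e2, hr, hs, ho] at e4
    push_cast at e4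
    interval_cases r
    · rcases d1 with rfl | rfl <;> ring_nf at e4 <;> omega
    · rfl
    · omega
    · rcases d1 with rfl | rfl <;> ring_nf at e4 <;> omega
  refine ⟨a, b, δ, (hh k + δ).toNat, d1, a1, by omega, by omega, by omega, ?_, va, fun g hg => ?_⟩
  · rw [← hi]
    zify
    rw [show ((hh k + δ).toNat : ℤ) = hh k + δ by omega]
    rw [e2] at e4
    nlinarith
  have := (sm fun χ => χ.1 g).symm.trans (D.ev_zero 1 (Or.inr hg))
  simp only [tr1] at this
  linear_combination δ * this - (a.1 g - b.1 g) * d3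

end DH

end Cfsg.Agent.H3.EB
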