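import Cfsg.Agent.H3.EB4

/-! Centralizers of elements of odd order. -/

set_option autoImplicit false
set_option linter.unusedSectionVars false

namespace Cfsg.Agent.H3.EB

open Cfsg Cfsg.Agent.H1 Subgroup Finset Matrix L0.EP NQ
open scoped ComplexConjugate

variable {G : Type*} [Group G] [Fintype G] [IsSimpleGroup G] {k : ℕ}

theorem van (χ : IrrCharacter G) {g : G} (hg : g ≠ 1) {w : ℕ} (hw : Nat.card G = dg χ * w)
    (hc : w.Coprime (Nat.card (centralizer ({g} : Set G)))) : χ.1 g = 0 := by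
  have c2 : 1 < Nat.card (centralizer ({g} : Set G)) := (one_lt_card_iff_ne_bot _).2 fun e =>
    hg (mem_bot.1 (e ▸ mem_centralizer_singleton_iff.2 rfl))
  refine vanish (chi χ) g (by omega) (int_div (IsCharacter.isIntegral (chi χ) _) (by omega)
    one_ne_zero hc ?_) fun s hs => ?_
  · convert isIntegral_centralChar χ.2 g using 1
    have h1 : ((centralizer ({g} : Set G)).index : ℂ) * Nat.card (centralizer ({g} : Set G)) =
      dg χ * w := by exact_mod_cast (centralizer ({g} : Set G)).index_mul_card.trans hw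
    rw [centralChar, dg_eq, mul_one, div_eq_div_iff (by exact_mod_cast (by omega))
      (by exact_mod_cast (dg_pos χ).ne')]
    linear_combination -χ.1 g * h1
  obtain ⟨j, hj⟩ := exists_pow_eq_self_of_coprime hs
  have h1 := (norm_sq_le χ (g ^ s)).trans (Nat.cast_le.2 (card_le_of_le
    (K := centralizer ({g} : Set G)) fun c hc => mem_centralizer_singleton_iff.2
      (hj ▸ Commute.pow_right (mem_centralizer_singleton_iff.1 hc) j)))
  have : (1 : ℝ) < Nat.card (centralizer ({g} : Set G)) := by exact_mod_cast c2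
  nlinarith [norm_nonneg (χ.1 (g ^ s))]

/-- the number of ways to write an element as a product of two conjugates -/
noncomputable def Nn (z g : G) : ℕ := ∑ v, classInd ℕ z v * classInd ℕ z (g * v⁻¹)

theorem pairs_eq (z : G) (f : G → ℂ) : pairs z f = ∑ g, Nn z g * f g := by
  simp only [Nn, Nat.cast_sum, sum_mul, pairs, mul_sum]
  rw [sum_comm (f := fun g v => _ * f g)]
  exact sum_congr rfl fun v _ => Fintype.sum_equiv (Equiv.mulRight v) _ _ fun u => by
    by_cases h1 : IsConj z u <;> by_cases h2 : IsConj z v <;> simp [classInd, h1, h2, -isConj_iff]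

theorem conj_sq {z w : G} (hz : z * z = 1) (h : IsConj z w) : w⁻¹ = w := by
  obtain ⟨c, rfl⟩ := isConj_iff.1 h
  rw [conj_inv, inv_eq_of_mul_eq_one_left hz]

theorem Nn_one {z : G} (hz : z * z = 1) : Nn z 1 = (centralizer ({z} : Set G)).index := by
  rw [← Nat.cast_id (index _), ← sum_classInd]
  refine sum_congr rfl fun v _ => ?_
  by_cases h : IsConj z v
  · simp [classInd, conj_sq hz h, h]
  · simp [classInd, h, -isConj_iff]

theorem Nn_le {z : G} (hz : z * z = 1) (g : G) : Nn z g ≤ Nat.card (centralizer ({g} : Set G)) := by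
  classical
  have h1 : Nn z g = #{v | IsConj z v ∧ IsConj z (g * v⁻¹)} := by
    simp only [Nn, classInd, ite_mul, one_mul, zero_mul, ← ite_and, sum_boole, Nat.cast_id]
  have h2 : ∀ v, IsConj z v ∧ IsConj z (g * v⁻¹) → v * g⁻¹ = g * v := fun v h => by
    simpa [conj_sq hz h.1] using conj_sq hz h.2
  rw [h1, Nat.card_eq_fintype_card, Fintype.card_subtype]
  rcases (filter (fun v => IsConj z v ∧ IsConj z (g * v⁻¹)) univ).eq_empty_or_nonempty with e | ⟨u, e⟩
  · simp [e, -isConj_iff]
  refine card_le_card_of_injOn (· * u) (fun v hv => ?_) fun _ _ _ _ => mul_right_cancel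
  have a := h2 v (by simpa using hv)
  have b := h2 u (by simpa using e)
  simp only [coe_filter, mem_univ, true_and, Set.mem_ofPred_eq, mem_centralizer_singleton_iff]
  rw [← mul_assoc, ← a, mul_assoc, mul_assoc, mul_right_inj, eq_inv_mul_iff_mul_eq, ← mul_assoc, ← b,
    inv_mul_cancel_right]

namespace DH

variable (D : DH G k)

open Classical in
theorem sum_E (x : G) : ∑ j, ev (D.n j) x = if x ≠ 1 ∧ PE 2 x then 2 * hh k else 0 := by
  split_ifs with h
  · obtain ⟨i, hi, e⟩ := D.two_conj h.2 h.1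
    simp only [ev, IsClassFunction.of_isConj (IsCharacter.isClassFunction (chi _)) e]
    refine (sum_congr rfl fun j _ => (D.ev_X j i).trans (show _ = 2 - ec (i * j) - ec (-i * j) by
      rw [mul_comm j, neg_mul_comm, mul_comm j])).trans ?_
    simp only [sum_sub_distrib, sum_ec]
    simp [hi, mul_comm]
  · exact (sum_eq_zero fun j _ => D.ev_zero (g := x) j (by tauto)).trans Nat.cast_zero.symm

include D in
theorem cents (hG : ¬ IsMulCommutative G) (h : EPPO G) : ∃ (δ : ℤ) (q m : ℕ), (δ = 1 ∨ δ = -1) ∧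
    (m : ℤ) = hh k + δ ∧ (q : ℤ) = 2 * hh k + δ ∧ Nat.card G = 2 * hh k * q * m ∧
    ∀ g : G, ¬ PE 2 g → Nat.card (centralizer ({g} : Set G)) = q ∨
      Nat.card (centralizer ({g} : Set G)) = m := by
  classical
  obtain ⟨a, b, δ, m, d1, a1, hm, hq, hb, hi, va, vb⟩ := D.order hG
  have hn := D.idx_mul
  obtain ⟨q, qq⟩ : ∃ q, dg a = q := ⟨_, rfl⟩
  rw [hi, qq] at hn
  rw [qq] at hq hi
  have d2 : δ * δ = 1 := by rcases d1 with rfl | rfl <;> rfl
  have cp : q.Coprime m := Nat.isCoprime_iff_coprime.1 ⟨-δ, 2 * δ, by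
    rw [hm, hq]; linear_combination d2⟩
  have cl : ∀ x, ∃ z : ℤ, a.1 x = z ∧ (x = 1 ∧ z = q ∨ (x ≠ 1 ∧ PE 2 x) ∧ z = δ ∨ ¬ PE 2 x ∧
      (Nat.card (centralizer ({x} : Set G)) ∣ q ∧ z = 0 ∨
        Nat.card (centralizer ({x} : Set G)) ∣ m ∧ z = -δ)) := fun x => by
    by_cases h1 : x = 1
    · exact ⟨q, by simp [h1, dg_eq, qq], Or.inl ⟨h1, rfl⟩⟩
    by_cases h2 : PE 2 x
    · obtain ⟨i, hi, e⟩ := D.two_conj h2 h1
      exact ⟨δ, by rw [IsClassFunction.of_isConj (IsCharacter.isClassFunction (chi _)) e, va i hi],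
        by simp [h1, h2]⟩
    obtain ⟨p, hp, h3⟩ := h.exists_pe x
    have := Fact.mk hp
    obtain ⟨s, hs⟩ := IsPGroup.iff_card.1 (isPGroup_of_pe (P := centralizer ({x} : Set G))
      fun y hy => h.pe_of_comm hp (mem_centralizer_singleton_iff.1 hy).symm h3 h1)
    have c2 : (hh k).Coprime (p ^ s) ∧ Nat.Coprime 2 (p ^ s) := by
      have := (Nat.coprime_primes Nat.prime_two hp).2 (by rintro rfl; exact h2 h3)
      exact ⟨this.pow _ _, this.pow_right _⟩
    have c3 := (c2.2.mul_left c2.1).symm.dvd_of_dvd_mul_right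
      (hn ▸ hs ▸ card_subgroup_dvd_card (centralizer ({x} : Set G)))
    by_cases h4 : p ∣ m
    · have c4 := (((hp.coprime_iff_not_dvd).2 fun e => hp.one_lt.ne' (Nat.eq_one_of_dvd_coprimes cp e
        h4)).pow_left s)
      exact ⟨-δ, by rw [vb x h2, van b h1 (w := q * hh k) (by rw [← hn, hb]; ring)
        (hs ▸ c4.symm.mul_left c2.1)]; simp, Or.inr (Or.inr ⟨h2, Or.inr
          ⟨hs ▸ c4.dvd_of_dvd_mul_left c3, rfl⟩⟩)⟩
    have c4 := ((hp.coprime_iff_not_dvd).2 h4).pow_left s
    exact ⟨0, by rw [van a h1 (w := m * (2 * hh k)) (by rw [← hn, qq, mul_assoc])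
      (hs ▸ c4.symm.mul_left (c2.2.mul_left c2.1))]; simp, Or.inr (Or.inr ⟨h2, Or.inl
        ⟨hs ▸ c4.dvd_of_dvd_mul_right c3, rfl⟩⟩)⟩
  choose α ha hα using cl
  have a0 : α 1 = q := by simpa [pe_one] using hα 1
  have n0 : (Nat.card G : ℂ) ≠ 0 := card_ne_zero'
  have s1 : ∑ x, α x * α x = Nat.card G := by
    have := IsIrrCharacter.classInner_self a.2
    simp only [classInner, ha, map_intCast, inv_mul_eq_one₀ n0] at this
    exact_mod_cast this.symm
  have s2 : ∑ x, α x * (m - Nn D.t x) = -q * m ^ 2 := by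
    have h1 := IsIrrCharacter.classInner_eq a.2 (tr1 G).2
    have h2 := pairs_irr a.2 D.t
    rw [pairs_eq, hi, show a.1 D.t = δ from va _ T_ne, dg_eq, qq] at h2
    rw [if_neg fun e => a1 (Subtype.ext e)] at h1
    simp only [classInner, ha, tr1, map_one, mul_one, mul_eq_zero, inv_eq_zero, n0, false_or] at h1 h2
    have q0 : (q : ℂ) ≠ 0 := by exact_mod_cast (qq ▸ dg_pos a).ne'
    have d3 : (δ : ℂ) ^ 2 = 1 := by exact_mod_cast (sq δ).trans d2
    have : ∑ x, (α x : ℂ) * (m - Nn D.t x) = -q * m ^ 2 := by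
      simp only [mul_sub, sum_sub_distrib, ← sum_mul, h1, mul_comm _ (Nn D.t _ : ℂ), h2, d3]
      field_simp
      simp [mul_pow, mul_comm]
    exact_mod_cast this
  have s3 : ∑ x, (if x ≠ 1 ∧ PE 2 x then 1 else 0) * (m - Nn D.t x : ℤ) = (hh k - 1) * q * m * δ := by
    have h1 : ∀ j, ∑ x, ev (D.n j) x * (m - Nn D.t x) = Nat.card G * δ - if j = 0 then
        (Nat.card G * δ : ℂ) else 0 := fun j => by
      split_ifs with e
      · simp [e, ev, n]
      have h2 := ip_irr (D.n j) (tr1 G)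
      have h3 := D.pairs_n e
      rw [D.n_tr1 e] at h2
      simp only [classInner, tr1, map_one, mul_one, Int.cast_one, inv_mul_eq_one₀ n0] at h2
      have : (m : ℂ) = hh k + δ := by exact_mod_cast hm
      simp only [mul_sub, sum_sub_distrib, ← sum_mul, ← h2, mul_comm _ (Nn D.t _ : ℂ), ← pairs_eq, h3]
      rw [this]
      ring
    have h2 := sum_congr rfl fun j (_ : j ∈ univ) => h1 j
    rw [sum_comm] at h2
    simp only [← sum_mul, D.sum_E, sum_sub_distrib, sum_ite_eq', mem_univ, if_true, sum_const,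
      card_univ, ZMod.card, nsmul_eq_mul, ← hn] at h2
    refine Int.cast_injective (α := ℂ) (mul_left_cancel₀ (mul_ne_zero two_ne_zero (N0 (N := hh k))) ?_)
    push_cast at h2 ⊢
    simp only [mul_sum, ← mul_assoc, mul_ite, mul_one, mul_zero]
    linear_combination h2
  have m0 : 0 < m := Nat.pos_of_ne_zero fun e => n0 (by rw [← hn, e]; simp)
  have s4 := (sum_eq_zero_iff_of_nonneg (s := univ.erase 1) (f := fun x =>
      ((if x ≠ 1 ∧ PE 2 x then 1 else 0) - δ * α x) * (m - Nn D.t x)) fun x hx => by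
    rcases hα x with e | e | ⟨e, e' | e'⟩
    · simp [e] at hx
    · simp [e, d2]
    · simp [e, e']
    · have := (Nn_le D.tt x).trans (Nat.le_of_dvd m0 e'.1)
      simp [e, e', d2, this]).1 (by
    rw [sum_erase_eq_sub (mem_univ _)]
    simp only [sub_mul, sum_sub_distrib, mul_assoc, ← mul_sum, s2, s3, Nn_one D.tt, hi, a0]
    simp [hq, hm]
    ring)
  refine ⟨δ, q, m, d1, hm, hq, by rw [← hn]; ring, fun g hg => ?_⟩
  have g1 : g ≠ 1 := fun e => hg (e ▸ pe_one 2)
  rcases hα g with e | e | ⟨-, ⟨⟨r, e⟩, e'⟩ | e⟩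
  · exact absurd e.1 g1
  · exact absurd e.1.2 hg
  · have h1 := sum_nonneg (s := univ.erase 1) (f := fun x => 1 - α x * α x - classInd ℤ g x)
      fun x hx => by
        by_cases hc : IsConj g x
        · have : α x = α g := by
            exact_mod_cast (ha x).symm.trans ((IsClassFunction.of_isConj
              (IsCharacter.isClassFunction (chi a)) hc).symm.trans (ha g))
          simp [this, e', classInd, hc, -isConj_iff]
        rcases hα x with e | e | ⟨-, e | e⟩ <;> simp_all [classInd]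
    rw [sum_erase_eq_sub (mem_univ _)] at h1
    simp only [sum_sub_distrib, s1, sum_classInd, a0] at h1
    have h2 := (centralizer ({g} : Set G)).index_mul_card
    rw [← hn, e, mul_assoc, mul_assoc, mul_comm, Nat.mul_right_inj Nat.card_pos.ne'] at h2
    rw [h2, classInd, if_neg (by simpa using g1)] at h1
    have ro : Odd r := Odd.of_dvd_nat (D.t_eq ▸ D.odd) (hi ▸ e ▸ ⟨m * _, by ring⟩)
    have : (r : ℤ) ≤ 2 := by
      simp at h1
      have : (0 : ℤ) < m * (2 * hh k) := by have := NeZero.pos (hh k); positivity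
      refine le_of_mul_le_mul_right ?_ this
      rw [hq] at h1
      nth_rw 2 [hm]
      linear_combination Int.add_one_le_iff.2 h1 + d2
    obtain ⟨o, rfl⟩ := ro
    left
    rw [e, show o = 0 by omega]
    simp
  · have := s4 g (by simp [g1])
    have h1 := Nn_le D.tt g
    have h2 := Nat.le_of_dvd m0 e.1
    simp only [hg, e.2, and_false, if_false, mul_neg, d2] at this
    omega

end DH

end Cfsg.Agent.H3.EB
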