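import Cfsg.Agent.H3.NE

/-! Fusion patterns in a Sylow 3-subgroup of order 9. -/

set_option autoImplicit false
set_option linter.unusedSectionVars false

namespace Cfsg.Agent.H3.NQ

open Cfsg Cfsg.Agent.H1 Subgroup Multiplicative

variable {G : Type*} [Group G] [Fintype G] [IsSimpleGroup G]

/-- `F₃²` -/
abbrev A3 := ZMod 3 × ZMod 3

/-- linear maps of `F₃²` -/
def ap (M : A3 × A3) (z : A3) : A3 := (z.1 * M.1.1 + z.2 * M.2.1, z.1 * M.1.2 + z.2 * M.2.2)

theorem ap_add (M : A3 × A3) (z w : A3) : ap M (z + w) = ap M z + ap M w := by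
  simp only [ap, Prod.fst_add, Prod.snd_add, Prod.mk_add_mk, Prod.mk.injEq]
  constructor <;> ring

theorem ap_ap (M N : A3 × A3) (z : A3) : ap M (ap N z) = ap (ap M N.1, ap M N.2) z := by
  simp only [ap, Prod.mk.injEq]
  constructor <;> ring

/-- induced automorphisms -/
def PA (D : Set3 G (Multiplicative A3)) (M : A3 × A3) : Prop :=
  ∃ n ∈ normalizer (D.ι.range : Set G), ∀ z, n * D.ι (ofAdd z) * n⁻¹ = D.ι (ofAdd (ap M z))

theorem exists_PA (D : Set3 G (Multiplicative A3)) {n : G} (hn : n ∈ normalizer (D.ι.range : Set G)) :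
    ∃ M, (∀ z, n * D.ι (ofAdd z) * n⁻¹ = D.ι (ofAdd (ap M z))) ∧ (ap M)^[8] = id := by
  obtain ⟨φ, h1, h2⟩ := D.exists_aut hn
  have h3 : ∀ b, φ b = ofAdd (ap ((φ (ofAdd (1, 0))).toAdd, (φ (ofAdd (0, 1))).toAdd) b.toAdd) := by
    intro b
    obtain ⟨i, j, rfl⟩ : ∃ i j : Fin 3, b = ofAdd (1, 0) ^ i.1 * ofAdd (0, 1) ^ j.1 := by
      revert b; decide
    rw [map_mul, map_pow, map_pow]
    generalize φ (ofAdd (1, 0)) = u
    generalize φ (ofAdd (0, 1)) = v
    revert u v i j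
    decide +kernel
  refine ⟨_, fun z => (h1 _).trans (congrArg _ (h3 _)), ?_⟩
  rw [funext h3] at h2
  revert h2
  generalize ((φ (ofAdd (1, 0))).toAdd, (φ (ofAdd (0, 1))).toAdd) = M
  intro (h2 : (ap M)^[D.e] = id)
  have e : D.e = 9 * (D.e / 9) + 1 := by have := D.mod; unfold Nat.ModEq at this; omega
  have h4 : (∀ z, (ap M)^[24] z = z) ∨ ∃ z, z ≠ 0 ∧ ap M z = 0 := by
    clear * -; revert M; decide +kernel
  rcases h4 with h4 | ⟨z, z1, z2⟩
  · have := Function.iterate_mul (ap M) D.e 8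
    rw [h2, Function.iterate_id, show D.e * 8 = 24 * (3 * (D.e / 9)) + 8 by omega,
      Function.iterate_add, Function.iterate_mul, show (ap M)^[24] = id from funext h4,
      Function.iterate_id] at this
    exact this
  · have := congrFun h2 z
    rw [e, Function.iterate_succ_apply, z2, Function.iterate_fixed (by simp [ap])] at this
    exact absurd this.symm z1

theorem PA.conj {D : Set3 G (Multiplicative A3)} {M : A3 × A3} (h : PA D M) (z : A3) :
    IsConj (D.ι (ofAdd z)) (D.ι (ofAdd (ap M z))) := by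
  obtain ⟨n, -, h⟩ := h
  exact isConj_iff.2 ⟨n, h z⟩

theorem PA.comp {D : Set3 G (Multiplicative A3)} {M N : A3 × A3} (h : PA D M) (h' : PA D N) :
    PA D (ap M N.1, ap M N.2) := by
  obtain ⟨n, n1, n2⟩ := h
  obtain ⟨m, m1, m2⟩ := h'
  exact ⟨n * m, mul_mem n1 m1, fun z => by rw [← ap_ap, ← n2, ← m2]; group⟩

theorem PA_of (D : Set3 G (Multiplicative A3)) {z z' : A3}
    (h : IsConj (D.ι (ofAdd z)) (D.ι (ofAdd z'))) : ∃ M, PA D M ∧ ap M z = z' := by
  obtain ⟨n, n1, n2⟩ := D.fusion h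
  obtain ⟨M, h1, -⟩ := exists_PA D n1
  exact ⟨M, ⟨n, n1, h1⟩, D.inj ((h1 z).symm.trans n2)⟩

/-- three classes of 3-elements -/
def Three (G : Type*) [Group G] : Prop :=
  3 ≤ Nat.card {C : ConjClasses G // ∃ g ∈ C.carrier, g ≠ 1 ∧ orderOf g ∣ 9}

theorem PA.sq (h3 : Three G) {D : Set3 G (Multiplicative A3)} {M : A3 × A3} (h : PA D M) (z : A3) :
    ap M (ap M z) = z := by
  classical
  have h8 : (ap M)^[8] = id := by
    obtain ⟨n, n1, n2⟩ := h
    obtain ⟨M', h1, h2⟩ := exists_PA D n1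
    rwa [show ap M = ap M' from funext fun z => D.inj ((n2 z).symm.trans (h1 z))]
  have : (∀ z, (ap M)^[8] z = z) → (∀ z, ap M (ap M z) = z) ∨
      ∃ x y, ∀ z, z = 0 ∨ ∃ i : Fin 8, z = (ap M)^[i] x ∨ z = (ap M)^[i] y := by
    clear * -; revert M; decide +kernel
  refine (this (congrFun h8)).resolve_right (fun ⟨x, y, e⟩ => ?_) z
  have it : ∀ x i, IsConj (D.ι (ofAdd x)) (D.ι (ofAdd ((ap M)^[i] x))) := fun x i => by
    induction i with
    | zero => exact IsConj.refl _
    | succ i ih => rw [Function.iterate_succ_apply']; exact ih.trans (h.conj _)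
  refine absurd (h3.trans (Nat.card_le_card_of_injective (β := ({ConjClasses.mk (D.ι (ofAdd x)),
    ConjClasses.mk (D.ι (ofAdd y))} : Finset _)) (fun C => ⟨C.1, ?_⟩)
    fun C C' e => Subtype.ext (congrArg Subtype.val e :))) ?_
  · obtain ⟨C, g, g1, g2, g3⟩ := C
    have := D.κ_spec g
    rw [D.pe_of (orderOf_dvd_iff_pow_eq_one.1 g3)] at this
    rw [ConjClasses.mem_carrier_iff_mk_eq] at g1
    simp only [← g1, Finset.mem_insert, Finset.mem_singleton, ConjClasses.mk_eq_mk_iff_isConj]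
    rcases e (D.κ g).toAdd with e | ⟨i, e | e⟩
    · rw [show D.κ g = 1 from e, map_one, isConj_one_left] at this
      exact absurd this g2
    · exact Or.inl (this.trans ((show D.κ g = ofAdd _ from e) ▸ (it x i).symm))
    · exact Or.inr (this.trans ((show D.κ g = ofAdd _ from e) ▸ (it y i).symm))
  · rw [Nat.card_eq_fintype_card, Fintype.card_coe]
    exact not_le.2 (Nat.lt_succ_of_le Finset.card_le_two)

theorem row_diag (hG : ¬ IsMulCommutative G) (h3 : Three G) (D : Set3 G (Multiplicative A3))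
    (h : PA D ((1, 0), (0, -1))) : Row G := by
  have k : ∀ M, PA D M → M.1.2 = 0 ∧ M.2.1 = 0 ∧ M.1.1 ^ 2 = 1 ∧ M.2.2 ^ 2 = 1 := fun M hM => by
    have h1 := hM.sq h3
    have h2 := (hM.comp h).sq h3
    clear * - h1 h2
    revert M
    decide +kernel
  obtain ⟨b, b1, b2⟩ := D.no_fix hG (b := ofAdd (1, 0)) (by decide)
  obtain ⟨M, m1, m2⟩ := PA_of D (z' := b.toAdd) b1
  have h' : PA D ((-1, 0), (0, 1)) := by
    have : M = ((-1, 0), (0, 1)) ∨ (ap M (1, 0), ap M (0, -1)) = ((-1, 0), (0, 1)) := by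
      have h1 := k M m1
      have h2 : ap M (1, 0) ≠ (1, 0) := m2 ▸ b2
      clear * - h1 h2
      revert M
      decide +kernel
    rcases this with e | e
    · exact e ▸ m1
    · have := m1.comp h
      dsimp only at this
      rwa [e] at this
  refine row_S2 hG D fun b b' => ⟨fun e => ?_, fun e => ?_⟩
  · obtain ⟨M, m1, m2⟩ := PA_of D (z := b.toAdd) (z' := b'.toAdd) e
    obtain ⟨k1, k2, k3, k4⟩ := k M m1
    simp [← m2, ap, k1, k2, mul_pow, k3, k4]
  · have : ∀ z z' : A3, z'.1 ^ 2 = z.1 ^ 2 ∧ z'.2 ^ 2 = z.2 ^ 2 → z' = z ∨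
        z' = ap ((1, 0), (0, -1)) z ∨ z' = ap ((-1, 0), (0, 1)) z ∨
        z' = ap ((-1, 0), (0, 1)) (ap ((1, 0), (0, -1)) z) := by decide
    rcases this _ _ e with e | e | e | e <;> rw [show b' = ofAdd _ from e]
    · exact IsConj.refl _
    · exact h.conj _
    · exact h'.conj _
    · exact (h.conj _).trans (h'.conj _)

theorem row_33 (hG : ¬ IsMulCommutative G) (h3 : Three G) (D : Set3 G (Multiplicative A3)) :
    Row G := by
  by_cases h : ∀ M, PA D M → M = ((1, 0), (0, 1)) ∨ M = ((-1, 0), (0, -1))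
  · obtain ⟨b, b1, b2⟩ := D.no_fix hG (b := ofAdd (1, 0)) (by decide)
    obtain ⟨M, m1, m2⟩ := PA_of D (z' := b.toAdd) b1
    obtain rfl := (h M m1).resolve_left fun e => b2 (by rw [e] at m2; exact m2.symm)
    refine row_S1 hG D (fun b b' => ⟨fun e => ?_, ?_⟩) ![f3 1 0, f3 0 1, f3 1 1, f3 1 2]
      (by decide) (by decide) (by decide) (by decide)
    · obtain ⟨M, m1, m2⟩ := PA_of D (z := b.toAdd) (z' := b'.toAdd) e
      rcases h M m1 with rfl | rfl
      · exact Or.inl (m2.symm.trans (by simp [ap]; rfl))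
      · exact Or.inr (m2.symm.trans (by simp [ap]; rfl))
    · rintro (rfl | rfl)
      · exact IsConj.refl _
      · rw [show b⁻¹ = ofAdd (ap ((-1, 0), 0, -1) (toAdd b)) by clear * -; revert b; decide]
        exact m1.conj b.toAdd
  push Not at h
  obtain ⟨M, m1, m2, m3⟩ := h
  obtain ⟨N, n1, n2⟩ : ∃ N : A3 × A3, (∀ z, ap N z = 0 → z = 0) ∧
      ∀ z, ap M (ap N z) = ap N (ap ((1, 0), (0, -1)) z) := by
    have := m1.sq h3
    clear * - this m2 m3
    revert M
    decide +kernel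
  let L : Multiplicative A3 →* Multiplicative A3 := (AddMonoidHom.mk' _ (ap_add N)).toMultiplicative
  have hL : Function.Injective L := (injective_iff_map_eq_one _).2 n1
  obtain ⟨n, a1, a2⟩ := m1
  refine row_diag hG h3 { D with ι := D.ι.comp L, inj := D.inj.comp hL } ⟨n, ?_, fun z => ?_⟩
  · rwa [MonoidHom.range_comp, MonoidHom.range_eq_top.2 (Finite.injective_iff_surjective.1 hL),
      ← MonoidHom.range_eq_map]
  · exact (a2 _).trans (congrArg (fun w => D.ι (ofAdd w)) (n2 z))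

theorem row_9 (hG : ¬ IsMulCommutative G) (D : Set3 G (Multiplicative (ZMod 9))) : Row G := by
  have k : ∀ n ∈ normalizer (D.ι.range : Set G), (∀ b, n * D.ι b * n⁻¹ = D.ι b) ∨
      ∀ b, n * D.ι b * n⁻¹ = D.ι b⁻¹ := fun n hn => by
    obtain ⟨φ, h1, h2⟩ := D.exists_aut hn
    have h3 : ∀ b, φ b = ofAdd ((φ (ofAdd 1)).toAdd * b.toAdd) := by
      intro b
      obtain ⟨i, rfl⟩ : ∃ i : Fin 9, b = ofAdd 1 ^ i.1 := by revert b; decide
      rw [map_pow]
      generalize φ (ofAdd 1) = u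
      revert u i
      decide +kernel
    rw [funext h3] at h1 h2
    generalize (φ (ofAdd 1)).toAdd = k at h1 h2
    have h4 : k ^ D.e = 1 := by
      have := congrFun h2 (ofAdd 1)
      rw [← mul_one (k ^ D.e)]
      exact (congrFun (mul_left_iterate k D.e) 1).symm.trans this
    have e : D.e = 9 * (D.e / 9) + 1 := by have := D.mod; unfold Nat.ModEq at this; omega
    have h5 : k ^ 2 = 1 := by
      rcases (by decide : ∀ k : ZMod 9, k ^ 2 = 0 ∨ (k ^ 2) ^ 9 = 1) k with e1 | e1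
      · have : (k ^ 2) ^ D.e = 1 := by rw [← pow_mul, mul_comm, pow_mul, h4, one_pow]
        rw [e1, e, pow_succ, mul_zero] at this
        exact absurd this (by decide)
      · have : (k ^ 2) ^ D.e = 1 := by rw [← pow_mul, mul_comm, pow_mul, h4, one_pow]
        rwa [e, pow_succ, pow_mul, e1, one_pow, one_mul] at this
    rcases (by decide : ∀ k : ZMod 9, k ^ 2 = 1 → k = 1 ∨ k = -1) k h5 with rfl | rfl
    · exact Or.inl (by simpa using h1)
    · exact Or.inr (by simpa using h1)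
  obtain ⟨b, b1, b2⟩ := D.no_fix hG (b := ofAdd 1) (by decide)
  obtain ⟨n, n1, n2⟩ := D.fusion b1
  have n3 := (k n n1).resolve_left fun e => b2 (D.inj (n2.symm.trans (e _)))
  let f : ZMod 9 → ZMod 9 →+ ZMod 9 := fun k => AddMonoidHom.mk' (k * ·) (mul_add k)
  refine row_S1 hG D (fun b b' => ⟨fun e => ?_, ?_⟩) ![f 1, f 2, f 4, f 3]
    (by decide) (by decide) (by decide) (by decide)
  · obtain ⟨m, m1, m2⟩ := D.fusion e
    exact (k m m1).imp (fun e => D.inj (m2.symm.trans (e _))) fun e => D.inj (m2.symm.trans (e _))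
  · rintro (rfl | rfl)
    · exact IsConj.refl _
    · exact isConj_iff.2 ⟨n, n3 b⟩

theorem exists_row (hG : ¬ IsMulCommutative G) (h3 : Three G) {m : ℕ} (hm : Nat.card G = 9 * m)
    (hc : m.Coprime 3) : Row G := by
  obtain ⟨e, e1, e2⟩ := Nat.chineseRemainder (hc.symm.pow_left 2) 1 0
  obtain ⟨R⟩ : Nonempty (Sylow 3 G) := inferInstance
  have cR : Nat.card R = 3 ^ 2 := by
    rw [Sylow.card_eq_multiplicity, hm, Nat.factorization_mul (by norm_num) (fun e => by simp [e] at hc),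
      show 9 = 3 ^ 2 from rfl, Nat.prime_three.factorization_pow]
    simp [Nat.factorization_eq_zero_of_not_dvd ((Nat.prime_three.coprime_iff_not_dvd).1 hc.symm)]
  by_cases cy : IsCyclic R
  · let φ : Multiplicative (ZMod 9) ≃* R := mulEquivOfCyclicCardEq (by simp [cR])
    exact row_9 hG ⟨(R : Subgroup G).subtype.comp φ.toMonoidHom,
      Subtype.val_injective.comp φ.injective, e, m, hm, hc, (Nat.modEq_zero_iff_dvd).1 e2, e1, by simp⟩
  have cm := IsPGroup.isMulCommutative_of_card_eq_prime_sq cR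
  have ex : ∀ x : R, x ^ 3 = 1 := fun x => by
    obtain ⟨k, k1, k2⟩ := (Nat.dvd_prime_pow Nat.prime_three).1 (cR ▸ orderOf_dvd_natCard x)
    refine orderOf_dvd_iff_pow_eq_one.1 (k2 ▸ ?_)
    interval_cases k
    · simp
    · simp
    · exact absurd (isCyclic_of_orderOf_eq_card x (k2.trans cR.symm)) cy
  have : Nontrivial R := Finite.one_lt_card_iff_nontrivial.1 (by simp [cR])
  obtain ⟨x, hx⟩ := exists_ne (1 : R)
  obtain ⟨y, hy⟩ : ∃ y, y ∉ zpowers x := by
    by_contra hn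
    push Not at hn
    exact cy ⟨x, hn⟩
  have pv : ∀ (x : R) (i j : ZMod 3), x ^ (i + j).val = x ^ i.val * x ^ j.val := fun x i j => by
    rw [ZMod.val_add, ← pow_eq_pow_mod _ (ex x), pow_add]
  let ι : Multiplicative A3 →* R := MonoidHom.mk' (fun z => x ^ z.toAdd.1.val * y ^ z.toAdd.2.val)
    fun a b => by
      simp only [toAdd_mul, Prod.fst_add, Prod.snd_add, pv]
      exact (Commute.mul_mul_mul_comm (cm.is_comm.comm _ _) _ _)
  refine row_33 hG h3 ⟨(R : Subgroup G).subtype.comp ι,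
    Subtype.val_injective.comp ((injective_iff_map_eq_one _).2 fun ⟨i, j⟩ h => ?_), e, m, hm, hc,
    (Nat.modEq_zero_iff_dvd).1 e2, e1, by simp⟩
  change x ^ i.val * y ^ j.val = 1 at h
  have h1 : y ^ j.val ∈ zpowers x := by
    rw [eq_inv_of_mul_eq_one_right h]
    exact inv_mem (npow_mem_zpowers _ _)
  have y3 : y ^ 3 ∈ zpowers x := ex y ▸ one_mem _
  fin_cases j
  · fin_cases i
    · rfl
    · exact absurd (by simpa using (show x ^ 1 * y ^ 0 = 1 from h)) hx
    · exact absurd (mem_bot.1 (mem_of_pow_mem (show Nat.Coprime 2 3 by norm_num)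
        (mem_bot.2 (by simpa using (show x ^ 2 * y ^ 0 = 1 from h))) (mem_bot.2 (ex x)))) hx
  · exact absurd (mem_of_pow_mem (show Nat.Coprime 1 3 by norm_num) h1 y3) hy
  · exact absurd (mem_of_pow_mem (show Nat.Coprime 2 3 by norm_num) h1 y3) hy

end Cfsg.Agent.H3.NQ
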