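import Cfsg.Agent.S2202
import Cfsg.Agent.H2.M2

/-! Recognition of `PSL₂(8)`. -/

set_option autoImplicit false
set_option linter.unusedSectionVars false

namespace Cfsg.Agent.H3.NQ

open Subgroup

variable {G : Type*} [Group G] [Finite G]

theorem cent_comm {t : G} (h8 : Nat.card (centralizer ({t} : Set G)) = 8)
    (h4 : ∀ g : G, orderOf g = 4 → 4 < Nat.card (centralizer ({g} : Set G))) :
    IsMulCommutative (centralizer ({t} : Set G)) := by
  have key : ∀ H ≤ centralizer ({t} : Set G), IsMulCommutative H → ¬ Nat.card H ∣ 4 →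
      IsMulCommutative (centralizer ({t} : Set G)) := fun H h1 h2 h3 => by
    have h5 := h8 ▸ card_dvd_of_le h1
    have h6 := Nat.le_of_dvd (by norm_num) h5
    rwa [← eq_of_le_of_card_ge h1 (by
      rw [h8]; generalize Nat.card H = n at *; interval_cases n <;> omega)]
  by_cases h : ∀ g : centralizer ({t} : Set G), orderOf g ∣ 2
  · exact ⟨⟨Commute.of_orderOf_dvd_two h⟩⟩
  push Not at h
  obtain ⟨⟨g, g1⟩, g2⟩ := h
  rw [orderOf_mk] at g2
  by_cases e : orderOf g ∣ 4
  swap
  · exact key _ (zpowers_le.2 g1) inferInstance (by rwa [Nat.card_zpowers])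
  have g4 : orderOf g = 4 := by
    have := Nat.le_of_dvd (by norm_num) e
    generalize orderOf g = n at *
    interval_cases n <;> omega
  obtain ⟨x, x1, x2, x3⟩ : ∃ x ∈ centralizer ({t} : Set G), x * g = g * x ∧ x ∉ zpowers g := by
    by_cases ht : t ∈ zpowers g
    · by_contra hn
      push Not at hn
      have := card_le_of_le (show centralizer {g} ≤ zpowers g from fun x hx => by
        obtain ⟨k, rfl⟩ := mem_zpowers_iff.1 ht
        have : Commute x g := mem_centralizer_singleton_iff.1 hx
        exact hn x (mem_centralizer_singleton_iff.2 (this.zpow_right k)) this)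
      have := h4 g g4
      rw [Nat.card_zpowers] at *
      omega
    · exact ⟨t, mem_centralizer_singleton_iff.2 rfl, (mem_centralizer_singleton_iff.1 g1).symm, ht⟩
  refine key (closure {g, x}) ((closure_le _).2 (by rintro _ (rfl | rfl) <;> assumption))
    (isMulCommutative_closure (by rintro _ (rfl | rfl) _ (rfl | rfl) <;> simp [x2])) fun h => x3 ?_
  rw [eq_of_le_of_card_ge (zpowers_le.2 (subset_closure (k := {g, x}) (by simp)))
    (by rw [Nat.card_zpowers, g4]; exact Nat.le_of_dvd (by norm_num) h)]
  exact subset_closure (by simp)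

theorem rec504 [IsSimpleGroup G] (hG : ¬ IsMulCommutative G) (hc : Nat.card G = 504)
    (h8 : ∀ z : G, z * z = 1 → z ≠ 1 → Nat.card (centralizer ({z} : Set G)) = 8)
    (h4 : ∀ g : G, orderOf g = 4 → 4 < Nat.card (centralizer ({g} : Set G))) :
    ∃ (F : Type) (_ : Field F) (_ : Fintype F), Fintype.card F = 8 ∧
      Nonempty (G ≃* Matrix.ProjectiveSpecialLinearGroup (Fin 2) F) := by
  obtain ⟨P⟩ : Nonempty (Sylow 2 G) := inferInstance
  have cP : Nat.card P = 8 := by
    rw [Sylow.card_eq_multiplicity, hc, show 504 = 2 ^ 3 * 63 from rfl, Nat.factorization_mul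
      (by norm_num) (by norm_num), Nat.prime_two.factorization_pow, Finsupp.add_apply,
      Nat.factorization_eq_zero_of_not_dvd (n := 63) (by norm_num)]
    simp
  rcases S2202.result (G := G) (hc ▸ by decide) (fun t ht => cent_comm (h8 t (by
    rw [← pow_two, ← ht, pow_orderOf_eq_one]) fun e => by simp [e] at ht) h4) with h | h | h
  · have := (IsCyclic.isComplement' (by rw [hc]; norm_num) (h P)).card_mul_card
    rcases IsSimpleGroup.eq_bot_or_eq_top_of_normal _ (MonoidHom.normal_ker (MonoidHom.transferSylow P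
      ((h P).normalizer_le_centralizer (by rw [hc]; norm_num)))) with e | e <;> rw [e, cP, hc] at this
    · simp at this
    · simp [hc] at this
  · rcases IsSimpleGroup.eq_bot_or_eq_top_of_normal _ (h P) with e | e <;> rw [e] at cP
    · simp at cP
    · simp [hc] at cP
  obtain ⟨F, _, _, A, _, _, -, -, ⟨e⟩⟩ := h
  have : Subsingleton A := by
    rcases IsSimpleGroup.eq_bot_or_eq_top_of_normal _ ((MonoidHom.snd _ A).comp e.toMonoidHom).normal_ker with h | h
    · exact absurd ⟨⟨fun x y => (MonoidHom.ker_eq_bot_iff _).1 h (by simp [mul_comm])⟩⟩ hG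
    · refine subsingleton_of_forall_eq 1 fun x => ?_
      have := mem_top (e.symm (1, x))
      rw [← h] at this
      simpa [mem_prod] using this
  have := uniqueOfSubsingleton (1 : A)
  have e' := e.trans MulEquiv.prodUnique
  have h1 := (Nat.card_congr e'.toEquiv).trans H2.card_SL2
  rw [hc, Nat.card_eq_fintype_card] at h1
  refine ⟨F, inferInstance, inferInstance, ?_, ⟨e'.trans (QuotientGroup.quotientBot.symm.trans
    (QuotientGroup.quotientMulEquivOfEq ?_))⟩⟩
  · have := Nat.le_of_dvd (by norm_num) (Dvd.intro _ h1.symm)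
    generalize Fintype.card F = n at *
    exact (show ∀ n ≤ 504, 504 = n * (n ^ 2 - 1) → n = 8 by decide +kernel) n this h1
  have := e'.symm.isSimpleGroup
  refine ((IsSimpleGroup.eq_bot_or_eq_top_of_normal _ inferInstance).resolve_right fun h => hG ⟨⟨fun x y =>
    e'.injective ?_⟩⟩).symm
  simpa using mem_center_iff.1 (h ▸ mem_top (e' y)) (e' x)

end Cfsg.Agent.H3.NQ
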