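import Mathlib

/-! A finite check for the recognition of `PSL₂(17)`. -/

set_option autoImplicit false

namespace Cfsg.Agent.H3.NQ

/-- discrete logarithm table -/
def lg (x : ZMod 17) : ℕ := [0, 0, 1, 0, 2, 6, 1, 3, 3, 7, 7, 5, 2, 6, 4, 5, 4].getD x.val 0

/-- the candidate map -/
def S17 (φ s t x : ZMod 17) : ZMod 17 := φ ^ lg x * if x = 2 ^ lg x then s else t

set_option synthInstance.maxSize 2000 in
theorem dec17 : ∀ φ : ZMod 17, φ ^ 8 = 1 → ∀ s, s ≠ 0 → ∀ t, t ≠ 0 → ∀ c, S17 φ s t c + s = 0 →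
    ∀ u, u ^ 8 = 1 → (∀ x, x ≠ 0 → S17 φ s t x + 1 ≠ 0 →
      S17 φ s t (S17 φ s t x + 1) = S17 φ s t (u * x + c) + s) →
    (∃ r, r * r = -s) ∧ ∀ x, x ≠ 0 → S17 φ s t x * x = s := by
  decide +kernel

theorem lg_spec : ∀ x : ZMod 17, x ≠ 0 → x = 2 ^ lg x * if x = 2 ^ lg x then 1 else 3 := by decide

end Cfsg.Agent.H3.NQ
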