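import Cfsg.Agent.H3.EB5
import Cfsg.Agent.H3.EB6
import Cfsg.Agent.S2220

/-! The dihedral case. -/

set_option autoImplicit false

namespace Cfsg.Agent.H3.EB

open Subgroup L0.EP NQ

theorem two_three {j s : ℕ} {δ : ℤ} (d : δ = 1 ∨ δ = -1) (h : (3 : ℤ) ^ s = 2 ^ (j + 2) + δ) :
    (j = 0 ∧ δ = -1) ∨ (j = 1 ∧ δ = 1) := by
  have m8 : ∀ s, (3 : ℤ) ^ s % 8 = 1 ∨ (3 : ℤ) ^ s % 8 = 3 := fun s => by
    induction s with
    | zero => simp
    | succ s ih => rw [pow_succ]; omega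
  rcases j with _ | _ | j
  · have := m8 s
    omega
  · have := m8 s
    omega
  exfalso
  have h1 := m8 s
  rw [show (2 : ℤ) ^ (j + 1 + 1 + 2) = 2 ^ j * 16 by ring] at h
  obtain rfl : δ = 1 := by omega
  obtain ⟨u, rfl | rfl⟩ := Nat.even_or_odd' s
  · obtain ⟨w, hw⟩ := Nat.exists_eq_add_of_le' (Nat.one_le_pow u 3 (by norm_num))
    have h2 : (w + 2) * w = 2 ^ j * 2 ^ 4 := by
      zify at hw ⊢
      rw [pow_mul', hw] at h
      linear_combination h
    obtain ⟨a, -, h3⟩ := (Nat.dvd_prime_pow Nat.prime_two).1 (Dvd.intro_left _ (h2.trans (pow_add ..).symm))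
    obtain ⟨b, -, h4⟩ := (Nat.dvd_prime_pow Nat.prime_two).1 (Dvd.intro _ (h2.trans (pow_add ..).symm))
    rcases a with _ | _ | a
    · subst h3; omega
    · subst h3; omega
    have := Nat.two_pow_pos a
    rcases b with _ | _ | b <;> omega
  have : (3 : ℤ) ^ (2 * u) % 8 = 1 := by
    rw [pow_mul]
    simpa [Int.ModEq] using Int.ModEq.pow u (show (3 : ℤ) ^ 2 ≡ 1 [ZMOD 8] by decide)
  rw [pow_succ] at h
  omega

theorem pieceB {G : Type*} [Group G] [Finite G] [IsSimpleGroup G] (hG : ¬ IsMulCommutative G)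
    (h : ∀ g : G, g ≠ 1 → IsPrimePow (orderOf g)) (V : Subgroup G) (h4 : Nat.card V = 4)
    (h2 : ∀ v ∈ V, v * v = 1) (hc : centralizer (V : Set G) = V) {y g : G}
    (hy : y ∈ normalizer (V : Set G)) (y3 : orderOf y = 3) (hg : g ∈ normalizer (V : Set G))
    (g1 : g ∉ V) (g2 : g * g ∈ V) : Nonempty (G ≃* alternatingGroup (Fin 6)) ∨
      ∃ (F : Type) (_ : Field F) (_ : Fintype F), Fintype.card F ∈ ({4, 7, 8, 17} : Finset ℕ) ∧
        Nonempty (G ≃* Matrix.ProjectiveSpecialLinearGroup (Fin 2) F) := by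
  have he : EPPO G := h
  obtain ⟨k, ⟨D⟩⟩ := exists_DH hG he V h4 h2 hc hy y3 hg g1 g2
  have := Fintype.ofFinite G
  obtain ⟨δ, q, m, d, hm, hq, hn, ct⟩ := D.cents hG he
  have c3 : ∀ x : G, x ≠ 1 → PE 3 x → ∃ s, Nat.card (centralizer ({x} : Set G)) = 3 ^ s ∧
      ((3 : ℤ) ^ s = 2 ^ (k + 1 + 2) + δ ∨ (3 : ℤ) ^ s = 2 ^ (k + 2) + δ) := fun x h1 h3 => by
    obtain ⟨s, hs⟩ := IsPGroup.iff_card.1 (isPGroup_of_pe (P := centralizer ({x} : Set G))
      fun y hy => he.pe_of_comm Nat.prime_three (mem_centralizer_singleton_iff.1 hy).symm h3 h1)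
    obtain ⟨j, hj⟩ := h3
    refine ⟨s, hs, (ct x fun e => h1 (e.eq_one_of_coprime hj (Nat.Coprime.pow_right _ (by norm_num)))).imp (fun e => ?_) fun e => ?_⟩
    · rw [pow_succ' _ (k + 2)]
      simpa [← e, hs, hh] using hq
    · simpa [← e, hs, hh] using hm
  have key : ∀ p a, p.Prime → p ≠ 2 → p ≠ 3 → Nat.card G = 9 * 2 ^ a * p ^ 1 →
      (∀ s, (3 : ℤ) ^ s = 2 ^ (k + 1 + 2) + δ ∨ (3 : ℤ) ^ s = 2 ^ (k + 2) + δ → 3 ^ s = 9) →
      Nonempty (G ≃* alternatingGroup (Fin 6)) ∨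
      ∃ (F : Type) (_ : Field F) (_ : Fintype F), Fintype.card F ∈ ({4, 7, 8, 17} : Finset ℕ) ∧
        Nonempty (G ≃* Matrix.ProjectiveSpecialLinearGroup (Fin 2) F) := fun p a p1 p2 p3 e hs => by
    obtain ⟨R⟩ := Sylow.nonempty (p := 3) (G := G)
    have cR : Nat.card R = 3 ^ 2 := by
      rw [R.card_eq_multiplicity, e, mul_assoc, Nat.factorization_mul (by norm_num)
        (by have := p1.pos; positivity), show 9 = 3 ^ 2 from rfl, Nat.prime_three.factorization_pow,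
        Finsupp.add_apply, Nat.factorization_eq_zero_of_not_dvd (n := _ * _)
          (Nat.prime_three.coprime_iff_not_dvd.1 (Nat.Coprime.mul_right (Nat.Coprime.pow_right _ (by norm_num))
            (by simpa using (Nat.coprime_primes Nat.prime_three p1).2 p3.symm)))]
      simp
    have := IsPGroup.isMulCommutative_of_card_eq_prime_sq cR
    rcases S2220.result hG p a 1 p1 p2 p3 e R fun x hx h1 => by
      obtain ⟨s, s1, s2⟩ := c3 x h1 (pe_of_mem R.isPGroup' hx)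
      exact (eq_of_le_of_card_ge (fun z hz => mem_centralizer_singleton_iff.2 (congrArg Subtype.val
        (mul_comm' (⟨z, hz⟩ : R) ⟨x, hx⟩))) (by rw [s1, hs s s2, cR]; rfl)).symm
      with e | ⟨F, _, _, e, e'⟩ | e
    exacts [Or.inl e, Or.inr ⟨F, _, ‹_›, by simp [e], e'⟩,
      Or.inr ⟨ZMod 17, _, inferInstance, by simp, e⟩]
  obtain ⟨s, -, e⟩ := c3 y (by rintro rfl; simp at y3) ⟨1, by simpa [y3] using pow_orderOf_eq_one y⟩
  simp only [hh] at hm hq hn
  have nine : ∀ s, (3 : ℤ) ^ s = 9 → 3 ^ s = 9 := fun s e => by exact_mod_cast e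
  rcases e.imp (two_three d) (two_three d) with (⟨e, -⟩ | ⟨e, rfl⟩) | ⟨rfl, rfl⟩ | ⟨rfl, rfl⟩
  · omega
  · obtain rfl : k = 0 := by omega
    exact key 5 3 (by norm_num) (by norm_num) (by norm_num) (by
      rw [hn, show q = 9 by omega, show m = 5 by omega]; rfl) fun s e => e.elim (nine s) fun e => by
        have := two_three (j := 0) d e
        omega
  · exact Or.inr ⟨ZMod 7, _, inferInstance, by simp, rec168 he (by
      rw [hn, show q = 7 by omega, show m = 3 by omega]; rfl)⟩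
  · exact key 17 4 (by norm_num) (by norm_num) (by norm_num) (by
      rw [hn, show q = 17 by omega, show m = 9 by omega]; rfl) fun s e => e.elim (fun e => by
        have := two_three (j := 2) d e
        omega) (nine s)

end Cfsg.Agent.H3.EB
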