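import Cfsg.Agent.H3.Orb

set_option autoImplicit false
set_option linter.unusedSectionVars false

namespace Cfsg.Agent.H3

open Equiv Equiv.Perm Subgroup MulAction Finset

variable {α : Type*} [DecidableEq α] [Fintype α]

theorem exists_even_extending {ι : Type*} [Fintype ι] (f g : ι → α) (hf : Function.Injective f)
    (hg : Function.Injective g) (h : Fintype.card ι + 2 ≤ Fintype.card α) :
    ∃ σ : Perm α, sign σ = 1 ∧ ∀ i, σ (f i) = g i := by
  obtain ⟨σ, hσ⟩ := Perm.exists_extending_pair f g hf hg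
  rcases Int.units_eq_one_or (sign σ) with e | e
  · exact ⟨σ, e, hσ⟩
  · have hc : (univ.image g).card ≤ Fintype.card ι := card_image_le
    obtain ⟨p, hp⟩ := exists_not_mem_of_card_lt (univ.image g) (by omega)
    obtain ⟨q, hq⟩ := exists_not_mem_of_card_lt (insert p (univ.image g)) (by
      rw [card_insert_of_notMem hp]; omega)
    simp only [mem_insert, mem_image, mem_univ, true_and, not_or, not_exists] at hp hq
    refine ⟨swap p q * σ, by rw [Perm.sign_mul, e, sign_swap (Ne.symm hq.1)]; simp, fun i => ?_⟩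
    rw [Perm.mul_apply, hσ, swap_apply_of_ne_of_ne (hp i) (hq.2 i)]

/-- number of fixed points -/
def nfix (a : Perm α) : ℕ := (univ.filter fun x => a x = x).card

/-- number of fixed points of `a * (σ * b * σ⁻¹)` -/
def nagr (a b σ : Perm α) : ℕ := (univ.filter fun y => a (σ (b y)) = σ y).card

theorem card_fixedPoints_eq_nagr (a b σ : Perm α) :
    Nat.card (Function.fixedPoints ⇑(a * (σ * b * σ⁻¹))) = nagr a b σ := by
  rw [nagr, Nat.card_coe_set_eq, ← Set.ncard_coe_finset]
  refine Eq.trans ?_ (Set.ncard_image_of_injective _ σ.injective)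
  congr 1
  ext x
  simp only [Function.mem_fixedPoints_iff, Perm.mul_apply, coe_filter, mem_univ, true_and,
    Set.mem_image, Set.mem_ofPred_eq]
  constructor
  · intro h; exact ⟨σ⁻¹ x, by simpa using h, by simp⟩
  · rintro ⟨y, hy, rfl⟩; simpa using hy

/-- auxiliary count -/
def cntA (a : Perm α) (y z : α) : ℕ :=
  (univ.filter fun σ : alternatingGroup α => a ((σ : Perm α) z) = (σ : Perm α) y).card

theorem cntA_smul (a : Perm α) {h : Perm α} (hh : sign h = 1) (y z : α) :
    cntA a (h y) (h z) = cntA a y z := by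
  unfold cntA
  refine card_bijective (fun σ => σ * ⟨h, hh⟩) (Group.mulRight_bijective _) fun σ => ?_
  simp

theorem sum_cntA_diag (a : Perm α) :
    ∑ y, cntA a y y = Fintype.card (alternatingGroup α) * nfix a := by
  simp only [cntA, card_filter]
  rw [sum_comm, ← card_univ, ← smul_eq_mul, ← sum_const]
  refine sum_congr rfl fun σ _ => ?_
  rw [nfix, card_filter]
  exact Equiv.sum_comp (σ : Perm α) fun x => if a x = x then 1 else 0

theorem sum_cntA_row (a : Perm α) (y : α) :
    ∑ z, cntA a y z = Fintype.card (alternatingGroup α) := by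
  simp only [cntA, card_filter]
  rw [sum_comm, ← card_univ, card_eq_sum_ones]
  refine sum_congr rfl fun σ _ => ?_
  rw [← card_filter, card_eq_one]
  refine ⟨(σ : Perm α)⁻¹ (a⁻¹ ((σ : Perm α) y)), ?_⟩
  ext z
  simp only [mem_filter, mem_univ, true_and, mem_singleton, Perm.eq_inv_iff_eq]

theorem sum_nagr (a b : Perm α) :
    ∑ σ : alternatingGroup α, nagr a b σ = ∑ y, cntA a y (b y) := by
  simp only [cntA, nagr, card_filter]
  rw [sum_comm]

theorem avg_formula (h4 : 4 ≤ Fintype.card α) (a b : Perm α) (c : ℕ)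
    (hc : ∀ σ : Perm α, sign σ = 1 → nagr a b σ = c) :
    (Fintype.card α : ℤ) * (Fintype.card α - 1) * c = (Fintype.card α - 1) * nfix a * nfix b +
      (Fintype.card α - nfix a) * (Fintype.card α - nfix b) := by
  obtain ⟨x, -⟩ := exists_not_mem_of_card_lt (∅ : Finset α) (by simp; omega)
  obtain ⟨x', hx'⟩ := exists_not_mem_of_card_lt ({x} : Finset α) (by simp; omega)
  rw [mem_singleton] at hx'
  have hd : ∀ y, cntA a y y = cntA a x x := by
    intro y
    obtain ⟨σ, h1, h2⟩ := exists_even_extending (ι := Unit) (fun _ => x) (fun _ => y)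
      (fun _ _ _ => rfl) (fun _ _ _ => rfl) (by simp; omega)
    rw [← cntA_smul a h1 x x, h2 ()]
  have ho : ∀ y z, z ≠ y → cntA a y z = cntA a x x' := by
    intro y z hz
    obtain ⟨σ, h1, h2⟩ := exists_even_extending ![x, x'] ![y, z]
      (by simp [Function.Injective, Fin.forall_fin_two, hx', Ne.symm hx'])
      (by simp [Function.Injective, Fin.forall_fin_two, hz, Ne.symm hz]) (by simp; omega)
    have a1 := h2 0
    have a2 := h2 1
    simp only [Matrix.cons_val_zero, Matrix.cons_val_one] at a1 a2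
    rw [← cntA_smul a h1 x x', a1, a2]
  have e1 := sum_cntA_diag a
  simp only [hd, sum_const, card_univ, smul_eq_mul] at e1
  have e2 := sum_cntA_row a x
  rw [← add_sum_erase _ _ (mem_univ x), sum_congr rfl fun z hz => ho x z (ne_of_mem_erase hz),
    sum_const, card_erase_of_mem (mem_univ _), card_univ, smul_eq_mul] at e2
  have e3 := sum_nagr a b
  rw [sum_congr rfl fun (σ : alternatingGroup α) _ => hc σ σ.2, sum_const, card_univ, smul_eq_mul,
    ← sum_filter_add_sum_filter_not univ fun y => b y = y,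
    sum_congr rfl fun y hy => (by rw [(mem_filter.1 hy).2, hd] : cntA a y (b y) = cntA a x x),
    sum_congr rfl fun y hy => ho y (b y) (mem_filter.1 hy).2, sum_const, sum_const, smul_eq_mul,
    smul_eq_mul] at e3
  have e4 := card_filter_add_card_filter_not (s := univ) fun y => b y = y
  rw [card_univ] at e4
  change _ = nfix b * _ + _ at e3
  change nfix b + _ = _ at e4
  have hA : (0 : ℤ) < Fintype.card (alternatingGroup α) := by exact_mod_cast Fintype.card_pos
  zify [show 1 ≤ Fintype.card α by omega] at e1 e2 e3 e4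
  generalize ((univ.filter fun y => ¬b y = y).card : ℤ) = m at e3 e4
  apply mul_left_cancel₀ hA.ne'
  have e5 : m = Fintype.card α - nfix b := by omega
  subst e5
  linear_combination (Fintype.card α * (Fintype.card α - 1) : ℤ) * e3 +
    ((Fintype.card α - 1) * nfix b - (Fintype.card α - nfix b) : ℤ) * e1 +
    (Fintype.card α * (Fintype.card α - nfix b) : ℤ) * e2

theorem nfix_add_two_le {a : Perm α} (ha : a ≠ 1) : nfix a + 2 ≤ Fintype.card α := by
  have h1 := two_le_card_support_of_ne_one ha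
  have h2 := card_filter_add_card_filter_not (s := univ) fun y => a y = y
  rw [card_univ] at h2
  exact le_trans (Nat.add_le_add_left h1 _) h2.le

theorem nfix_inv (a : Perm α) : nfix a⁻¹ = nfix a := by
  unfold nfix
  congr 1
  ext x
  simp only [mem_filter, mem_univ, true_and, Perm.inv_eq_iff_eq]
  exact eq_comm

theorem le_nagr {ι : Type*} [Fintype ι] {a b σ : Perm α} (y : ι → α) (hy : Function.Injective y)
    (h : ∀ i, a (σ (b (y i))) = σ (y i)) : Fintype.card ι ≤ nagr a b σ := by
  classical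
  rw [← card_univ, ← card_image_of_injective _ hy]
  apply card_le_card
  intro z hz
  obtain ⟨i, -, rfl⟩ := mem_image.1 hz
  simpa using h i

theorem exists_min_le_nagr {a b : Perm α} (ha : a ≠ 1) (hb : b ≠ 1) :
    ∃ σ, sign σ = 1 ∧ min (nfix a) (nfix b) ≤ nagr a b σ := by
  have h1 := nfix_add_two_le ha
  obtain ⟨e⟩ : Nonempty (Fin (min (nfix a) (nfix b)) ↪ (univ.filter fun x => a x = x)) :=
    Function.Embedding.nonempty_of_card_le (by
      rw [Fintype.card_fin, Fintype.card_coe]; exact min_le_left _ _)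
  obtain ⟨f⟩ : Nonempty (Fin (min (nfix a) (nfix b)) ↪ (univ.filter fun x => b x = x)) :=
    Function.Embedding.nonempty_of_card_le (by
      rw [Fintype.card_fin, Fintype.card_coe]; exact min_le_right _ _)
  obtain ⟨σ, h2, h3⟩ := exists_even_extending (fun i => (f i : α)) (fun i => (e i : α))
    (Subtype.val_injective.comp f.injective) (Subtype.val_injective.comp e.injective)
    (by rw [Fintype.card_fin]; omega)
  refine ⟨σ, h2, ?_⟩
  have := le_nagr (a := a) (b := b) (σ := σ) (fun i => (f i : α))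
    (Subtype.val_injective.comp f.injective) fun i => by
      rw [(mem_filter.1 (f i).2).2, h3, (mem_filter.1 (e i).2).2]
  rwa [Fintype.card_fin] at this

theorem exists_moved {a : Perm α} (ha : a ≠ 1) : ∃ x, a x ≠ x := by
  by_contra h; push Not at h; exact ha (Perm.ext h)

theorem inj3 {x y z : α} (h1 : x ≠ y) (h2 : x ≠ z) (h3 : y ≠ z) : Function.Injective ![x, y, z] := by
  intro i j; fin_cases i <;> fin_cases j <;> simp [*, eq_comm]

theorem inj2 {x y : α} (h1 : x ≠ y) : Function.Injective ![x, y] := by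
  intro i j; fin_cases i <;> fin_cases j <;> simp [*, eq_comm]

theorem inj4 {x y z w : α} (h1 : x ≠ y) (h2 : x ≠ z) (h3 : x ≠ w) (h4 : y ≠ z) (h5 : y ≠ w)
    (h6 : z ≠ w) : Function.Injective ![x, y, z, w] := by
  intro i j; fin_cases i <;> fin_cases j <;> simp [*, eq_comm]

theorem exists_one_le_nagr (h4 : 4 ≤ Fintype.card α) {a b : Perm α} (ha : a ≠ 1) (hb : b ≠ 1) :
    ∃ σ, sign σ = 1 ∧ 1 ≤ nagr a b σ := by
  obtain ⟨x, hx⟩ := exists_moved ha
  obtain ⟨y, hy⟩ := exists_moved hb
  obtain ⟨σ, h1, h2⟩ := exists_even_extending ![y, b y] ![a x, x] (inj2 hy.symm) (inj2 hx)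
    (by simp; omega)
  have a1 := h2 0
  have a2 := h2 1
  simp only [Matrix.cons_val_zero, Matrix.cons_val_one] at a1 a2
  exact ⟨σ, h1, le_nagr (ι := Unit) (fun _ => y) (fun _ _ _ => rfl) fun _ => by rw [a1, a2]⟩

theorem exists_two_le_nagr_fixed (h5 : 5 ≤ Fintype.card α) {a b : Perm α} (ha : a ≠ 1) (hb : b ≠ 1)
    (fa : 1 ≤ nfix a) (fb : 1 ≤ nfix b) : ∃ σ, sign σ = 1 ∧ 2 ≤ nagr a b σ := by
  obtain ⟨x, hx⟩ := exists_moved ha
  obtain ⟨y, hy⟩ := exists_moved hb
  obtain ⟨x0, hx0⟩ := card_pos.1 fa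
  obtain ⟨y0, hy0⟩ := card_pos.1 fb
  simp only [mem_filter, mem_univ, true_and] at hx0 hy0
  have n1 : y ≠ y0 := fun e => hy (by rw [e, hy0])
  have n2 : x ≠ x0 := fun e => hx (by rw [e, hx0])
  obtain ⟨σ, h1, h2⟩ := exists_even_extending ![y, b y, y0] ![a x, x, x0]
    (inj3 hy.symm n1 fun e => n1 (b.injective (e.trans hy0.symm)))
    (inj3 hx (fun e => n2 (a.injective (e.trans hx0.symm))) n2) (by simp; omega)
  have a1 := h2 0
  have a2 := h2 1
  have a3 := h2 2
  simp only [Matrix.cons_val_zero, Matrix.cons_val_one, Matrix.cons_val] at a1 a2 a3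
  refine ⟨σ, h1, le_nagr ![y, y0] (inj2 n1) fun i => ?_⟩
  fin_cases i
  · simp [a1, a2]
  · simp [hy0, a3, hx0]

theorem exists_two_edges (h5 : 5 ≤ Fintype.card α) {a : Perm α} (fa : nfix a ≤ 1) :
    ∃ x z, a x ≠ x ∧ a z ≠ z ∧ z ≠ x ∧ z ≠ a x ∧ a z ≠ x := by
  have key : ∀ s : Finset α, s.card ≤ 3 → ∃ z, z ∉ s ∧ a z ≠ z := by
    intro s hs
    obtain ⟨z, hz⟩ := exists_not_mem_of_card_lt (s ∪ univ.filter fun x => a x = x)
      (lt_of_le_of_lt (card_union_le _ _) (by unfold nfix at fa; omega))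
    simp only [mem_union, mem_filter, mem_univ, true_and, not_or] at hz
    exact ⟨z, hz⟩
  obtain ⟨x, -, hx⟩ := key ∅ (by simp)
  obtain ⟨z, hz, hz'⟩ := key {x, a x, a⁻¹ x} card_le_three
  simp only [mem_insert, mem_singleton, not_or, Perm.eq_inv_iff_eq] at hz
  exact ⟨x, z, hx, hz', hz.1, hz.2.1, hz.2.2⟩

theorem swap_comm_of_sq {a : Perm α} (h : ∀ x, a (a x) = x) (x y : α) :
    swap x (a x) (a y) = a (swap x (a x) y) := by
  have := swap_mem_pairKer h x
  rcases this y with e | e
  · rcases this (a y) with f | f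
    · rw [e, f]
    · simp only [swap_apply_def] at e f ⊢; grind
  · rw [e, h]
    rcases this (a y) with f | f
    · simp only [swap_apply_def] at e f ⊢; grind
    · rw [f, h]

theorem exists_two_le_nagr (h5 : 5 ≤ Fintype.card α) {a b : Perm α}
    (fa : nfix a ≤ 1) (fb : nfix b ≤ 1) : ∃ σ, sign σ = 1 ∧ 2 ≤ nagr a b σ := by
  by_cases h : (∀ x, a (a x) = x) ∨ ∀ x, b (b x) = x
  · obtain ⟨x, z, a1, a2, a3, a4, a5⟩ := exists_two_edges h5 fa
    obtain ⟨y, w, b1, b2, b3, b4, b5⟩ := exists_two_edges h5 fb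
    obtain ⟨σ, hσ⟩ := Perm.exists_extending_pair ![y, b y, w, b w] ![a x, x, a z, z]
      (inj4 b1.symm b3.symm b5.symm b4.symm (fun e => b3 (b.injective e).symm) b2.symm)
      (inj4 a1 (fun e => a3 (a.injective e).symm) a4.symm a5.symm a3.symm a2)
    have c1 := hσ 0
    have c2 := hσ 1
    have c3' := hσ 2
    have c4 := hσ 3
    simp only [Matrix.cons_val_zero, Matrix.cons_val_one, Matrix.cons_val] at c1 c2 c3' c4
    have key : ∀ i : Fin 2, a (σ (b (![y, w] i))) = σ (![y, w] i) := by
      intro i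
      fin_cases i
      · simp [c1, c2]
      · simp [c3', c4]
    rcases Int.units_eq_one_or (sign σ) with e | e
    · exact ⟨σ, e, le_nagr ![y, w] (inj2 b3.symm) key⟩
    rcases h with h | h
    · refine ⟨swap x (a x) * σ, by rw [Perm.sign_mul, e, sign_swap a1.symm]; simp,
        le_nagr ![y, w] (inj2 b3.symm) fun i => ?_⟩
      rw [Perm.mul_apply, Perm.mul_apply, ← swap_comm_of_sq h, key]
    · refine ⟨σ * swap y (b y), by rw [Perm.sign_mul, e, sign_swap b1.symm]; simp,
        le_nagr (fun i => swap y (b y) (![y, w] i)) ((swap _ _).injective.comp (inj2 b3.symm))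
          fun i => ?_⟩
      rw [Perm.mul_apply, Perm.mul_apply, ← swap_comm_of_sq h, swap_apply_self, swap_apply_self, key]
  · push Not at h
    obtain ⟨⟨x, hx⟩, ⟨y, hy⟩⟩ := h
    have hx' : a x ≠ x := fun e => hx (by rw [e, e])
    have hy' : b y ≠ y := fun e => hy (by rw [e, e])
    obtain ⟨σ, h1, h2⟩ := exists_even_extending ![y, b y, b (b y)] ![a (a x), a x, x]
      (inj3 hy'.symm hy.symm fun e => hy' (b.injective e).symm)
      (inj3 (fun e => hx' (a.injective e)) hx hx') (by simp; omega)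
    have a1 := h2 0
    have a2 := h2 1
    have a3 := h2 2
    simp only [Matrix.cons_val_zero, Matrix.cons_val_one, Matrix.cons_val] at a1 a2 a3
    refine ⟨σ, h1, le_nagr ![y, b y] (inj2 hy'.symm) fun i => ?_⟩
    fin_cases i
    · simp [a1, a2]
    · simp [a2, a3]

theorem nagr_not_const (h5 : 5 ≤ Fintype.card α) {a b : Perm α} (ha : a ≠ 1) (hb : b ≠ 1) :
    ∃ σ, sign σ = 1 ∧ nagr a b σ ≠ nagr a b 1 := by
  by_contra h
  push Not at h
  have h1 := avg_formula (by omega) a b _ h
  have h2 := nfix_add_two_le ha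
  have h3 := nfix_add_two_le hb
  have h1' : ((Fintype.card α : ℤ) - 1) * (nagr a b 1 - 1) = (nfix a - 1) * (nfix b - 1) := by
    apply mul_left_cancel₀ (show (Fintype.card α : ℤ) ≠ 0 by omega)
    linear_combination h1
  have k : ∀ m, (∃ σ, sign σ = 1 ∧ m ≤ nagr a b σ) → m ≤ nagr a b 1 := fun m ⟨σ, s1, s2⟩ =>
    h σ s1 ▸ s2
  have k1 := k _ (exists_min_le_nagr ha hb)
  have k2 := k _ (exists_one_le_nagr (by omega) ha hb)
  have k3 := fun x y => k _ (exists_two_le_nagr_fixed h5 ha hb x y)
  have k4 := fun x y => k _ (exists_two_le_nagr (a := a) (b := b) h5 x y)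
  clear h h1 k
  generalize nagr a b 1 = c at *
  generalize nfix a = fa at *
  generalize nfix b = fb at *
  generalize Fintype.card α = n at *
  have m0 : (0 : ℤ) ≤ (n - 1) * (c - 1) := mul_nonneg (by omega) (by omega)
  have m1 : 2 ≤ c → (n : ℤ) - 1 ≤ (n - 1) * (c - 1) := fun h =>
    le_mul_of_one_le_right (by omega) (by omega)
  by_cases c1 : fa ≤ 1 <;> by_cases c2 : fb ≤ 1
  · have := m1 (k4 c1 c2)
    interval_cases fa <;> interval_cases fb <;> push_cast at h1' <;> omega
  · interval_cases fa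
    · push_cast at h1'; omega
    · have := m1 (k3 le_rfl (by omega))
      push_cast at h1'; omega
  · interval_cases fb
    · push_cast at h1'; omega
    · have := m1 (k3 (by omega) le_rfl)
      push_cast at h1'; omega
  · rcases le_total fa fb with c4 | c4
    · rw [min_eq_left c4] at k1
      have a1 : ((fa : ℤ) - 1) * (fb - 1) < (fa - 1) * (n - 1) :=
        mul_lt_mul_of_pos_left (by omega) (by omega)
      have a2 : ((fa : ℤ) - 1) * (n - 1) ≤ (c - 1) * (n - 1) :=
        mul_le_mul_of_nonneg_right (by omega) (by omega)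
      linarith
    · rw [min_eq_right c4] at k1
      have a1 : ((fb : ℤ) - 1) * (fa - 1) < (fb - 1) * (n - 1) :=
        mul_lt_mul_of_pos_left (by omega) (by omega)
      have a2 : ((fb : ℤ) - 1) * (n - 1) ≤ (c - 1) * (n - 1) :=
        mul_le_mul_of_nonneg_right (by omega) (by omega)
      linarith

end Cfsg.Agent.H3
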