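import Cfsg.Agent.H3.VecModel

/-! Computable models of small finite fields, and models of matrix groups over them. -/

set_option autoImplicit false

namespace Cfsg.Agent.H3

open L0 Matrix Finset

universe u v

/-- a ring map from a computable ring whose element `ω0` has independent powers -/
structure Emb {R : Type*} [CommRing R] {F : Type*} [Field F] (φ : R →+* F) (p d : ℕ) (ω0 : R) :
    Prop where
  indep : H9.PM.Indep p (φ ω0) d
  char : (p : F) = 0
  bij : Function.Bijective φ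

theorem inj_of_inv {R : Type*} [CommRing R] {F : Type*} [Field F] (φ : R →+* F)
    (h : ∀ x : R, x ≠ 0 → ∃ y, x * y = 1) : Function.Injective φ :=
  (injective_iff_map_eq_zero φ).mpr fun x hx => by
    by_contra h0
    obtain ⟨y, hy⟩ := h x h0
    have := congrArg φ hy
    rw [map_mul, hx, zero_mul, map_one] at this
    exact zero_ne_one this

theorem emb_of {R : Type*} [CommRing R] [Fintype R] {F : Type*} [Field F] [Fintype F] (φ : R →+* F)
    {p d : ℕ} {ω0 : R} (h : ∀ x : R, x ≠ 0 → ∃ y, x * y = 1) (hc : Fintype.card R = Fintype.card F)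
    (hp : (p : R) = 0) (hi : H9.PM.Indep p ω0 d) : Emb φ p d ω0 :=
  ⟨fun a b ha hb hab => hi a b ha hb (inj_of_inv φ h (by simpa using hab)),
    by rw [← map_natCast φ, hp, map_zero],
    (Fintype.bijective_iff_injective_and_card φ).mpr ⟨inj_of_inv φ h, hc⟩⟩

theorem charP_of_card {F : Type*} [Field F] [Fintype F] {p d : ℕ} (hp : p.Prime)
    (hF : Fintype.card F = p ^ d) : CharP F p := by
  obtain ⟨q, hq⟩ := CharP.exists F
  obtain ⟨n, hq', hn⟩ := FiniteField.card F q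
  have : q = p := by
    have h1 : q ∣ p ^ d := by rw [← hF, hn]; exact dvd_pow_self q n.ne_zero
    exact (Nat.prime_dvd_prime_iff_eq hq' hp).mp (hq'.dvd_of_dvd_pow h1)
  exact this ▸ hq

theorem exists_emb_prime {F : Type*} [Field F] [Fintype F] {p : ℕ} (hp : p.Prime)
    (hF : Fintype.card F = p) : ∃ φ : ZMod p →+* F, Emb φ p 1 1 := by
  haveI := Fact.mk hp
  haveI := charP_of_card (d := 1) hp (by simpa using hF)
  refine ⟨ZMod.castHom dvd_rfl F, emb_of _ (fun x hx => ⟨x⁻¹, mul_inv_cancel₀ hx⟩)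
    (by rw [ZMod.card, hF]) (by simp) (H9.PM.indep_one p 1)⟩

/-- quadratic extensions -/
abbrev QF (p : ℕ) (a b : ZMod p) : Type := QuadraticAlgebra (ZMod p) a b

instance fintypeQF (p : ℕ) [NeZero p] (a b : ZMod p) : Fintype (QF p a b) :=
  Fintype.ofEquiv _ (QuadraticAlgebra.equivProd a b).symm

/-- the generator -/
def qw (p : ℕ) (a b : ZMod p) : QF p a b := ⟨0, 1⟩

theorem exists_emb_quad {F : Type*} [Field F] [Fintype F] {p : ℕ} [Fact p.Prime]
    (hF : Fintype.card F = p ^ 2) {a b : ZMod p} (h : ∀ x : QF p a b, x ≠ 0 → ∃ y, x * y = 1) :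
    ∃ φ : QF p a b →+* F, Emb φ p 2 (qw p a b) := by
  haveI : Nontrivial (QF p a b) := inferInstance
  letI : Field (QF p a b) := IsField.toField ⟨exists_pair_ne _, mul_comm, fun hx => h _ hx⟩
  have hc : Fintype.card (QF p a b) = Fintype.card F := by
    rw [Fintype.card_congr (QuadraticAlgebra.equivProd a b), Fintype.card_prod, ZMod.card, hF, sq]
  refine ⟨(FiniteField.ringEquivOfCardEq hc).toRingHom, emb_of _ h hc ?_ ?_⟩
  · ext <;> simp
  · intro x y hx hy hxy u hu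
    simp only [sum_range_succ, range_zero, sum_empty, zero_add, pow_zero, mul_one, pow_one] at hxy
    have h0 := congrArg QuadraticAlgebra.re hxy
    have h1 := congrArg QuadraticAlgebra.im hxy
    simp [qw] at h0 h1
    interval_cases u
    · exact Nat.ModEq.eq_of_lt_of_lt ((ZMod.natCast_eq_natCast_iff _ _ _).mp h0) (hx 0) (hy 0)
    · exact Nat.ModEq.eq_of_lt_of_lt ((ZMod.natCast_eq_natCast_iff _ _ _).mp h1) (hx 1) (hy 1)

/-- the field with four elements -/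
abbrev R4 : Type := QF 2 1 1
/-- the field with nine elements -/
abbrev R9 : Type := QF 3 2 0
/-- the field with twenty-five elements -/
abbrev R25 : Type := QF 5 2 0

theorem exists_emb4 {F : Type*} [Field F] [Fintype F] (hF : Fintype.card F = 4) :
    ∃ φ : R4 →+* F, Emb φ 2 2 (qw 2 1 1) := exists_emb_quad (p := 2) hF (by decide +kernel)

theorem exists_emb9 {F : Type*} [Field F] [Fintype F] (hF : Fintype.card F = 9) :
    ∃ φ : R9 →+* F, Emb φ 3 2 (qw 3 2 0) := exists_emb_quad (p := 3) hF (by decide +kernel)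

theorem exists_emb25 {F : Type*} [Field F] [Fintype F] (hF : Fintype.card F = 25) :
    ∃ φ : R25 →+* F, Emb φ 5 2 (qw 5 2 0) :=
  @exists_emb_quad F _ _ 5 ⟨by norm_num⟩ hF 2 0 (by decide +kernel)

/-- the field with eight elements, `w ^ 3 = w + 1` -/
@[ext] structure R8 where
  a : ZMod 2
  b : ZMod 2
  c : ZMod 2
deriving DecidableEq

namespace R8

/-- coordinates -/
def eqv : ZMod 2 × ZMod 2 × ZMod 2 ≃ R8 where
  toFun t := ⟨t.1, t.2.1, t.2.2⟩
  invFun x := (x.a, x.b, x.c)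
  left_inv _ := rfl
  right_inv _ := rfl

instance : Fintype R8 := Fintype.ofEquiv _ eqv
instance : Zero R8 := ⟨⟨0, 0, 0⟩⟩
instance : One R8 := ⟨⟨1, 0, 0⟩⟩
instance : Add R8 := ⟨fun x y => ⟨x.a + y.a, x.b + y.b, x.c + y.c⟩⟩
instance : Neg R8 := ⟨fun x => x⟩
instance : Mul R8 := ⟨fun x y => ⟨x.a * y.a + x.b * y.c + x.c * y.b,
  x.a * y.b + x.b * y.a + x.b * y.c + x.c * y.b + x.c * y.c,
  x.a * y.c + x.b * y.b + x.c * y.a + x.c * y.c⟩⟩

instance : CommRing R8 := CommRing.ofMinimalAxioms (by decide +kernel) (by decide +kernel)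
  (by decide +kernel) (by decide +kernel) (by decide +kernel) (by decide +kernel) (by decide +kernel)

/-- the generator -/
def w : R8 := ⟨0, 1, 0⟩

theorem indep : H9.PM.Indep 2 w 3 := by
  intro x y hx hy hxy u hu
  have key : ∀ a0 a1 a2 b0 b1 b2 : Fin 2,
      ((a0 : ℕ) : R8) * w ^ 0 + ((a1 : ℕ) : R8) * w ^ 1 + ((a2 : ℕ) : R8) * w ^ 2 =
      ((b0 : ℕ) : R8) * w ^ 0 + ((b1 : ℕ) : R8) * w ^ 1 + ((b2 : ℕ) : R8) * w ^ 2 →
      a0.val = b0.val ∧ a1.val = b1.val ∧ a2.val = b2.val := by decide +kernel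
  simp only [sum_range_succ, range_zero, sum_empty, zero_add] at hxy
  obtain ⟨h0, h1, h2⟩ := key ⟨_, hx 0⟩ ⟨_, hx 1⟩ ⟨_, hx 2⟩ ⟨_, hy 0⟩ ⟨_, hy 1⟩ ⟨_, hy 2⟩ hxy
  interval_cases u <;> assumption

end R8

theorem exists_emb8 {F : Type*} [Field F] [Fintype F] (hF : Fintype.card F = 8) :
    ∃ φ : R8 →+* F, Emb φ 2 3 R8.w := by
  have h : ∀ x : R8, x ≠ 0 → ∃ y, x * y = 1 := by decide +kernel
  letI : Field R8 := IsField.toField ⟨⟨0, 1, by decide +kernel⟩, mul_comm, fun hx => h _ hx⟩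
  have hc : Fintype.card R8 = Fintype.card F := by rw [hF]; decide +kernel
  exact ⟨(FiniteField.ringEquivOfCardEq hc).toRingHom, emb_of _ h hc (by decide +kernel) R8.indep⟩

namespace Vec

variable {R : Type*} [CommRing R] {ι : Type*} [Fintype ι] [DecidableEq ι]

/-- the list `C` codes the matrix `M` over the computable ring -/
def CodR (P : Fm) (e : ι ≃ Fin P.n) (ω0 : R) (C : List ℕ) (M : Matrix ι ι R) : Prop :=
  colsB P C = true ∧ ∀ i j, ∀ u < P.d, M i j * ω0 ^ u = dec P e ω0 (C.getD (P.d * e j + u) 0) i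

noncomputable instance [DecidableEq R] (P : Fm) (e : ι ≃ Fin P.n) (ω0 : R) (C : List ℕ) (M : Matrix ι ι R) :
    Decidable (CodR P e ω0 C M) := by unfold CodR; infer_instance

/-- all the matrices involved are coded correctly -/
def AllCod (P : Fm) (e : ι ≃ Fin P.n) (ω0 : R) (Cs : List (List ℕ)) (k : ℕ) (CU CI : List ℕ) : Prop :=
  (∀ i < k, CodR P e ω0 (nthW Cs i) (mat P e ω0 (nthW Cs i))) ∧ CodR P e ω0 CU (mat P e ω0 CU) ∧
    CodR P e ω0 CI (Matrix.of fun i j => if i = j then 1 else 0)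

/-- the scalar matrices are coded correctly -/
def ScalCod (P : Fm) (e : ι ≃ Fin P.n) (ω0 : R) (Ss : List (List ℕ)) (as : List (R × R)) : Prop :=
  ∀ S ∈ Ss, ∃ a ∈ as, a.1 * a.2 = 1 ∧ CodR P e ω0 S (Matrix.of fun i j => if i = j then a.1 else 0)

noncomputable instance [DecidableEq R] (P : Fm) (e : ι ≃ Fin P.n) (ω0 : R) (Ss : List (List ℕ))
    (as : List (R × R)) : Decidable (ScalCod P e ω0 Ss as) := by unfold ScalCod; infer_instance

variable {F : Type*} [Field F] {P : Fm} {e : ι ≃ Fin P.n} {ω0 : R} (φ : R →+* F)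

theorem soundL_top {E : List ℕ → ℕ → List ℕ → ℕ → Bool} (hE : Sound P e (φ ω0) E) (hp : 0 < P.p)
    {Ss : List (List ℕ)} {as : List (R × R)} (h : ScalCod P e ω0 Ss as) :
    SoundL P e (φ ω0) ⊤ (anyE E Ss) :=
  soundL_anyE hE fun S hS => by
    obtain ⟨a, -, h1, h2, h3⟩ := h S hS
    have h4 : φ a.1 ≠ 0 := left_ne_zero_of_mul_eq_one (by rw [← map_mul, h1, map_one])
    exact ⟨Units.mk0 _ h4, trivial, coded_smul φ rfl hp h2 h3⟩

theorem soundL_bot {E : List ℕ → ℕ → List ℕ → ℕ → Bool} (hE : Sound P e (φ ω0) E) (hp : 0 < P.p)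
    {Ss : List (List ℕ)} (h : ScalCod P e ω0 Ss [(1, 1)]) :
    SoundL P e (φ ω0) ⊥ (anyE E Ss) :=
  soundL_anyE hE fun S hS => by
    obtain ⟨a, ha, -, h2, h3⟩ := h S hS
    rw [List.mem_singleton.mp ha] at h3
    exact ⟨1, one_mem _, by simpa using coded_one φ rfl hp h2 h3⟩

variable {G : Type u} [Group G] {ok : ℕ → Bool} {E : List ℕ → ℕ → ℕ → Bool} {Cs : List (List ℕ)}
  {k N : ℕ} {T : ℕ → ℕ → ℕ} {b0 : ℕ} {Bs CU CI : List ℕ} {V : ℕ → ℕ}

theorem AllCod.gens (h : AllCod P e ω0 Cs k CU CI) (hp : 0 < P.p) {ρ : G →* Matrix ι ι F}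
    (hg : ∀ i < k, ∃ x, ρ x = (mat P e ω0 (nthW Cs i)).map φ) :
    ∃ g : ℕ → G, (∀ i < k, ρ (g i) = (mat P e ω0 (nthW Cs i)).map φ) ∧
      ∀ i < k, Coded P e (φ ω0) (nthW Cs i) (ρ (g i)) := by
  choose! g hg using hg
  exact ⟨g, hg, fun i hi => by
    rw [hg i hi]; exact coded_map φ rfl hp (h.1 i hi).1 (h.1 i hi).2⟩

theorem AllCod.cU (h : AllCod P e ω0 Cs k CU CI) (hp : 0 < P.p) :
    Coded P e (φ ω0) CU (mat P e (φ ω0) CU) := coded_mat φ rfl hp h.2.1.1 h.2.1.2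

theorem AllCod.cI (h : AllCod P e ω0 Cs k CU CI) (hp : 0 < P.p) : Coded P e (φ ω0) CI 1 :=
  coded_one φ rfl hp h.2.2.1 h.2.2.2

theorem LineData.model' (h : LineData P E Cs k N T b0 Bs CU CI V) (hw : 0 < P.w) (hd : 0 < P.d)
    (hp : 0 < P.p) (hi : H9.PM.Indep P.p (φ ω0) P.d) (hE : SoundL P e (φ ω0) ⊤ E)
    (hc : AllCod P e ω0 Cs k CU CI) (ρ : G →* Matrix ι ι F)
    (hρ : Function.Injective ρ) (hz : ∀ z ∈ Subgroup.center G, ∃ a : F, ρ z = a • 1)
    (hg : ∀ i < k, ∃ x, ρ x = (mat P e ω0 (nthW Cs i)).map φ) :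
    ∃ K : Subgroup (G ⧸ Subgroup.center G), Model K N k T (b0 :: Bs) := by
  obtain ⟨g, -, h2⟩ := hc.gens φ hp hg
  exact ⟨_, h.model hw hd hp hi hE (hc.cU φ hp) (hc.cI φ hp) ρ hρ hz h2⟩

theorem VecData.model' (h : VecData P ok E Cs k N T Bs CU CI) (hd : 0 < P.d)
    (hp : 0 < P.p) (ha : Adm P e (φ ω0) ⊥ ok) (hE : SoundL P e (φ ω0) ⊥ E)
    (hc : AllCod P e ω0 Cs k CU CI) (ρ : G →* Matrix ι ι F) (hρ : Function.Injective ρ)
    (hg : ∀ i < k, ∃ x, ρ x = (mat P e ω0 (nthW Cs i)).map φ) :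
    ∃ K : Subgroup G, Model K N k T Bs := by
  obtain ⟨g, -, h2⟩ := hc.gens φ hp hg
  exact ⟨_, h.model hd hp ha hE (hc.cU φ hp) (hc.cI φ hp) ρ hρ h2⟩

end Vec

/-! ### determinants -/

theorem det_eq_one_of_pow {F : Type*} [Field F] {ι : Type*} [Fintype ι] [DecidableEq ι] {p m : ℕ}
    (hp : p.Prime) (h0 : (p : F) = 0) {M : Matrix ι ι F} (h : M ^ p ^ m = 1) : M.det = 1 := by
  haveI := Fact.mk hp
  haveI : CharP F p := (CharP.charP_iff_prime_eq_zero hp).mpr h0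
  have h1 : (M.det - 1) ^ p ^ m = 0 := by rw [sub_pow_char_pow, ← Matrix.det_pow, h]; simp
  exact sub_eq_zero.mp (pow_eq_zero_iff (pow_pos hp.pos m).ne' |>.mp h1)

theorem map_pow_eq_one {R F : Type*} [CommRing R] [CommRing F] {ι : Type*} [Fintype ι] [DecidableEq ι]
    (φ : R →+* F) {M : Matrix ι ι R} {n : ℕ} (h : M ^ n = 1) : M.map φ ^ n = 1 := by
  have := congrArg φ.mapMatrix h
  rwa [map_pow, map_one] at this

theorem sl_center {F : Type*} [Field F] {ι : Type*} [Fintype ι] [DecidableEq ι]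
    (z : Matrix.SpecialLinearGroup ι F) (hz : z ∈ Subgroup.center (Matrix.SpecialLinearGroup ι F)) :
    ∃ a : F, Matrix.SpecialLinearGroup.coeMonoidHom z = a • 1 := by
  obtain ⟨r, -, h⟩ := Matrix.SpecialLinearGroup.mem_center_iff.mp hz
  exact ⟨r, by rw [Matrix.SpecialLinearGroup.coeMonoidHom_apply, ← h]; ext i j; simp [diagonal, one_apply]⟩

theorem sl_gen {R F : Type*} [CommRing R] [Field F] {ι : Type*} [Fintype ι] [DecidableEq ι]
    (φ : R →+* F) {M : Matrix ι ι R} (h : M.det = 1) :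
    ∃ x : Matrix.SpecialLinearGroup ι F, Matrix.SpecialLinearGroup.coeMonoidHom x = M.map φ :=
  ⟨⟨M.map φ, by rw [← RingHom.mapMatrix_apply, ← RingHom.map_det, h, map_one]⟩, rfl⟩

end Cfsg.Agent.H3
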