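import Cfsg.Agent.H3.Carmichael

set_option autoImplicit false

namespace Cfsg.Agent.H3

open Equiv Equiv.Perm Subgroup

variable {α : Type*} [DecidableEq α] [Fintype α] {J : Type*} [Group J]

theorem HomOn.commute {G : Type*} [Group G] {A : Subgroup G} {f : G → J} (h : HomOn A f) {a b : G}
    (ha : a ∈ A) (hb : b ∈ A) (hab : Commute a b) : Commute (f a) (f b) := by
  rw [commute_iff_eq, ← h _ ha _ hb, ← h _ hb _ ha, hab.eq]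

theorem AltOn_pow_apply {s : Set α} {g : Perm α} (hg : g ∈ AltOn s) (k : ℕ) {x : α} (hx : x ∉ s) :
    (g ^ k) x = x := ((AltOn s).pow_mem hg k).2 x hx

theorem commute_conj_pow {a b c : J} (h1 : Commute a c) (h2 : Commute b c) (k : ℕ) :
    Commute (a ^ k * b * (a ^ k)⁻¹) c :=
  ((h1.pow_left k).mul_left h2).mul_left (h1.pow_left k).inv_left

theorem sq_comm {a b : J} (h : (a * b) ^ 2 = 1) : (b * a) ^ 2 = 1 := by
  have : b * a = a⁻¹ * (a * b) * a⁻¹⁻¹ := by group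
  rw [this, conj_pow, h]; simp

theorem glue {M₁ M₂ : Set α} {ψ₁ ψ₂ : Perm α → J} (h₁ : HomOn (AltOn M₁) ψ₁)
    (h₂ : HomOn (AltOn M₂) ψ₂) (hK : ∀ g ∈ AltOn (M₁ ∩ M₂), ψ₁ g = ψ₂ g)
    {p1 p2 p3 p4 p5 p6 : α} (hnd : [p1, p2, p3, p4, p5, p6].Nodup)
    (hp : ∀ p ∈ [p1, p2, p3, p4, p5, p6], p ∈ M₁ ∩ M₂) {d e : Perm α}
    (hd : d ∈ AltOn ((M₁ \ M₂) ∪ {p1, p3})) (he : e ∈ AltOn ((M₂ \ M₁) ∪ {p2, p4}))
    (hdo : ∀ l ∈ M₁ \ M₂, ∃ k : ℕ, (d ^ k) p1 = l) (heo : ∀ r ∈ M₂ \ M₁, ∃ k : ℕ, (e ^ k) p2 = r)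
    (hc : Commute (ψ₁ d) (ψ₂ e)) :
    ∃ Ψ : Perm α → J, HomOn (AltOn (M₁ ∪ M₂)) Ψ ∧ (∀ g ∈ AltOn M₁, Ψ g = ψ₁ g) ∧
      (∀ g ∈ AltOn M₂, Ψ g = ψ₂ g) := by
  classical
  simp only [List.nodup_cons, List.mem_cons, List.not_mem_nil, or_false, not_or,
    forall_eq_or_imp, forall_eq, Set.mem_inter_iff] at hnd hp
  obtain ⟨⟨n12, n13, n14, n15, n16⟩, ⟨n23, n24, n25, n26⟩, ⟨n34, n35, n36⟩, ⟨n45, n46⟩, n56, -⟩ :=
    hnd
  obtain ⟨⟨a1, b1⟩, ⟨a2, b2⟩, ⟨a3, b3⟩, ⟨a4, b4⟩, ⟨a5, b5⟩, ⟨a6, b6⟩⟩ := hp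
  have hd1 : d ∈ AltOn M₁ := AltOn_mono (by
    rintro x (hx | rfl | rfl); exacts [hx.1, a1, a3]) hd
  have he2 : e ∈ AltOn M₂ := AltOn_mono (by
    rintro x (hx | rfl | rfl); exacts [hx.1, b2, b4]) he
  have cK : ∀ {a b c : α}, a ∈ M₁ → a ∈ M₂ → b ∈ M₁ → b ∈ M₂ → c ∈ M₁ → c ∈ M₂ → a ≠ b → a ≠ c →
      ψ₁ (c3 a b c) = ψ₂ (c3 a b c) := fun h1 h2 h3 h4 h5 h6 h7 h8 =>
    hK _ (c3_mem_AltOn ⟨h1, h2⟩ ⟨h3, h4⟩ ⟨h5, h6⟩ h7 h8)
  have cc : ∀ {a b c a' b' c' : α}, a ≠ b → a ≠ c → a' ≠ b' → a' ≠ c' →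
      Disjoint ({a, b, c} : Set α) {a', b', c'} → Commute (c3 a b c) (c3 a' b' c') :=
    fun h1 h2 h3 h4 h5 => commute_of_AltOn_disjoint
      (c3_mem_AltOn (by simp) (by simp) (by simp) h1 h2)
      (c3_mem_AltOn (by simp) (by simp) (by simp) h3 h4) h5
  have s1 : ∀ l ∈ M₁ \ M₂, Commute (ψ₁ (c3 p5 l p6)) (ψ₂ e) := by
    intro l hl
    obtain ⟨k, hk⟩ := hdo l hl
    have h3 : c3 p5 l p6 = d ^ k * c3 p5 p1 p6 * (d ^ k)⁻¹ := by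
      rw [c3_conj, hk, AltOn_pow_apply hd k, AltOn_pow_apply hd k] <;>
        simp only [Set.mem_union, Set.mem_sdiff, Set.mem_insert_iff, Set.mem_singleton_iff] <;>
        grind
    have hm : c3 p5 p1 p6 ∈ AltOn M₁ := c3_mem_AltOn a5 a1 a6 (Ne.symm n15) n56
    rw [h3, h₁.map_conj (pow_mem hd1 k) hm, h₁.map_pow hd1]
    apply commute_conj_pow hc
    rw [cK a5 b5 a1 b1 a6 b6 (Ne.symm n15) n56]
    refine h₂.commute (c3_mem_AltOn b5 b1 b6 (Ne.symm n15) n56) he2 ?_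
    refine commute_of_AltOn_disjoint (s := {p5, p1, p6})
      (c3_mem_AltOn (by simp) (by simp) (by simp) (Ne.symm n15) n56) he ?_
    rw [Set.disjoint_left]
    simp only [Set.mem_union, Set.mem_sdiff, Set.mem_insert_iff, Set.mem_singleton_iff]
    grind
  have s2 : ∀ l ∈ M₁ \ M₂, ∀ r ∈ M₂ \ M₁, Commute (ψ₂ (c3 p1 r p3)) (ψ₁ (c3 p5 l p6)) := by
    intro l hl r hr
    obtain ⟨k, hk⟩ := heo r hr
    have h3 : c3 p1 r p3 = e ^ k * c3 p1 p2 p3 * (e ^ k)⁻¹ := by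
      rw [c3_conj, hk, AltOn_pow_apply he k, AltOn_pow_apply he k] <;>
        simp only [Set.mem_union, Set.mem_sdiff, Set.mem_insert_iff, Set.mem_singleton_iff] <;>
        grind
    have hm : c3 p1 p2 p3 ∈ AltOn M₂ := c3_mem_AltOn b1 b2 b3 n12 n13
    rw [h3, h₂.map_conj (pow_mem he2 k) hm, h₂.map_pow he2]
    apply commute_conj_pow (s1 l hl).symm
    rw [← cK a1 b1 a2 b2 a3 b3 n12 n13]
    have hl5 : p5 ≠ l := by rintro rfl; exact hl.2 b5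
    refine h₁.commute (c3_mem_AltOn a1 a2 a3 n12 n13) (c3_mem_AltOn a5 hl.1 a6 hl5 n56) ?_
    refine cc n12 n13 hl5 n56 ?_
    rw [Set.disjoint_left]
    simp only [Set.mem_sdiff, Set.mem_insert_iff, Set.mem_singleton_iff] at hl ⊢
    grind
  have s3 : ∀ l ∈ M₁ \ M₂, ∀ r ∈ M₂ \ M₁, (ψ₁ (c3 l p2 p4) * ψ₂ (c3 r p2 p4)) ^ 2 = 1 := by
    intro l hl r hr
    have hl' := hl
    have hr' := hr
    simp only [Set.mem_sdiff] at hl' hr'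
    have hl5 : p5 ≠ l := by grind
    have hr1 : p1 ≠ r := by grind
    have e1 : c3 l p2 p4 = c3 p5 l p6 * c3 p5 p2 p4 * (c3 p5 l p6)⁻¹ := by
      rw [c3_conj, c3_apply_left hl5 (by grind), c3_apply_of_ne, c3_apply_of_ne] <;> grind
    have e2 : c3 r p2 p4 = c3 p1 r p3 * c3 p1 p2 p4 * (c3 p1 r p3)⁻¹ := by
      rw [c3_conj, c3_apply_left hr1 (by grind), c3_apply_of_ne, c3_apply_of_ne] <;> grind
    have m1 : c3 p5 l p6 ∈ AltOn M₁ := c3_mem_AltOn a5 hl.1 a6 hl5 n56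
    have m2 : c3 p1 r p3 ∈ AltOn M₂ := c3_mem_AltOn b1 hr.1 b3 hr1 n13
    have m3 : c3 p5 p2 p4 ∈ AltOn M₁ := c3_mem_AltOn a5 a2 a4 (Ne.symm n25) (Ne.symm n45)
    have m3' : c3 p5 p2 p4 ∈ AltOn M₂ := c3_mem_AltOn b5 b2 b4 (Ne.symm n25) (Ne.symm n45)
    have m4 : c3 p1 p2 p4 ∈ AltOn M₁ := c3_mem_AltOn a1 a2 a4 n12 n14
    have m4' : c3 p1 p2 p4 ∈ AltOn M₂ := c3_mem_AltOn b1 b2 b4 n12 n14
    rw [e1, e2, h₁.map_conj m1 m3, h₂.map_conj m2 m4']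
    have c1 := s2 l hl r hr
    have c2 : Commute (ψ₁ (c3 p5 l p6)) (ψ₂ (c3 p1 p2 p4)) := by
      rw [← cK a1 b1 a2 b2 a4 b4 n12 n14]
      refine h₁.commute m1 m4 (cc hl5 n56 n12 n14 ?_)
      rw [Set.disjoint_left]
      simp only [Set.mem_insert_iff, Set.mem_singleton_iff]
      grind
    have c3' : Commute (ψ₂ (c3 p1 r p3)) (ψ₁ (c3 p5 p2 p4)) := by
      rw [cK a5 b5 a2 b2 a4 b4 (Ne.symm n25) (Ne.symm n45)]
      refine h₂.commute m2 m3' (cc hr1 n13 (Ne.symm n25) (Ne.symm n45) ?_)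
      rw [Set.disjoint_left]
      simp only [Set.mem_insert_iff, Set.mem_singleton_iff]
      grind
    have c4 : (ψ₁ (c3 p5 p2 p4) * ψ₂ (c3 p1 p2 p4)) ^ 2 = 1 := by
      rw [← cK a1 b1 a2 b2 a4 b4 n12 n14, ← h₁ _ m3 _ m4, ← h₁.map_pow (mul_mem m3 m4),
        c3_mul_c3_sq (Ne.symm n25) (Ne.symm n45) n12 n14 n24 (Ne.symm n15), h₁.map_one]
    generalize ψ₁ (c3 p5 l p6) = A at *
    generalize ψ₂ (c3 p1 r p3) = D at *
    generalize ψ₁ (c3 p5 p2 p4) = s at *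
    generalize ψ₂ (c3 p1 p2 p4) = t at *
    have e3 : A * s * A⁻¹ * (D * t * D⁻¹) = (A * D) * (s * t) * (A * D)⁻¹ := by
      calc A * s * A⁻¹ * (D * t * D⁻¹) = A * s * (A⁻¹ * D) * t * D⁻¹ := by group
        _ = A * (s * D) * (A⁻¹ * t) * D⁻¹ := by rw [← c1.inv_right.eq]; group
        _ = A * (D * s) * (t * A⁻¹) * D⁻¹ := by rw [← c3'.eq, c2.inv_left.eq]
        _ = (A * D) * (s * t) * (D * A)⁻¹ := by group
        _ = (A * D) * (s * t) * (A * D)⁻¹ := by rw [c1.eq]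
    rw [e3, conj_pow, c4]; simp
  let x : α → J := fun i => if i ∈ M₁ then ψ₁ (c3 i p2 p4) else ψ₂ (c3 i p2 p4)
  have x1 : ∀ i ∈ M₁, x i = ψ₁ (c3 i p2 p4) := fun i hi => if_pos hi
  have x2 : ∀ i ∈ M₂, i ≠ p2 → i ≠ p4 → x i = ψ₂ (c3 i p2 p4) := fun i hi h2 h4 => by
    by_cases h : i ∈ M₁
    · rw [x1 i h, cK h hi a2 b2 a4 b4 h2 h4]
    · exact if_neg h
  have hx : Carm x ((M₁ ∪ M₂) \ {p2, p4}) := by
    constructor
    · intro i hi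
      simp only [Set.mem_union, Set.mem_sdiff, Set.mem_insert_iff, Set.mem_singleton_iff,
        not_or] at hi
      obtain ⟨hi, h2, h4⟩ := hi
      rcases hi with hi | hi
      · rw [x1 i hi, ← h₁.map_pow (c3_mem_AltOn hi a2 a4 h2 h4), c3_pow_three h2 h4 n24,
          h₁.map_one]
      · rw [x2 i hi h2 h4, ← h₂.map_pow (c3_mem_AltOn hi b2 b4 h2 h4), c3_pow_three h2 h4 n24,
          h₂.map_one]
    · intro i hi j hj hij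
      simp only [Set.mem_union, Set.mem_sdiff, Set.mem_insert_iff, Set.mem_singleton_iff,
        not_or] at hi hj
      obtain ⟨hi, h2, h4⟩ := hi
      obtain ⟨hj, h2', h4'⟩ := hj
      by_cases hb1 : i ∈ M₁ ∧ j ∈ M₁
      · have m1 := c3_mem_AltOn hb1.1 a2 a4 h2 h4
        have m2 := c3_mem_AltOn hb1.2 a2 a4 h2' h4'
        rw [x1 i hb1.1, x1 j hb1.2, ← h₁ _ m1 _ m2, ← h₁.map_pow (mul_mem m1 m2),
          c3_mul_c3_sq h2 h4 h2' h4' n24 hij, h₁.map_one]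
      by_cases hb2 : i ∈ M₂ ∧ j ∈ M₂
      · have m1 := c3_mem_AltOn hb2.1 b2 b4 h2 h4
        have m2 := c3_mem_AltOn hb2.2 b2 b4 h2' h4'
        rw [x2 i hb2.1 h2 h4, x2 j hb2.2 h2' h4', ← h₂ _ m1 _ m2, ← h₂.map_pow (mul_mem m1 m2),
          c3_mul_c3_sq h2 h4 h2' h4' n24 hij, h₂.map_one]
      by_cases hi1 : i ∈ M₁
      · have hj1 : j ∉ M₁ := fun h => hb1 ⟨hi1, h⟩
        have hj2 : j ∈ M₂ := hj.resolve_left hj1
        have hi2 : i ∉ M₂ := fun h => hb2 ⟨h, hj2⟩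
        rw [x1 i hi1, x2 j hj2 h2' h4']
        exact s3 i ⟨hi1, hi2⟩ j ⟨hj2, hj1⟩
      · have hi2 : i ∈ M₂ := hi.resolve_left hi1
        have hj2 : j ∉ M₂ := fun h => hb2 ⟨hi2, h⟩
        have hj1 : j ∈ M₁ := hj.resolve_right hj2
        rw [x1 j hj1, x2 i hi2 h2 h4]
        exact sq_comm (s3 j ⟨hj1, hj2⟩ i ⟨hi2, hi1⟩)
  obtain ⟨Ψ, hΨ, hΨx⟩ := carmichael (M₁ ∪ M₂) (Or.inl a2) (Or.inl a4) n24 x hx
  refine ⟨Ψ, hΨ, fun g hg => ?_, fun g hg => ?_⟩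
  · refine (hΨ.mono (AltOn_mono Set.subset_union_left)).eq_of_le_closure h₁ ?_ ?_
      (AltOn_le_closure_star M₁ n24 hg)
    · rintro _ ⟨i, hi, rfl⟩
      simp only [Set.mem_sdiff, Set.mem_insert_iff, Set.mem_singleton_iff, not_or] at hi
      exact c3_mem_AltOn hi.1 a2 a4 hi.2.1 hi.2.2
    · rintro _ ⟨i, hi, rfl⟩
      simp only [Set.mem_sdiff, Set.mem_insert_iff, Set.mem_singleton_iff, not_or] at hi
      simp only
      rw [hΨx i (Or.inl hi.1) hi.2.1 hi.2.2, x1 i hi.1]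
  · refine (hΨ.mono (AltOn_mono Set.subset_union_right)).eq_of_le_closure h₂ ?_ ?_
      (AltOn_le_closure_star M₂ n24 hg)
    · rintro _ ⟨i, hi, rfl⟩
      simp only [Set.mem_sdiff, Set.mem_insert_iff, Set.mem_singleton_iff, not_or] at hi
      exact c3_mem_AltOn hi.1 b2 b4 hi.2.1 hi.2.2
    · rintro _ ⟨i, hi, rfl⟩
      simp only [Set.mem_sdiff, Set.mem_insert_iff, Set.mem_singleton_iff, not_or] at hi
      simp only
      rw [hΨx i (Or.inr hi.1) hi.2.1 hi.2.2, x2 i hi.1 hi.2.1 hi.2.2]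

end Cfsg.Agent.H3
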