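import Cfsg.Agent.H3.Fld

/-! Faithfulness and generation from an upper bound for the order; trivial centres; bounds for
orders from orbits. -/

set_option autoImplicit false

namespace Cfsg.Agent.H3

open L0 Matrix

universe u v

section
variable {G : Type u} [Group G] {N k : ℕ} {T : ℕ → ℕ → ℕ} {B : List ℕ}

theorem fix_all_normal (A : RAct G N) : (A.fixL (List.range N)).Normal :=
  ⟨fun y hy g c _ hc => by
    rw [A.mul _ _ hc, A.mul _ _ hc, hy _ (List.mem_range.mpr (A.lt _ hc)) (A.lt _ hc),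
      ← A.mul _ _ hc, mul_inv_cancel, A.one hc]⟩

theorem model_of_card [Finite G] {K : Subgroup G} {A : RAct K N} {x : ℕ → K} (h : A.Tab x k T)
    (ht : genL x (List.range k) = ⊤) (hb : ∀ y ∈ A.fixL B, ∀ c < N, A.act c y = c) {n : ℕ}
    (hn : ∀ (H : Type u) [Group H], Model H N k T B → Nat.card H = n) (hG : Nat.card G ≤ n) :
    Model G N k T B := by
  haveI := fix_all_normal A
  have h1 := hn _ (model_of_surj h ht (QuotientGroup.mk' (A.fixL (List.range N)))
    (QuotientGroup.mk'_surjective _)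
    (fun y hy c hc => (QuotientGroup.eq_one_iff y).mp hy c (List.mem_range.mpr hc) hc)
    (fun y hy => (QuotientGroup.eq_one_iff y).mpr fun c _ hc => hb y hy c hc))
  have h2 := Subgroup.card_eq_card_quotient_mul_card_subgroup (A.fixL (List.range N))
  rw [h1] at h2
  have h3 : Nat.card K ≤ n := (Subgroup.card_le_card_group K).trans hG
  have h4 : 0 < Nat.card (A.fixL (List.range N)) := Nat.card_pos
  have h5 : 0 < Nat.card K := Nat.card_pos
  have h6 : Nat.card (A.fixL (List.range N)) = 1 := by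
    have hn0 : 0 < n := by omega
    have : n * Nat.card (A.fixL (List.range N)) ≤ n * 1 := by omega
    have := Nat.le_of_mul_le_mul_left this hn0
    omega
  have h7 := Subgroup.eq_bot_of_card_eq _ h6
  refine Model.of_sub (K := K) ⟨A, x, h, fun y hy => ?_, ht⟩ (by rw [h2, h6, mul_one]; exact hG)
  rw [← Subgroup.mem_bot, ← h7]
  exact fun c _ hc => hb y hy c hc

theorem center_eq_bot {A : RAct G N} {g : ℕ → G} (h : A.Tab g k T) (hB : A.IsBase B)
    {S W : List (List ℕ)} {b M : ℕ}
    (h1 : (lettersB k S && Nat.blt b N && RAct.fixB T S [b] && Nat.ble N M && lettersB k W &&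
      ((W.map fun w => tr T w b) == B)) = true)
    (hc : ∀ c < M, movB T N S b c = true) : Subgroup.center G = ⊥ := by
  simp only [Bool.and_eq_true, Nat.blt_eq, Nat.ble_eq, beq_iff_eq] at h1
  obtain ⟨⟨⟨⟨⟨a1, a2⟩, a3⟩, a4⟩, a5⟩, a6⟩ := h1
  rw [eq_bot_iff]
  exact fun z hz => hB z (a6 ▸ fix_of_central h a1 a2 a3 a4 hc a5 hz)

theorem schur_quot_bot {A : Type} [CommGroup A] (h : HasSchurMultiplier G A)
    (hZ : Subgroup.center G = ⊥) : HasSchurMultiplier (G ⧸ Subgroup.center G) A :=
  hasSchur_congr h ((QuotientGroup.quotientMulEquivOfEq hZ).trans QuotientGroup.quotientBot).symm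

theorem card_le_prod [Finite G] {X : Type v} [MulAction G X] (e : ℕ → X) (n : ℕ → ℕ) (r : ℕ)
    (h : ∀ i < r, ∃ S : Finset X, S.card ≤ n i ∧ ∀ g : G, (∀ j < i, g • e j = e j) → g • e i ∈ S)
    (h1 : ∀ g : G, (∀ j < r, g • e j = e j) → g = 1) : Nat.card G ≤ ∏ i ∈ Finset.range r, n i := by
  let H : ℕ → Subgroup G := fun i => ⨅ j ∈ Finset.range i, MulAction.stabilizer G (e j)
  have hH : ∀ i g, g ∈ H i ↔ ∀ j < i, g • e j = e j := fun i g => by
    simp [H, Subgroup.mem_iInf]
  have key : ∀ i ≤ r, Nat.card G ≤ (∏ j ∈ Finset.range i, n j) * Nat.card (H i) := by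
    intro i
    induction i with
    | zero =>
      intro _
      have : H 0 = ⊤ := by ext g; simp [hH]
      simp [this]
    | succ i ih =>
      intro hi
      obtain ⟨S, a1, a2⟩ := h i hi
      refine (ih (by omega)).trans ?_
      rw [Finset.prod_range_succ, mul_assoc]
      refine Nat.mul_le_mul_left _ ?_
      have h2 := (MulAction.stabilizer (H i) (e i)).card_mul_index
      rw [MulAction.index_stabilizer] at h2
      have h3 : (MulAction.orbit (H i) (e i)).ncard ≤ n i := by
        refine le_trans ?_ a1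
        rw [← Set.ncard_coe_finset]
        exact Set.ncard_le_ncard (by rintro _ ⟨g, rfl⟩; exact a2 g.1 ((hH _ _).mp g.2))
      have h4 : Nat.card (MulAction.stabilizer (H i) (e i)) ≤ Nat.card (H (i + 1)) :=
        Nat.card_le_card_of_injective (fun g => ⟨g.1.1, (hH _ _).mpr fun j hj => by
          rcases Nat.lt_succ_iff_lt_or_eq.mp hj with h5 | h5
          · exact (hH _ _).mp g.1.2 j h5
          · rw [h5]; exact g.2⟩)
          fun a b hab => Subtype.ext (Subtype.ext (Subtype.mk.inj hab))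
      rw [← h2, mul_comm]
      exact Nat.mul_le_mul h3 h4
  have : H r = ⊥ := eq_bot_iff.mpr fun g hg => h1 g ((hH _ _).mp hg)
  simpa [this] using key r le_rfl

theorem card_commutator_mul_le [Finite G] {A : Type v} [CommGroup A] (f : G →* A) {z : ℕ}
    (h : z ≤ Nat.card f.range) : Nat.card (commutator G) * z ≤ Nat.card G := by
  rw [← f.ker.card_mul_index, Subgroup.index_ker]
  exact Nat.mul_le_mul (Subgroup.card_le_of_le (Abelianization.commutator_subset_ker f)) h

end

namespace Vec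

variable {R : Type*} [CommRing R] {ι : Type*} [Fintype ι] [DecidableEq ι]
  {F : Type*} [Field F] {P : Fm} {e : ι ≃ Fin P.n} {ω0 : R} (φ : R →+* F)
  {G : Type u} [Group G] {E : List ℕ → ℕ → ℕ → Bool} {Cs : List (List ℕ)}
  {k N : ℕ} {T : ℕ → ℕ → ℕ} {b0 : ℕ} {Bs CU CI : List ℕ} {V : ℕ → ℕ}

theorem LineData.model_card [Finite G] (h : LineData P E Cs k N T b0 Bs CU CI V) (hw : 0 < P.w)
    (hd : 0 < P.d) (hp : 0 < P.p) (hi : H9.PM.Indep P.p (φ ω0) P.d) (hE : SoundL P e (φ ω0) ⊤ E)
    (hc : AllCod P e ω0 Cs k CU CI) (ρ : G →* Matrix ι ι F)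
    (hg : ∀ i < k, ∃ x, ρ x = (mat P e ω0 (nthW Cs i)).map φ) {n : ℕ}
    (hn : ∀ (H : Type u) [Group H], Model H N k T (b0 :: Bs) → Nat.card H = n)
    (hG : Nat.card G ≤ n) : Model G N k T (b0 :: Bs) := by
  obtain ⟨g, -, hC⟩ := hc.gens φ hp hg
  obtain ⟨A, a1, a2, a3⟩ := h.act hw hd hp hi hE (hc.cU φ hp) (hc.cI φ hp)
    (ρ.comp (genL g (List.range k)).subtype) (g := subG g _) (fun i hi => by
      rw [MonoidHom.comp_apply, Subgroup.subtype_apply,
        subG_val (mem_genL g (List.mem_range.mpr hi))]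
      exact hC i hi) (genL_subG rfl)
  refine model_of_card a1 (genL_subG rfl) (fun y hy c hc => ?_) hn hG
  obtain ⟨a, ha⟩ := a3 y hy
  exact a2.scalar ha hc

end Vec

end Cfsg.Agent.H3
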