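import Cfsg.Agent.H3.LineCard

/-! Products of coded matrices in characteristic two; derived subgroups of groups with a model. -/

set_option autoImplicit false

namespace Cfsg.Agent.H3

open L0 Matrix

universe u

namespace Vec

theorem xapp_lt {L : ℕ} (C : List ℕ) (h : ∀ c ∈ C, c < 2 ^ L) : ∀ x acc, acc < 2 ^ L →
    xapp C x acc < 2 ^ L := by
  induction C with
  | nil => intro x acc ha; exact ha
  | cons c C ih =>
    intro x acc ha
    have e1 : xapp (c :: C) x acc = xapp C (x >>> 1) (acc ^^^ ((x &&& 1) * c)) := rfl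
    rw [e1]
    refine ih (fun c' hc' => h c' (by simp [hc'])) _ _ (Nat.xor_lt_two_pow ha ?_)
    have := h c (by simp)
    rw [Nat.and_one_is_mod]
    rcases Nat.mod_two_eq_zero_or_one x with h1 | h1 <;> simp [h1, this]

variable {R : Type*} [CommRing R] {ι : Type*} [Fintype ι] {d n : ℕ} {e : ι ≃ Fin n} {ω : R}

theorem coded_mul_two (h2 : (2 : R) = 0) {C C' : List ℕ} {M M' : Matrix ι ι R}
    (h : Coded ⟨2, 1, d, n⟩ e ω C M) (h' : Coded ⟨2, 1, d, n⟩ e ω C' M') :
    Coded ⟨2, 1, d, n⟩ e ω (C'.map fun x => xapp C x 0) (M * M') := by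
  refine ⟨by rw [List.length_map]; exact h'.1, fun c hc => ?_, fun i j u hu => ?_⟩
  · obtain ⟨x, -, rfl⟩ := List.mem_map.mp hc
    exact valid_two (xapp_lt C (fun c hc => by simpa using (h.2.1 c hc).1) _ _ (Nat.two_pow_pos _))
  · have hlt : d * e j + u < C'.length := by rw [h'.1]; exact H9.PM.blk_lt (e j).2 hu
    have h3 := congrFun (h.xapp rfl h2 (C'.getD (d * e j + u) 0)) i
    change _ = dec ⟨2, 1, d, n⟩ e ω ((C'.map fun x => xapp C x 0).getD (d * e j + u) 0) i
    rw [List.getD_eq_getElem _ _ (by simpa using hlt), List.getElem_map,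
      ← List.getD_eq_getElem _ 0 hlt, ← h3, Matrix.mul_apply, Finset.sum_mul]
    exact Finset.sum_congr rfl fun l _ => by rw [mul_assoc, h'.2.2 l j u hu]

/-- the code of a product -/
noncomputable def cw (Cr : ℕ → List ℕ) (CI : List ℕ) : List ℕ → List ℕ
  | [] => CI
  | r :: w => (cw Cr CI w).map fun x => xapp (Cr r) x 0

theorem coded_cw [DecidableEq ι] (h2 : (2 : R) = 0) {Cr : ℕ → List ℕ} {CI : List ℕ}
    (hI : Coded ⟨2, 1, d, n⟩ e ω CI 1) {X : ℕ → Matrix ι ι R} (w : List ℕ)
    (h : ∀ r ∈ w, Coded ⟨2, 1, d, n⟩ e ω (Cr r) (X r)) :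
    Coded ⟨2, 1, d, n⟩ e ω (cw Cr CI w) (w.map X).prod := by
  induction w with
  | nil => exact hI
  | cons r w ih =>
    rw [List.map_cons, List.prod_cons]
    exact coded_mul_two h2 (h r (by simp)) (ih fun r' hr' => h r' (by simp [hr']))

end Vec

variable {G : Type u} [Group G]

theorem genL_eq_closure {a : ℕ → G} {k : ℕ} {S : Set G} (h1 : ∀ i < k, a i ∈ S)
    (h2 : ∀ g ∈ S, g = 1 ∨ ∃ i < k, g = a i) : genL a (List.range k) = Subgroup.closure S := by
  refine le_antisymm (genL_le fun i hi => Subgroup.subset_closure (h1 i (List.mem_range.mp hi)))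
    ((Subgroup.closure_le _).mpr fun g hg => ?_)
  rcases h2 g hg with rfl | ⟨i, hi, rfl⟩
  · exact one_mem _
  · exact mem_genL a (List.mem_range.mpr hi)

/-- a model of the derived subgroup -/
theorem model_commutator [Finite G] {N k0 k1 k : ℕ} {T0 T : ℕ → ℕ → ℕ} {B : List ℕ} {A : RAct G N}
    {a : ℕ → G} (h0 : A.Tab a k0 T0) (hb : A.IsBase B) (ha : genL a (List.range k0) = ⊤)
    {x : ℕ → G} (h : A.Tab x k T) (hk : k1 ≤ k)
    (hx : genL x (List.range k) = genL x (List.range k1)) {Vn Vc : List (List ℕ)}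
    (hc : nrmB T0 T B k0 k1 k Vn Vc = true) {R : List (List ℕ)} (hR : lettersB k R = true)
    (hf : RAct.fixB T R B = true) (Ls : List (List (ℤ × ℕ)))
    (hL : ((List.range k).all fun i =>
      zeroExp k ([i] :: R) ((-1, 0) :: (Ls.getD i []).map fun p => (p.1, p.2 + 1))) = true) :
    Model (commutator G) N k1 T B := by
  have h1 := commutator_le_of_chk h0 h hb ha hk hx hc
  have hb' : (A.comap (genL x (List.range k)).subtype).IsBase B := fun y hy =>
    Subtype.ext (hb y.val hy)
  have h2 := le_commutator_of_perfect (perfect_of_rel (hb'.ev_eq_one (tab_sub h rfl) hR hf)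
    (lettersLt_of_B hR) (genL_subG rfl) Ls hL)
  exact model_sub (fun i hi => h i (by omega)) hb (hx.symm.trans (le_antisymm h2 h1))

end Cfsg.Agent.H3
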