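import Cfsg.Agent.H2.MinNT

/-! General lemmas on characters: kernels in simple groups, vanishing, integrality. -/

set_option autoImplicit false

namespace Cfsg.Agent.H3.NQ

open Cfsg Cfsg.Agent.H1 Subgroup
open scoped ComplexConjugate

variable {G : Type*} [Group G]

theorem ker_triv [Finite G] [IsSimpleGroup G] {θ : G → ℂ} (h : IsCharacter G θ) {g : G}
    (hg : g ≠ 1) (e : θ g = θ 1) (x : G) : θ x = θ 1 := by
  let K : Subgroup G :=
    { carrier := {g | θ g = θ 1}
      one_mem' := rfl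
      mul_mem' := fun {a b} ha hb => (IsCharacter.mul_of_eq_one h ha b).trans hb
      inv_mem' := fun {a} ha => by
        have := IsCharacter.mul_of_eq_one h ha a⁻¹
        rw [mul_inv_cancel] at this
        exact this.symm }
  have : K.Normal := ⟨fun a ha y => (IsCharacter.isClassFunction h a y).trans ha⟩
  rcases this.eq_bot_or_eq_top with e1 | e1
  · exact absurd (mem_bot.1 (e1 ▸ (e : g ∈ K))) hg
  · exact (e1 ▸ mem_top x : x ∈ K)

theorem hom_triv [Finite G] [IsSimpleGroup G] (hG : ¬ IsMulCommutative G) (l : G →* ℂ) (x : G) :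
    l x = 1 := by
  by_contra hx
  refine hG ⟨⟨fun a b => ?_⟩⟩
  by_contra hn
  have h1 : a * b * (b * a)⁻¹ ≠ 1 := fun e => hn (mul_inv_eq_one.1 e)
  have ha : l a ≠ 0 := fun e => by simpa [e] using hom_norm_eq_one l a
  have hb : l b ≠ 0 := fun e => by simpa [e] using hom_norm_eq_one l b
  have := ker_triv (isCharacter_hom l) h1 (by
    simp only [map_mul, map_inv, map_one]; field_simp) x
  exact hx (by simpa using this)

/-- a nonprincipal irreducible character -/
def NP (χ : G → ℂ) : Prop := IsIrrCharacter G χ ∧ χ ≠ fun _ => 1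

theorem NP.ch {χ : G → ℂ} (h : NP χ) : IsCharacter G χ := IsIrrCharacter.isCharacter h.1

theorem NP.deg_ne_one [Finite G] [IsSimpleGroup G] (hG : ¬ IsMulCommutative G) {χ : G → ℂ}
    (h : NP χ) : χ 1 ≠ 1 := fun e => by
  obtain ⟨l, rfl⟩ := IsCharacter.exists_hom_of_one_eq_one h.ch e
  exact h.2 (funext (hom_triv hG l))

theorem NP.norm_ne [Finite G] [IsSimpleGroup G] (hG : ¬ IsMulCommutative G) {χ : G → ℂ}
    (h : NP χ) {n : ℕ} (hn : χ 1 = n) {g : G} (hg : g ≠ 1) : ‖χ g‖ < n := by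
  have := Fintype.ofFinite G
  have h1 := IsCharacter.norm_le h.ch g
  rw [hn, Complex.natCast_re] at h1
  refine lt_of_le_of_ne h1 fun e => ?_
  have h2 := ker_triv (IsCharacter.mul h.ch (IsCharacter.conj h.ch)) hg (by
    simp only [Pi.mul_apply, Complex.mul_conj, Complex.normSq_eq_norm_sq, e, hn]
    simp)
  have h3 := IsIrrCharacter.classInner_self h.1
  simp only [Pi.mul_apply] at h2
  simp only [classInner, h2, hn, Finset.sum_const, Finset.card_univ, nsmul_eq_mul, map_natCast,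
    ← Nat.card_eq_fintype_card] at h3
  rw [inv_mul_cancel_left₀ card_ne_zero'] at h3
  have h4 : n * n = 1 := by exact_mod_cast h3
  exact h.deg_ne_one hG (by rw [hn, Nat.eq_one_of_mul_eq_one_left h4, Nat.cast_one])

theorem NP.ne_one [Finite G] [IsSimpleGroup G] (hG : ¬ IsMulCommutative G) {χ : G → ℂ}
    (h : NP χ) {g : G} (hg : g ≠ 1) : χ g ≠ χ 1 := fun e => by
  obtain ⟨n, -, hn⟩ := IsIrrCharacter.exists_one_eq h.1
  have := h.norm_ne hG hn hg
  rw [e, hn] at this
  simp at this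

open IntermediateField in
/-- Kronecker-type vanishing -/
theorem vanish [Finite G] {χ : G → ℂ} (h : IsCharacter G χ) (g : G) {c : ℕ} (hc : 0 < c)
    (hi : IsIntegral ℤ (χ g / c)) (hn : ∀ k, k.Coprime (orderOf g) → ‖χ (g ^ k)‖ < c) :
    χ g = 0 := by
  by_contra h0
  obtain ⟨s, hs⟩ := IsCharacter.exists_multiset_hom h g
  have hN := orderOf_pos g
  have : NeZero (orderOf g) := ⟨hN.ne'⟩
  have hζ := Complex.isPrimitiveRoot_exp _ hN.ne'
  set ζ := Complex.exp (2 * Real.pi * Complex.I / (orderOf g : ℕ))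
  let K := ℚ⟮ζ⟯
  let : NumberField K :=
    { to_charZero := ℚ⟮ζ⟯.charZero
      to_finiteDimensional := adjoin.finiteDimensional (hζ.isIntegral hN).tower_top }
  let z : K := ⟨ζ, mem_adjoin_simple_self ℚ ζ⟩
  let g0 : zpowers g := ⟨g, mem_zpowers g⟩
  have ha : ∀ l : zpowers g →* ℂ, ∃ a : ℕ, ζ ^ a = l g0 := fun l => by
    obtain ⟨a, -, e⟩ := hζ.eq_pow_of_pow_eq_one (ξ := l g0) (by
      rw [← map_pow, show g0 ^ orderOf g = 1 from Subtype.ext (pow_orderOf_eq_one g), map_one])
    exact ⟨a, e⟩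
  choose a ha using ha
  let x : K := (s.map fun l => z ^ a l).sum / c
  have key : ∀ (φ : K →+* ℂ) (k : ℕ), φ z = ζ ^ k → φ x = χ (g ^ k) / c := fun φ k e => by
    rw [show χ (g ^ k) = _ from hs (g0 ^ k)]
    simp only [x, map_div₀, map_multiset_sum, Multiset.map_map, map_natCast, Function.comp_def,
      map_pow, e, ← ha, ← pow_mul, mul_comm k]
  have hx : (x : ℂ) = χ g / c := by simpa using key (algebraMap K ℂ) 1 (by simp [z])
  have hc' : (c : ℝ) ≠ 0 := by positivity
  have hz : IsPrimitiveRoot z (orderOf g) :=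
    IsPrimitiveRoot.of_map_of_injective (f := algebraMap K ℂ) hζ (algebraMap K ℂ).injective
  obtain ⟨n, hn0, e⟩ := NumberField.Embeddings.pow_eq_one_of_norm_le_one (x := x) K ℂ
    (fun e => by
      rw [e] at hx
      exact h0 (by simpa [hc.ne'] using hx.symm))
    (coe_isIntegral_iff.mp (hx ▸ hi)) fun φ => by
      obtain ⟨k, -, hk, e⟩ := (hζ.isPrimitiveRoot_iff).1 (hz.map_of_injective φ.injective)
      rw [key φ k e.symm, norm_div, Complex.norm_natCast]
      exact ((div_lt_one (by positivity)).2 (hn k hk)).le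
  have e1 : (χ g / c) ^ n = 1 := by rw [← hx]; exact_mod_cast congrArg (algebraMap K ℂ) e
  have e2 := Complex.norm_eq_one_of_pow_eq_one e1 hn0.ne'
  have e3 := hn 1 (by simp)
  rw [norm_div, Complex.norm_natCast, div_eq_one_iff_eq hc'] at e2
  rw [pow_one, e2] at e3
  exact lt_irrefl _ e3

theorem int_div {w : ℂ} (hw : IsIntegral ℤ w) {m c d : ℕ} (hc : c ≠ 0) (hd : d ≠ 0) (h : m.Coprime c)
    (hi : IsIntegral ℤ (m * w / (c * d : ℕ))) : IsIntegral ℤ (w / c) := by
  obtain ⟨u, v, e⟩ := Nat.isCoprime_iff_coprime.2 h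
  have e' : (u : ℂ) * m + v * c = 1 := by exact_mod_cast e
  have hc' : (c : ℂ) ≠ 0 := by exact_mod_cast hc
  have hd' : (d : ℂ) ≠ 0 := by exact_mod_cast hd
  have : w / c = (u * d : ℤ) * (m * w / (c * d : ℕ)) + (v : ℤ) * w := by
    push_cast
    field_simp
    linear_combination -w * e'
  rw [this]
  exact ((isIntegral_algebraMap (x := (u * d : ℤ))).mul hi).add
    ((isIntegral_algebraMap (x := v)).mul hw)

theorem pow_ne_one_of_coprime [Finite G] {g : G} (hg : g ≠ 1) {k : ℕ} (hk : k.Coprime (orderOf g)) :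
    g ^ k ≠ 1 := fun e =>
  hg (orderOf_eq_one_iff.1 (hk.symm.eq_one_of_dvd (orderOf_dvd_of_pow_eq_one e)))

/-- Burnside's vanishing lemma -/
theorem NP.burn [Finite G] [IsSimpleGroup G] (hG : ¬ IsMulCommutative G) {χ : G → ℂ}
    (h : NP χ) {n : ℕ} (hn : χ 1 = n) {g : G} (hg : g ≠ 1)
    (hc : (centralizer ({g} : Set G)).index.Coprime n) : χ g = 0 := by
  have := Fintype.ofFinite G
  have n0 : n ≠ 0 := fun e => IsIrrCharacter.one_ne_zero h.1 (by simp [hn, e])
  refine vanish h.ch g (Nat.pos_of_ne_zero n0)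
    (int_div (IsCharacter.isIntegral h.ch g) n0 one_ne_zero hc ?_)
    fun k hk => h.norm_ne hG hn (pow_ne_one_of_coprime hg hk)
  have := isIntegral_centralChar h.1 g
  rwa [centralChar, hn, ← mul_one n] at this

theorem om_int [Fintype G] {χ : G → ℂ} (h : IsIrrCharacter G χ) {c : G → ℂ}
    (hc : IsClassFunction G c) (hi : ∀ g, IsIntegral ℤ (c g)) :
    IsIntegral ℤ ((∑ g, c g * χ g) / χ 1) := by
  have := Fintype.ofFinite (ConjClasses G)
  rw [show _ / _ = _ from om_eq_sum_classes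
    (IsCharacter.isClassFunction (IsIrrCharacter.isCharacter h)) (c := c) hc]
  exact IsIntegral.sum _ fun K _ => (hi _).mul (isIntegral_centralChar h _)

theorem deg_dvd [Finite G] {χ : G → ℂ} (h : IsIrrCharacter G χ) {n : ℕ} (hn : χ 1 = n) :
    n ∣ Nat.card G := by
  obtain ⟨m, ρ, hρ, rfl⟩ := h
  have := H2.finrank_dvd_card ρ hρ
  have e : m = n := by simpa using hn
  simpa [e] using this

theorem inv_val [Finite G] {χ : G → ℂ} (h : IsCharacter G χ) {z : G} (hz : z * z = 1) :
    ∃ v : ℤ, χ z = v := by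
  obtain ⟨s, hs⟩ := IsCharacter.exists_multiset_hom h z
  rw [show χ z = _ from hs ⟨z, mem_zpowers z⟩]
  refine Multiset.sum_induction (fun w : ℂ => ∃ v : ℤ, w = v) _ ?_ ⟨0, by simp⟩ fun w hw => ?_
  · rintro _ _ ⟨a, rfl⟩ ⟨b, rfl⟩
    exact ⟨a + b, by simp⟩
  obtain ⟨l, -, rfl⟩ := Multiset.mem_map.1 hw
  have : l ⟨z, mem_zpowers z⟩ * l ⟨z, mem_zpowers z⟩ = 1 := by
    rw [← map_mul, ← map_one l]; congr 1; exact Subtype.ext hz
  rcases mul_self_eq_one_iff.1 this with e | e
  · exact ⟨1, by simp [e]⟩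
  · exact ⟨-1, by simp [e]⟩

theorem deg_dvd_index [Finite G] {χ : G → ℂ} (h : IsIrrCharacter G χ) {n : ℕ} (hn : χ 1 = n)
    {z : G} {v : ℤ} (hv : χ z = v) : (n : ℤ) ∣ (centralizer ({z} : Set G)).index * v := by
  have := Fintype.ofFinite G
  have n0 : n ≠ 0 := fun e => IsIrrCharacter.one_ne_zero h (by simp [hn, e])
  refine H2.dvd_of_isIntegral (by exact_mod_cast n0) ?_
  have := isIntegral_centralChar h z
  rw [centralChar, hn, hv] at this
  simpa using this

/-- sum over products of two conjugates -/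
noncomputable def pairs [Fintype G] (z : G) (f : G → ℂ) : ℂ :=
  ∑ v, classInd ℂ z v * ∑ u, classInd ℂ z u * f (u * v)

theorem pairs_irr [Fintype G] {χ : G → ℂ} (h : IsIrrCharacter G χ) (z : G) :
    pairs z χ = ((centralizer ({z} : Set G)).index : ℂ) ^ 2 * (χ z ^ 2 / χ 1) := by
  have hc := IsCharacter.isClassFunction (IsIrrCharacter.isCharacter h)
  have h1 : ∑ g, classInd ℂ z g * χ g = (centralizer ({z} : Set G)).index * χ z := by
    rw [← sum_classInd, Finset.sum_mul]
    refine Finset.sum_congr rfl fun g _ => ?_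
    simp only [classInd]
    split_ifs with e
    · rw [IsClassFunction.of_isConj hc e]
    · simp
  simp only [pairs, IsIrrCharacter.sum_mul_mul h (isCF_classInd ℂ z), h1, mul_left_comm _ (_ / _),
    ← Finset.mul_sum]
  ring

theorem pairs_sum [Fintype G] (z : G) {ι : Type*} (s : Finset ι) (c : ι → ℂ) (f : ι → G → ℂ) :
    pairs z (fun g => ∑ i ∈ s, c i * f i g) = ∑ i ∈ s, c i * pairs z (f i) := by
  simp only [pairs, Finset.mul_sum]
  rw [Finset.sum_comm]
  conv_rhs => rw [Finset.sum_comm]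
  rw [Finset.sum_comm]
  refine Finset.sum_congr rfl fun v _ => ?_
  rw [Finset.sum_comm]
  exact Finset.sum_congr rfl fun i _ => Finset.sum_congr rfl fun u _ => by ring

end Cfsg.Agent.H3.NQ
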