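import Cfsg.Agent.H3.NA

/-! Solomon-type induction: local criterion for generalized characters. -/

set_option autoImplicit false

namespace Cfsg.Agent.H3.NQ

open Cfsg Cfsg.Agent.H1 Subgroup MulAction
open scoped ComplexConjugate Pointwise

variable {G : Type*} [Group G]

/-- number of fixed cosets -/
noncomputable def fx (H : Subgroup G) (g : G) : ℕ := Nat.card {c : G ⧸ H // g • c = c}

theorem smul_mk_iff (H : Subgroup G) (g y : G) :
    g • (y : G ⧸ H) = y ↔ y⁻¹ * g * y ∈ H := by
  rw [eq_comm, MulAction.Quotient.smul_mk, QuotientGroup.eq, smul_eq_mul, mul_assoc]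

theorem sum_fx [Fintype G] (H : Subgroup G) [Fintype H] {F : G → ℂ} (hF : IsClassFunction G F) :
    ∑ g, fx H g * F g = H.index * ∑ h : H, F h := by
  classical
  have := Fintype.ofFinite (G ⧸ H)
  simp only [fx, Nat.card_eq_fintype_card, Fintype.card_subtype, Finset.card_filter, Nat.cast_sum,
    Finset.sum_mul, index]
  rw [Finset.sum_comm, ← Finset.card_univ, ← nsmul_eq_mul, ← Finset.sum_const]
  refine Finset.sum_congr rfl fun c _ => ?_
  obtain ⟨y, rfl⟩ := QuotientGroup.mk_surjective c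
  rw [← Finset.sum_subtype (Finset.univ.filter (· ∈ H)) (by simp), Finset.sum_filter,
    ← (MulAut.conj y).toEquiv.sum_comp]
  refine Finset.sum_congr rfl fun g _ => ?_
  simp only [smul_mk_iff]
  simp [mul_assoc, ← hF g y]

theorem gen_fx [Finite G] (H : Subgroup G) : IsGeneralizedCharacter G (fun g => fx H g) :=
  IsCharacter.isGeneralized (isCharacter_fixed (G ⧸ H))

theorem gen_fx_mul [Fintype G] (H : Subgroup G) [Fintype H] {τ : G → ℂ} (hτ : IsClassFunction G τ)
    (hH : ∀ χ, IsCharacter G χ → ∃ n : ℤ, ∑ h : H, τ h * χ h = n * Nat.card H) :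
    IsGeneralizedCharacter G ((fun g => (fx H g : ℂ)) * τ) := by
  refine IsClassFunction.isGeneralized_of_int
    (IsClassFunction.mul (IsGeneralizedCharacter.isClassFunction (gen_fx H)) hτ) fun χ hχ => ?_
  have hc := IsCharacter.conj (IsIrrCharacter.isCharacter hχ)
  obtain ⟨n, hn⟩ := hH _ hc
  refine ⟨n, ?_⟩
  have := sum_fx H (IsClassFunction.mul hτ (IsCharacter.isClassFunction hc))
  simp only [Pi.mul_apply, hn] at this
  simp only [classInner, Pi.mul_apply, mul_assoc, this]
  rw [inv_mul_eq_iff_eq_mul₀ card_ne_zero', ← H.index_mul_card]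
  push_cast
  ring

theorem gen_of_local [Fintype G] {τ : G → ℂ}
    (h : ∀ (x : G) (l : ℕ), l.Prime → ∃ H : Subgroup G, ¬ l ∣ fx H x ∧
      IsGeneralizedCharacter G ((fun g => (fx H g : ℂ)) * τ)) : IsGeneralizedCharacter G τ := by
  classical
  have h1 : ∀ x : G, ∃ f, IsGeneralizedCharacter G f ∧ IsGeneralizedCharacter G (f * τ) ∧
      f x = 1 := fun x => by
    let I : Ideal ℤ :=
      { carrier := {n | ∃ f, IsGeneralizedCharacter G f ∧ IsGeneralizedCharacter G (f * τ) ∧
          f x = n}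
        add_mem' := by
          rintro a b ⟨f, f1, f2, f3⟩ ⟨g, g1, g2, g3⟩
          exact ⟨f + g, IsGeneralizedCharacter.add f1 g1,
            add_mul f g τ ▸ IsGeneralizedCharacter.add f2 g2, by simp [f3, g3]⟩
        zero_mem' := ⟨0, IsCharacter.isGeneralized isCharacter_zero,
          by simpa using IsCharacter.isGeneralized isCharacter_zero, by simp⟩
        smul_mem' := by
          rintro c a ⟨f, f1, f2, f3⟩
          exact ⟨c • f, IsGeneralizedCharacter.zsmul f1 c,
            smul_mul_assoc c f τ ▸ IsGeneralizedCharacter.zsmul f2 c, by simp [f3]⟩ }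
    obtain ⟨d, hd⟩ := IsPrincipalIdealRing.principal I
    by_cases e : d.natAbs = 1
    · have : (1 : ℤ) ∈ I := hd ▸ Ideal.mem_span_singleton.2 (Int.natAbs_dvd.1 (by simp [e]))
      obtain ⟨f, f1, f2, f3⟩ := this
      exact ⟨f, f1, f2, by simpa using f3⟩
    obtain ⟨l, hl, e1⟩ := Nat.exists_prime_and_dvd e
    obtain ⟨H, a1, a2⟩ := h x l hl
    have : (fx H x : ℤ) ∈ I := ⟨_, gen_fx H, a2, by simp⟩
    rw [hd] at this
    exact absurd (e1.trans (Int.natAbs_dvd_natAbs.2 (Ideal.mem_span_singleton.1 this))) a1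
  have h2 : ∀ s : Finset G, ∃ f, IsGeneralizedCharacter G f ∧ IsGeneralizedCharacter G (f * τ) ∧
      ∀ x ∈ s, f x = 1 := fun s => by
    induction s using Finset.induction_on with
    | empty => obtain ⟨f, f1, f2, -⟩ := h1 1; exact ⟨f, f1, f2, by simp⟩
    | insert x s _ ih =>
      obtain ⟨f, f1, f2, f3⟩ := ih
      obtain ⟨g, g1, g2, g3⟩ := h1 x
      refine ⟨f + g - f * g, IsGeneralizedCharacter.sub (IsGeneralizedCharacter.add f1 g1)
        (IsGeneralizedCharacter.mul f1 g1), ?_, fun y hy => ?_⟩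
      · rw [sub_mul, add_mul, mul_assoc]
        exact IsGeneralizedCharacter.sub (IsGeneralizedCharacter.add f2 g2)
          (IsGeneralizedCharacter.mul f1 g2)
      · rcases Finset.mem_insert.1 hy with rfl | hy
        · simp [g3]
        · simp [f3 y hy]
  obtain ⟨f, -, f2, f3⟩ := h2 Finset.univ
  rwa [show f * τ = τ from funext fun x => by simp [f3]] at f2

theorem mem_of_pow_mem {K : Subgroup G} {x : G} {a b : ℕ} (h : a.Coprime b) (ha : x ^ a ∈ K)
    (hb : x ^ b ∈ K) : x ∈ K := by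
  obtain ⟨u, v, e⟩ := Nat.isCoprime_iff_coprime.2 h
  have := mul_mem (zpow_mem ha u) (zpow_mem hb v)
  rwa [← zpow_natCast, ← zpow_natCast, ← zpow_mul, ← zpow_mul, ← zpow_add, mul_comm _ u,
    mul_comm _ v, e, zpow_one] at this

theorem exists_quasi [Finite G] (x : G) {l : ℕ} (hl : l.Prime) : ∃ (H S : Subgroup G) (c : G),
    ¬ l ∣ fx H x ∧ (orderOf c).Coprime l ∧ IsPGroup l S ∧ H ≤ normalizer (zpowers c : Set G) ∧
    S ≤ H ∧ (∀ h ∈ H, ∃ c' ∈ zpowers c, ∃ s ∈ S, c' * s = h) ∧
    (∃ k, ∀ h ∈ H, h ^ l ^ k ∈ zpowers c) := by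
  have := Fact.mk hl
  obtain ⟨k, r, hr, e⟩ := Nat.exists_eq_pow_mul_and_not_dvd (orderOf_pos x).ne' l hl.ne_one
  have hco : (l ^ k).Coprime r := ((Nat.Prime.coprime_iff_not_dvd hl).2 hr).pow_left k
  set c := x ^ l ^ k with hc
  set d := x ^ r with hd
  have cd : Commute d c := Commute.pow_pow_self x _ _
  have oc : orderOf c ∣ r := orderOf_dvd_of_pow_eq_one (by
    rw [hc, ← pow_mul, ← e, pow_orderOf_eq_one])
  have oc' : (orderOf c).Coprime l :=
    (((Nat.Prime.coprime_iff_not_dvd hl).2 hr).symm.coprime_dvd_left oc)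
  have od : d ^ l ^ k = 1 := by rw [hd, ← pow_mul, mul_comm, ← e, pow_orderOf_eq_one]
  set N := normalizer (zpowers c : Set G) with hN
  have dN : d ∈ N := centralizer_le_normalizer _ fun y hy => by
    obtain ⟨j, rfl⟩ := hy
    exact (cd.zpow_right j).symm
  have pd : IsPGroup l (zpowers (⟨d, dN⟩ : N)) := fun ⟨y, j, hy⟩ =>
    ⟨k, Subtype.ext (Subtype.ext (by
      simp only [← hy, SubgroupClass.coe_pow, SubgroupClass.coe_zpow, OneMemClass.coe_one]
      rw [← zpow_natCast, ← zpow_mul, mul_comm, zpow_mul, zpow_natCast, od, one_zpow]))⟩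
  obtain ⟨S0, hS0⟩ := pd.exists_le_sylow
  set S := (S0 : Subgroup N).map N.subtype with hS
  have SN : S ≤ N := map_subtype_le _
  have pS : IsPGroup l S := S0.isPGroup'.map _
  set H := zpowers c ⊔ S with hH
  have HN : H ≤ N := sup_le le_normalizer SN
  have dec : ∀ h ∈ H, ∃ c' ∈ zpowers c, ∃ s ∈ S, c' * s = h := fun h hh => by
    rwa [← SetLike.mem_coe, coe_mul_of_right_le_normalizer_left _ _ SN] at hh
  obtain ⟨j, hj⟩ := IsPGroup.iff_card.1 pS
  have pw : ∀ h ∈ H, h ^ l ^ j ∈ zpowers c := fun h hh => by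
    obtain ⟨c', c1, s, s1, rfl⟩ := dec h hh
    have : ∀ n, (c' * s) ^ n * (s ^ n)⁻¹ ∈ zpowers c := fun n => by
      induction n with
      | zero => simp
      | succ n ih =>
        convert mul_mem c1 ((mem_normalizer_iff.1 (SN s1) _).1 ih) using 1
        rw [pow_succ', pow_succ']
        group
    simpa [show s ^ l ^ j = 1 from congrArg Subtype.val (hj ▸ pow_card_eq_one' (x := (⟨s, s1⟩ : S)))]
      using this (l ^ j)
  refine ⟨H, S, c, ?_, oc', pS, HN, le_sup_right, dec, j, pw⟩
  let Y : SubMulAction (zpowers d) (G ⧸ H) :=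
    { carrier := {q | c • q = q}
      smul_mem' := by
        rintro ⟨_, i, rfl⟩ q hq
        change c • d ^ i • q = d ^ i • q
        rw [← mul_smul, ← (cd.zpow_left i).eq, mul_smul, hq] }
  have pd' : IsPGroup l (zpowers d) := pd.of_equiv ((zpowers _).equivMapOfInjective N.subtype
    N.subtype_injective |>.trans (MulEquiv.subgroupCongr (by simp)))
  have m1 := pd'.card_modEq_card_fixedPoints Y
  have m2 : Nat.card (fixedPoints (zpowers d) Y) = fx H x := Nat.card_congr
    { toFun := fun q => ⟨q.1.1, mem_of_pow_mem (K := stabilizer G q.1.1) hco q.1.2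
        (congrArg Subtype.val (q.2 ⟨d, mem_zpowers d⟩))⟩
      invFun := fun q => ⟨⟨q.1, pow_mem (show x ∈ stabilizer G q.1 from q.2) _⟩, fun ⟨_, i, hi⟩ =>
        Subtype.ext (hi ▸ zpow_mem (pow_mem (show x ∈ stabilizer G q.1 from q.2) r) i :
          _ ∈ stabilizer G q.1)⟩
      left_inv := fun _ => rfl
      right_inv := fun _ => rfl }
  have m3 : Nat.card Y = (H.subgroupOf N).index := by
    have : stabilizer N ((1 : G) : G ⧸ H) = H.subgroupOf N := by
      ext n
      change (n : G) • ((1 : G) : G ⧸ H) = ((1 : G) : G ⧸ H) ↔ (n : G) ∈ H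
      rw [smul_mk_iff]
      simp
    rw [← this, index_stabilizer, ← Nat.card_coe_set_eq]
    congr 2
    ext q
    obtain ⟨y, rfl⟩ := QuotientGroup.mk_surjective q
    change c • (y : G ⧸ H) = y ↔ _
    rw [smul_mk_iff]
    constructor
    · intro hy
      have o1 : orderOf (y⁻¹ * c * y) = orderOf c := by
        simpa using (MulAut.conj y⁻¹).orderOf_eq c
      have h1 : y⁻¹ * c * y ∈ zpowers c := mem_of_pow_mem (oc'.pow_right j)
        (by rw [← o1, pow_orderOf_eq_one]; exact one_mem _) (pw _ hy)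
      have h2 : y⁻¹ ∈ N := by
        refine mem_normalizer_fintype fun n hn => ?_
        obtain ⟨i, rfl⟩ := hn
        have := zpow_mem h1 i
        rwa [← inv_inv y, inv_inv y⁻¹, conj_zpow] at this
      exact ⟨⟨y, inv_mem_iff.1 h2⟩, congrArg _ (mul_one y)⟩
    · rintro ⟨n, hn⟩
      have h1 : (n : G)⁻¹ * y ∈ H := by
        simpa using QuotientGroup.eq.1 (show (((n : G) * 1 : G) : G ⧸ H) = y from hn)
      have h2 : y ∈ N := by simpa using mul_mem n.2 (HN h1)
      exact (le_sup_left : _ ≤ H) (by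
        simpa using (mem_normalizer_iff.1 (inv_mem h2) c).1 (mem_zpowers c))
  rw [m2, m3] at m1
  intro e1
  refine S0.not_dvd_index (((m1.dvd_iff dvd_rfl).2 e1).trans (index_dvd_of_le fun s hs => ?_))
  exact (le_sup_right : _ ≤ H) (mem_map_of_mem _ hs)

end Cfsg.Agent.H3.NQ
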