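import Cfsg.Agent.H3.NB
import Cfsg.Agent.H3.Basic

/-! Groups with a Sylow 3-subgroup of order 9: lifting of class functions, section sizes. -/

set_option autoImplicit false
set_option linter.unusedSectionVars false

namespace Cfsg.Agent.H3.NQ

open Cfsg Cfsg.Agent.H1 Subgroup MulAction
open scoped ComplexConjugate Pointwise

/-- a parametrised Sylow 3-subgroup of order 9 -/
structure Set3 (G B : Type*) [Group G] [CommGroup B] where
  ι : B →* G
  inj : Function.Injective ι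
  e : ℕ
  m : ℕ
  card : Nat.card G = 9 * m
  cop : m.Coprime 3
  dvd : m ∣ e
  mod : e ≡ 1 [MOD 9]
  cardB : Nat.card B = 9

namespace Set3

variable {G B : Type*} [Group G] [CommGroup B] (D : Set3 G B)

theorem pe9 (g : G) : (g ^ D.e) ^ 9 = 1 := by
  rw [← pow_mul, ← orderOf_dvd_iff_pow_eq_one]
  exact (orderOf_dvd_natCard g).trans (D.card ▸ mul_comm D.e 9 ▸ Nat.mul_dvd_mul_left 9 D.dvd)

theorem pe_of {M : Type*} [Group M] {g : M} (h : g ^ 9 = 1) : g ^ D.e = g := by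
  rw [← Nat.div_add_mod D.e 9, D.mod, pow_add, pow_mul, h]
  simp

theorem dvd_e {j : ℕ} (h : j ∣ Nat.card G) (h3 : j.Coprime 3) : j ∣ D.e :=
  ((h3.pow_right 2).dvd_of_dvd_mul_left (D.card ▸ h)).trans D.dvd

theorem pe_cop {g : G} (h : (orderOf g).Coprime 3) : g ^ D.e = 1 :=
  orderOf_dvd_iff_pow_eq_one.1 (D.dvd_e (orderOf_dvd_natCard g) h)

include D in
theorem b9 (b : B) : b ^ 9 = 1 := D.cardB ▸ pow_card_eq_one'

theorem i9 (b : B) : D.ι b ^ 9 = 1 := by rw [← map_pow, D.b9, map_one]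

theorem card_range : Nat.card D.ι.range = 9 :=
  (Nat.card_congr (D.ι.ofInjective D.inj).toEquiv).symm.trans D.cardB

variable [Finite G]

/-- the Sylow subgroup -/
noncomputable def syl : Sylow 3 G :=
  (IsPGroup.of_card (n := 2) D.card_range).toSylow (by
    have := D.ι.range.card_mul_index
    rw [D.card_range, D.card] at this
    rw [Nat.eq_of_mul_eq_mul_left (by norm_num) this]
    exact (Nat.Prime.coprime_iff_not_dvd Nat.prime_three).1 D.cop.symm)

theorem coe_syl : (D.syl : Subgroup G) = D.ι.range := rfl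

theorem conj3 {P : Subgroup G} (h : IsPGroup 3 P) : ∃ g : G, ∀ p ∈ P, ∃ b, D.ι b = g * p * g⁻¹ := by
  obtain ⟨Q, hQ⟩ := h.exists_le_sylow
  obtain ⟨g, hg⟩ := exists_smul_eq G Q D.syl
  refine ⟨g, fun p hp => ?_⟩
  change _ ∈ (D.syl : Subgroup G)
  rw [← hg, mem_sylow_smul]
  simpa [mul_assoc] using hQ hp

omit [Finite G] in
theorem pg9 {M : Type*} [Group M] {g : M} (h : g ^ 9 = 1) : IsPGroup 3 (zpowers g) :=
  fun ⟨_, j, hy⟩ => ⟨2, Subtype.ext (by
    simp only [← hy, SubgroupClass.coe_pow, OneMemClass.coe_one]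
    rw [← zpow_natCast, ← zpow_mul, mul_comm, zpow_mul, zpow_natCast]
    simp [h])⟩

theorem exists_sec (g : G) : ∃ b, IsConj (g ^ D.e) (D.ι b) := by
  obtain ⟨y, hy⟩ := D.conj3 (pg9 (D.pe9 g))
  obtain ⟨b, hb⟩ := hy _ (mem_zpowers _)
  exact ⟨b, isConj_iff.2 ⟨y, hb.symm⟩⟩

include D in
theorem comm3 {P : Subgroup G} (h : IsPGroup 3 P) {a b : G} (ha : a ∈ P) (hb : b ∈ P) :
    Commute a b := by
  obtain ⟨g, hg⟩ := D.conj3 h
  obtain ⟨a', e1⟩ := hg a ha
  obtain ⟨b', e2⟩ := hg b hb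
  have := ((Commute.all a' b').map D.ι).conj g⁻¹
  simpa [e1, e2, mul_assoc] using this

theorem exists_proj (H : Subgroup G) (T : Sylow 3 H)
    (hT : normalizer (T : Set H) ≤ centralizer (T : Set H)) : ∃ (π : H →* B) (g : G),
    ∀ h : H, ∃ y : H, D.ι (π h) = g * (y * (h : G) ^ D.e * (y : G)⁻¹) * g⁻¹ := by
  obtain ⟨g, hg⟩ := D.conj3 (T.isPGroup'.map H.subtype)
  choose ρ hρ using fun t : T => hg _ (mem_map_of_mem H.subtype t.2)
  let ρ' : T →* B := MonoidHom.mk' ρ fun a b => D.inj (by simp [hρ, mul_assoc])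
  obtain ⟨k, hk⟩ := D.dvd_e ((T : Subgroup H).index_dvd_card.trans (card_subgroup_dvd_card H))
    ((Nat.Prime.coprime_iff_not_dvd Nat.prime_three).2 T.not_dvd_index).symm
  let π : H →* B := (powMonoidHom k).comp (ρ'.comp (MonoidHom.transferSylow T hT))
  refine ⟨π, g, fun h => ?_⟩
  have h9 : (h ^ D.e) ^ 9 = 1 := Subtype.ext (D.pe9 h)
  obtain ⟨Q, hQ⟩ := (pg9 h9).exists_le_sylow
  obtain ⟨y, hy⟩ := exists_smul_eq H Q T
  have h1 : y * h ^ D.e * y⁻¹ ∈ (T : Subgroup H) := by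
    rw [← hy, mem_sylow_smul]
    simpa [mul_assoc] using hQ (mem_zpowers _)
  have h2 : π (y * h ^ D.e * y⁻¹) = π h := by
    simp only [map_mul, map_inv, map_pow, mul_inv_cancel_comm, D.pe_of (D.b9 _)]
  refine ⟨y, ?_⟩
  rw [← h2]
  simp only [π, MonoidHom.comp_apply, MonoidHom.transferSylow_eq_pow T hT _ h1, powMonoidHom_apply,
    map_pow, ρ', MonoidHom.mk'_apply, hρ, conj_pow, coe_subtype, SubgroupClass.coe_pow, coe_mul,
    InvMemClass.coe_inv, ← pow_mul, mul_assoc D.e, ← hk]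
  rw [pow_mul, D.pe_of (D.pe9 _)]

theorem sum_int [Fintype G] [Fintype B] (H : Subgroup G) [Fintype H] (π : H →* B) {β : B → ℂ}
    (hβ : IsGeneralizedCharacter B β) {χ : G → ℂ} (hχ : IsCharacter G χ) :
    ∃ n : ℤ, ∑ h : H, β (π h) * χ h = n * Nat.card H := by
  obtain ⟨n, hn⟩ := IsGeneralizedCharacter.classInner_int (IsGeneralizedCharacter.comp hβ π)
    (IsCharacter.isGeneralized (IsCharacter.conj (IsCharacter.comp hχ H.subtype)))
  refine ⟨n, ?_⟩
  rw [classInner, inv_mul_eq_iff_eq_mul₀ card_ne_zero'] at hn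
  simpa [mul_comm] using hn

theorem gen_tau [Fintype G] [Fintype B]
    (pm : ∀ c h : G, c ^ 9 = 1 → h * c * h⁻¹ ∈ zpowers c → h * c * h⁻¹ = c ∨ h * c * h⁻¹ = c⁻¹)
    {τ : G → ℂ} {β : B → ℂ} (hβ : IsGeneralizedCharacter B β)
    (h1 : β 1 = 0) (h : ∀ g b, IsConj (g ^ D.e) (D.ι b) → τ g = β b + β b⁻¹) :
    IsGeneralizedCharacter G τ := by
  classical
  have hτ : IsClassFunction G τ := fun g y => by
    obtain ⟨b, hb⟩ := D.exists_sec g
    rw [h g b hb, h _ b]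
    rw [conj_pow]
    exact (isConj_iff.2 ⟨y, rfl⟩).symm.trans hb
  have hβ' : IsGeneralizedCharacter B (fun b => β b + β b⁻¹) :=
    IsGeneralizedCharacter.add hβ (IsGeneralizedCharacter.comp hβ invMonoidHom)
  have easy : ∀ (H : Subgroup G) (T : Sylow 3 H),
      normalizer (T : Set H) ≤ centralizer (T : Set H) → ∀ χ, IsCharacter G χ →
      ∃ n : ℤ, ∑ h : H, τ h * χ h = n * Nat.card H := fun H T hT χ hχ => by
    obtain ⟨π, g, hg⟩ := D.exists_proj H T hT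
    obtain ⟨n, hn⟩ := sum_int H π hβ' hχ
    refine ⟨n, hn ▸ Finset.sum_congr rfl fun x _ => ?_⟩
    obtain ⟨y, hy⟩ := hg x
    rw [h x (π x) (isConj_iff.2 ⟨g * y, by rw [hy]; group⟩)]
  refine gen_of_local fun x l hl => ?_
  obtain ⟨H, S, c, a1, a2, a3, a4, a5, a6, k, a7⟩ := exists_quasi x hl
  refine ⟨H, a1, gen_fx_mul H hτ fun χ hχ => ?_⟩
  by_cases l3 : l = 3
  · subst l3
    obtain ⟨T⟩ : Nonempty (Sylow 3 H) := inferInstance
    refine easy H T (fun n hn t ht => ?_) χ hχ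
    have b1 : n * t * n⁻¹ * t⁻¹ ∈ (T : Subgroup H) :=
      mul_mem ((mem_normalizer_iff.1 hn t).1 ht) (inv_mem ht)
    have b2 : ((n * t * n⁻¹ * t⁻¹ : H) : G) ∈ zpowers c := by
      obtain ⟨c1, d1, s1, f1, g1⟩ := a6 _ n.2
      obtain ⟨c2, d2, s2, f2, g2⟩ := a6 _ t.2
      have := mul_mem (mul_mem (mul_mem d1 ((mem_normalizer_iff.1 (a4 (a5 f1)) _).1 d2))
        ((mem_normalizer_iff.1 (a4 (a5 f2)) _).1 (inv_mem d1))) (inv_mem d2)
      convert this using 1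
      simp only [coe_mul, InvMemClass.coe_inv, ← g1, ← g2]
      calc _ = c1 * s1 * c2 * s1⁻¹ * (s1 * s2 * s1⁻¹) * c1⁻¹ * s2⁻¹ * c2⁻¹ := by group
        _ = _ := by rw [(D.comm3 a3 f1 f2).eq]; group
    obtain ⟨j, hj⟩ := T.isPGroup' ⟨_, b1⟩
    have b3 : n * t * n⁻¹ * t⁻¹ = 1 := mem_bot.1 (mem_of_pow_mem (a2.pow_right j)
      (mem_bot.2 (Subtype.ext (orderOf_dvd_iff_pow_eq_one.1 (orderOf_dvd_of_mem_zpowers b2))))
      (mem_bot.2 (congrArg Subtype.val hj)))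
    rw [mul_inv_eq_one, mul_inv_eq_iff_eq_mul] at b3
    exact b3.symm
  have l3' : Nat.Coprime 9 (l ^ k) :=
    (((Nat.coprime_primes Nat.prime_three hl).2 (Ne.symm l3)).pow_left 2).pow_right k
  have b1 : ∀ y ∈ H, y ^ 9 = 1 → y ∈ zpowers (c ^ D.e) := fun y hy e => by
    obtain ⟨j, hj⟩ := mem_of_pow_mem l3' (e ▸ one_mem _) (a7 y hy)
    refine ⟨j, ?_⟩
    change (c ^ D.e) ^ j = y
    rw [← D.pe_of e, ← hj, ← zpow_natCast, ← zpow_natCast, ← zpow_mul, ← zpow_mul, mul_comm]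
  set H0 := H ⊓ centralizer {c ^ D.e} with hH0
  have b2 : ∀ y ∈ H0, ∀ t ∈ zpowers (c ^ D.e), Commute y t := by
    rintro y hy _ ⟨j, rfl⟩
    exact Commute.zpow_right (mem_centralizer_singleton_iff.1 hy.2) j
  obtain ⟨T⟩ : Nonempty (Sylow 3 H0) := inferInstance
  have hT : normalizer (T : Set H0) ≤ centralizer (T : Set H0) := fun n _ t ht => by
    obtain ⟨g, hg⟩ := D.conj3 (T.isPGroup'.map H0.subtype)
    obtain ⟨b, hb⟩ := hg _ (mem_map_of_mem _ ht)
    have := D.i9 b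
    rw [hb, conj_pow, mul_inv_eq_one, mul_eq_left] at this
    exact Subtype.ext (b2 _ n.2 _ (b1 _ t.2.1 this)).eq.symm
  by_cases hc : H0 = H
  · exact hc ▸ easy H0 T hT χ hχ
  have b3 : ∀ y ∈ H, y ∉ H0 → ∀ t ∈ zpowers (c ^ D.e), y * t * y⁻¹ = t⁻¹ := by
    rintro y hy hn _ ⟨j, rfl⟩
    obtain ⟨i, hi⟩ := (mem_normalizer_iff.1 (a4 hy) _).1 (mem_zpowers c)
    rcases pm (c ^ D.e) y (D.pe9 c) ⟨i, by
      simp only at hi ⊢
      rw [← conj_pow, ← hi, ← zpow_natCast, ← zpow_natCast, ← zpow_mul, ← zpow_mul, mul_comm]⟩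
      with e | e
    · exact absurd ⟨hy, mem_centralizer_singleton_iff.2 (mul_inv_eq_iff_eq_mul.1 e)⟩ hn
    · simp only
      rw [← conj_zpow, e, inv_zpow]
  obtain ⟨w, w1, w2⟩ := SetLike.exists_of_lt (lt_of_le_of_ne (inf_le_left : H0 ≤ H) hc)
  have m0 : ∀ y ∈ H, y * c ^ D.e * y⁻¹ = c ^ D.e → y ∈ H0 := fun y hy e =>
    ⟨hy, mem_centralizer_singleton_iff.2 (mul_inv_eq_iff_eq_mul.1 e)⟩
  have m1 : ∀ y ∈ H0, y * c ^ D.e * y⁻¹ = c ^ D.e := fun y hy =>
    mul_inv_eq_iff_eq_mul.2 (b2 y hy _ (mem_zpowers _))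
  have b4 : Nat.card H = 2 * Nat.card H0 := by
    rw [← Nat.card_congr (subgroupOfEquivOfLe (inf_le_left : H0 ≤ H)).toEquiv,
      ← (H0.subgroupOf H).index_mul_card]
    congr 1
    refine index_eq_two_iff.2 ⟨⟨w, w1⟩, fun y => ?_⟩
    simp only [mem_subgroupOf, coe_mul]
    by_cases e : (y : G) ∈ H0
    · exact Or.inr ⟨e, fun e1 => w2 ((mul_mem_cancel_left e).1 e1)⟩
    · refine Or.inl ⟨m0 _ (mul_mem y.2 w1) ?_, e⟩
      calc _ = y * (w * c ^ D.e * w⁻¹) * (y : G)⁻¹ := by group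
        _ = _ := by rw [b3 w w1 w2 _ (mem_zpowers _), b3 _ y.2 e _ (inv_mem (mem_zpowers _)), inv_inv]
  have b5 : ∑ h : H, τ h * χ h = ∑ h : H0, τ h * χ h := by
    rw [← Finset.sum_subtype (Finset.univ.filter (· ∈ H)) (by simp) (fun h => τ h * χ h),
      ← Finset.sum_subtype (Finset.univ.filter (· ∈ H0)) (by simp) (fun h => τ h * χ h)]
    refine (Finset.sum_subset (fun y hy => by
      simp only [Finset.mem_filter, Finset.mem_univ, true_and] at hy ⊢
      exact hy.1) fun y hy hn => ?_).symm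
    simp only [Finset.mem_filter, Finset.mem_univ, true_and] at hy hn
    have e1 := b3 y hy hn _ (b1 _ (pow_mem hy _) (D.pe9 y))
    rw [(Commute.self_pow y _).eq, mul_inv_cancel_right, eq_inv_iff_mul_eq_one, ← pow_two] at e1
    have e2 : y ^ D.e = 1 := mem_bot.1 (mem_of_pow_mem (show Nat.Coprime 2 9 by norm_num)
      (mem_bot.2 e1) (mem_bot.2 (D.pe9 y)))
    simp [h y 1 (by simp [e2]), h1]
  obtain ⟨π, g, hg⟩ := D.exists_proj H0 T hT
  have b6 : ∀ y : H0, D.ι (π y) = g * (y : G) ^ D.e * g⁻¹ := fun y => by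
    obtain ⟨z, hz⟩ := hg y
    rw [hz, (b2 _ z.2 _ (b1 _ (pow_mem y.2.1 _) (D.pe9 _))).eq, mul_inv_cancel_right]
  have b7 : ∀ v ∈ H, ∀ y ∈ H0, v * y * v⁻¹ ∈ H0 := fun v hv y hy => by
    by_cases e : v ∈ H0
    · exact mul_mem (mul_mem e hy) (inv_mem e)
    refine m0 _ (mul_mem (mul_mem hv hy.1) (inv_mem hv)) ?_
    calc _ = v * (y * (v⁻¹ * c ^ D.e * v⁻¹⁻¹) * y⁻¹) * v⁻¹ := by group
      _ = _ := by
        rw [b3 _ (inv_mem hv) (by simpa using e) _ (mem_zpowers _),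
          (b2 y hy _ (inv_mem (mem_zpowers _))).eq, mul_inv_cancel_right,
          b3 v hv e _ (inv_mem (mem_zpowers _)), inv_inv]
  let φ : H0 ≃ H0 :=
    { toFun := fun y => ⟨_, b7 w w1 _ y.2⟩
      invFun := fun y => ⟨_, b7 _ (inv_mem w1) _ y.2⟩
      left_inv := fun y => Subtype.ext (by simp [mul_assoc])
      right_inv := fun y => Subtype.ext (by simp [mul_assoc]) }
  have b8 : ∑ y : H0, β (π y)⁻¹ * χ y = ∑ y : H0, β (π y) * χ y := by
    rw [← φ.sum_comp fun y => β (π y) * χ y]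
    refine Finset.sum_congr rfl fun y _ => ?_
    refine congrArg₂ _ (congrArg _ (D.inj ?_)) (IsCharacter.isClassFunction hχ _ _).symm
    rw [map_inv, b6, b6]
    simp only [φ, Equiv.coe_fn_mk, conj_pow]
    rw [b3 w w1 w2 _ (b1 _ (pow_mem y.2.1 _) (D.pe9 _))]
    group
  obtain ⟨n, hn⟩ := sum_int H0 π hβ hχ
  refine ⟨n, ?_⟩
  rw [b5, Finset.sum_congr rfl fun (y : H0) _ => by
    rw [h y (π y) (isConj_iff.2 ⟨g, (b6 y).symm⟩), add_mul], Finset.sum_add_distrib, b8, hn, b4]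
  push_cast
  ring

/-- size of a section -/
noncomputable def N (x : G) : ℕ := Nat.card {g : G // IsConj x (g ^ D.e)}

/-- number of 3-regular elements of the centralizer -/
noncomputable def r (x : G) : ℕ := Nat.card {s : centralizer ({x} : Set G) // (s : G) ^ D.e = 1}

theorem N_eq {x : G} (hx : x ^ 9 = 1) : D.N x = (centralizer ({x} : Set G)).index * D.r x := by
  have := Fintype.ofFinite G
  rw [index_centralizer_eq, N, r, ← Nat.card_prod]
  have h1 : ∀ y : {y // IsConj x y}, ∃ u : G, u * x * u⁻¹ = y := fun y => isConj_iff.1 y.2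
  choose u hu using h1
  have h2 : ∀ s : centralizer ({x} : Set G), Commute (s : G) x := fun s =>
    mem_centralizer_singleton_iff.1 s.2
  refine (Nat.card_eq_of_bijective (fun p => ⟨u p.1 * (p.2.1 * x) * (u p.1)⁻¹, by
    rw [conj_pow, (h2 _).mul_pow, p.2.2, one_mul, D.pe_of hx]
    exact isConj_iff.2 ⟨_, rfl⟩⟩) ⟨?_, ?_⟩).symm
  · rintro ⟨y, s⟩ ⟨y', s'⟩ e
    have e1 := congrArg Subtype.val e
    have e2 := congrArg (· ^ D.e) e1
    simp only [conj_pow, (h2 _).mul_pow, s.2, s'.2, one_mul, D.pe_of hx, hu] at e2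
    obtain rfl := Subtype.ext e2
    simp only [mul_left_inj, mul_right_inj] at e1
    rw [Subtype.ext (Subtype.ext e1 : s.1 = s'.1)]
  · rintro ⟨g, hg⟩
    have e1 := hu ⟨_, hg⟩
    set v := u ⟨_, hg⟩
    have e2 : (v⁻¹ * g * v⁻¹⁻¹) ^ D.e = x := by
      rw [conj_pow, ← show _ = g ^ D.e from e1]; group
    have e3 : Commute (v⁻¹ * g * v⁻¹⁻¹) x := e2 ▸ Commute.self_pow _ _
    refine ⟨(⟨_, hg⟩, ⟨⟨v⁻¹ * g * v⁻¹⁻¹ * x⁻¹, mem_centralizer_singleton_iff.2
      (e3.mul_left (Commute.refl x).inv_left)⟩, ?_⟩), Subtype.ext ?_⟩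
    · simp only
      rw [e3.inv_right.mul_pow, e2, inv_pow, D.pe_of hx, mul_inv_cancel]
    · change v * (_ * x) * v⁻¹ = g
      group

theorem three_N {x : G} (hx : x ^ 9 = 1) (h1 : x ≠ 1) : 3 * D.N x ≤ Nat.card G := by
  rw [D.N_eq hx, ← (centralizer ({x} : Set G)).index_mul_card, mul_left_comm]
  refine Nat.mul_le_mul_left _ ?_
  have h2 : ∀ s : centralizer ({x} : Set G), Commute (s : G) x := fun s =>
    mem_centralizer_singleton_iff.1 s.2
  have h3 : 3 ≤ orderOf x := by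
    have := (Nat.dvd_prime_pow Nat.prime_three (m := 2)).1 (orderOf_dvd_of_pow_eq_one hx)
    obtain ⟨k, -, e⟩ := this
    rcases k with _ | k
    · exact absurd (orderOf_eq_one_iff.1 e) h1
    · rw [e, pow_succ]; nlinarith [Nat.one_le_pow k 3 (by norm_num)]
  rw [← Nat.card_fin 3, r, ← Nat.card_prod]
  refine Nat.card_le_card_of_injective (fun p => p.2.1 * ⟨x, mem_centralizer_singleton_iff.2 rfl⟩ ^ (p.1 : ℕ)) ?_
  rintro ⟨i, s⟩ ⟨j, s'⟩ e
  have e1 := congrArg Subtype.val e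
  have e2 := congrArg (· ^ D.e) e1
  simp only [coe_mul, SubgroupClass.coe_pow, ((h2 _).pow_right _).mul_pow, s.2, s'.2, one_mul,
    ← pow_mul, mul_comm _ D.e] at e2
  simp only [pow_mul, D.pe_of hx] at e2
  obtain rfl : i = j := Fin.ext (pow_injOn_Iio_orderOf (i.2.trans_le h3) (j.2.trans_le h3) e2)
  rw [Subtype.ext (mul_right_cancel e : s.1 = s'.1)]

theorem nine_N (b : B) (h : ∀ n ∈ normalizer (D.ι.range : Set G), Commute n (D.ι b) →
    ∀ b', Commute n (D.ι b')) : 9 * D.N (D.ι b) = Nat.card G := by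
  rw [D.N_eq (D.i9 b), ← (centralizer ({D.ι b} : Set G)).index_mul_card, mul_left_comm]
  congr 1
  set H := centralizer ({D.ι b} : Set G)
  have hR : (D.syl : Subgroup G) ≤ H := by
    rintro _ ⟨b', rfl⟩
    exact mem_centralizer_singleton_iff.2 ((Commute.all b' b).map D.ι)
  obtain ⟨π, g, hg⟩ := D.exists_proj H (D.syl.subtype hR) (fun n hn t ht => by
    obtain ⟨b', hb⟩ : (t : G) ∈ D.ι.range := ht
    refine Subtype.ext ?_
    simp only [coe_mul, ← hb]
    refine (h n (mem_normalizer_fintype fun x hx => ?_) (mem_centralizer_singleton_iff.1 n.2) b').eq.symm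
    exact (mem_normalizer_iff.1 hn ⟨x, hR hx⟩).1 hx)
  have k1 : ∀ s : H, π s = 1 ↔ (s : G) ^ D.e = 1 := fun s => by
    obtain ⟨y, hy⟩ := hg s
    rw [← D.inj.eq_iff, hy]
    simp
  have : Finite B := Finite.of_injective _ D.inj
  have k2 : Function.Surjective π := by
    have := Finite.injective_iff_surjective.1 (show Function.Injective
      (π.comp (D.ι.codRestrict H fun b => hR ⟨b, rfl⟩)) from (injective_iff_map_eq_one _).2 fun b hb => by
        have := (k1 _).1 hb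
        rwa [MonoidHom.codRestrict_apply, D.pe_of (D.i9 b), map_eq_one_iff _ D.inj] at this)
    exact Function.Surjective.of_comp this
  rw [← π.ker.index_mul_card, index_ker, MonoidHom.range_eq_top.2 k2, card_top, D.cardB]
  congr 1
  exact Nat.card_congr (Equiv.subtypeEquivRight fun s => (k1 s).symm)

theorem fusion {b b' : B} (h : IsConj (D.ι b) (D.ι b')) :
    ∃ n ∈ normalizer (D.ι.range : Set G), n * D.ι b * n⁻¹ = D.ι b' := by
  obtain ⟨g, hg⟩ := isConj_iff.1 h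
  have c : ∀ x, D.ι x ∈ centralizer (D.syl : Set G) := by
    rintro x _ ⟨y, rfl⟩
    exact (Commute.all y x).map D.ι
  obtain ⟨n, n1, n2⟩ := D.syl.conj_eq_normalizer_conj_of_mem_centralizer (D.ι b) g⁻¹ (c b)
    (by rw [inv_inv, hg]; exact c b')
  exact ⟨n⁻¹, inv_mem n1, by rw [← hg, inv_inv, ← n2, inv_inv]⟩

theorem exists_aut {n : G} (hn : n ∈ normalizer (D.ι.range : Set G)) :
    ∃ φ : B →* B, (∀ b, n * D.ι b * n⁻¹ = D.ι (φ b)) ∧ φ^[D.e] = id := by
  choose φ hφ using fun b => (mem_normalizer_iff.1 hn (D.ι b)).1 ⟨b, rfl⟩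
  refine ⟨MonoidHom.mk' φ fun a b => D.inj (by simp [hφ, mul_assoc]), fun b => (hφ b).symm, ?_⟩
  have h1 : ∀ k b, D.ι (φ^[k] b) = n ^ k * D.ι b * (n ^ k)⁻¹ := fun k => by
    induction k with
    | zero => simp
    | succ k ih => intro b; rw [Function.iterate_succ_apply', hφ, ih, pow_succ']; group
  have h2 : zpowers (n ^ D.e) ≤ D.syl := by
    rw [← IsPGroup.sylow_mem_fixedPoints_iff (pg9 (D.pe9 n))]
    rintro ⟨_, j, rfl⟩
    exact Sylow.smul_eq_iff_mem_normalizer.2 (zpow_mem (pow_mem hn _) j)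
  obtain ⟨c, hc⟩ := h2 (mem_zpowers _)
  funext b
  refine D.inj ((h1 _ b).trans ?_)
  rw [← hc, ← map_mul, mul_comm, map_mul, mul_inv_cancel_right, id]

theorem no_fix [IsSimpleGroup G] (hG : ¬ IsMulCommutative G) {b : B} (hb : b ≠ 1) :
    ∃ b', IsConj (D.ι b) (D.ι b') ∧ b' ≠ b := by
  by_contra hn
  push Not at hn
  let ϕ : D.ι.range →* B := (D.ι.ofInjective D.inj).symm.toMonoidHom
  have h1 := MonoidHom.transfer_eq_pow ϕ (D.ι b) fun k g ⟨c, hc⟩ => by
    obtain ⟨n, n1, n2⟩ := D.fusion (b := b ^ k) (b' := c)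
      (isConj_iff.2 ⟨g⁻¹, by rw [hc, map_pow, inv_inv]⟩)
    obtain ⟨φ, h1, -⟩ := D.exists_aut n1
    rw [← hc, ← n2, h1, map_pow, hn (φ b) (isConj_iff.2 ⟨n, h1 b⟩), map_pow]
  rcases (MonoidHom.transfer ϕ).normal_ker.eq_bot_or_eq_top with e | e
  · have := (MonoidHom.ker_eq_bot_iff _).1 e
    exact hG ⟨⟨fun x y => this (by rw [map_mul, map_mul, mul_comm])⟩⟩
  · have h2 : MonoidHom.transfer ϕ (D.ι b) = 1 := (e ▸ mem_top _ : _ ∈ (MonoidHom.transfer ϕ).ker)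
    rw [h1, map_eq_one_iff ϕ (D.ι.ofInjective D.inj).symm.injective, Subtype.ext_iff] at h2
    refine hb (D.inj (mem_bot.1 (mem_of_pow_mem (a := 9) (b := D.ι.range.index) ?_
      (mem_bot.2 (D.i9 b)) (mem_bot.2 h2)) |>.trans (map_one _).symm))
    exact ((Nat.Prime.coprime_iff_not_dvd Nat.prime_three).2 D.syl.not_dvd_index).pow_left 2

/-- the section map -/
noncomputable def κ (g : G) : B := (D.exists_sec g).choose

theorem κ_spec (g : G) : IsConj (g ^ D.e) (D.ι (D.κ g)) := (D.exists_sec g).choose_spec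

theorem κ_reg {g : G} (h : (orderOf g).Coprime 3) : D.κ g = 1 := by
  have := D.κ_spec g
  rwa [D.pe_cop h, isConj_one_right, map_eq_one_iff _ D.inj] at this

open Classical in
theorem N_sum [Fintype G] (x : G) : ∑ g, (if IsConj x (g ^ D.e) then (1 : ℂ) else 0) = D.N x := by
  simp [N, Fintype.card_subtype]

theorem pm_of (h : ∀ b b', IsConj (D.ι b) (D.ι b') → b' ∈ zpowers b → b' = b ∨ b' = b⁻¹) (c y : G)
    (hc : c ^ 9 = 1) (hy : y * c * y⁻¹ ∈ zpowers c) : y * c * y⁻¹ = c ∨ y * c * y⁻¹ = c⁻¹ := by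
  obtain ⟨g, hg⟩ := D.conj3 (pg9 hc)
  obtain ⟨b, hb⟩ := hg c (mem_zpowers c)
  obtain ⟨j, hj⟩ := hy
  simp only at hj
  have e : D.ι (b ^ j) = g * (y * c * y⁻¹) * g⁻¹ := by rw [map_zpow, hb, conj_zpow, hj]
  rcases h b (b ^ j) (isConj_iff.2 ⟨g * y * g⁻¹, by rw [e, hb]; group⟩) ⟨j, rfl⟩ with e1 | e1
  · left
    rw [e1, hb] at e
    simpa using e.symm
  · right
    rw [e1, map_inv, hb, conj_inv] at e
    exact (mul_left_cancel (mul_right_cancel e)).symm

end Set3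

end Cfsg.Agent.H3.NQ
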