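import Cfsg.Agent.H3.NC

/-! Integer coordinates of generalized characters and small-norm analysis. -/

set_option autoImplicit false
set_option linter.unusedSectionVars false

namespace Cfsg.Agent.H3.NQ

open Cfsg Cfsg.Agent.H1 Subgroup Matrix
open scoped ComplexConjugate

section Vec
variable {ι : Type*} [Fintype ι] [DecidableEq ι]

theorem dot_nonneg (v : ι → ℤ) : 0 ≤ v ⬝ᵥ v := Finset.sum_nonneg fun _ _ => mul_self_nonneg _

theorem sq_le (v : ι → ℤ) (s : Finset ι) : ∑ i ∈ s, v i * v i ≤ v ⬝ᵥ v :=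
  Finset.sum_le_univ_sum_of_nonneg fun _ => mul_self_nonneg _

theorem sq_le2 (v : ι → ℤ) {i j : ι} (h : i ≠ j) : v i * v i + v j * v j ≤ v ⬝ᵥ v := by
  simpa [h] using sq_le v {i, j}

theorem sq_le3 (v : ι → ℤ) {i j k : ι} (h : i ≠ j) (h1 : i ≠ k) (h2 : j ≠ k) :
    v i * v i + v j * v j + v k * v k ≤ v ⬝ᵥ v := by
  simpa [h, h1, h2, add_assoc] using sq_le v {i, j, k}

theorem norm3 {v d : ι → ℤ} {t : ι} (hd : ∀ i, i ≠ t → 2 ≤ d i) (ht : d t = 1) (h1 : v t = 1)
    (h3 : v ⬝ᵥ v = 3) (h0 : v ⬝ᵥ d = 0) : ∃ a b, a ≠ t ∧ b ≠ t ∧ a ≠ b ∧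
      v = Pi.single t 1 + Pi.single a 1 - Pi.single b 1 := by
  have e : v ⬝ᵥ d = 1 + ∑ i ∈ Finset.univ.erase t, v i * d i := by
    rw [dotProduct, ← Finset.add_sum_erase _ _ (Finset.mem_univ t), h1, ht, one_mul]
  obtain ⟨b, b1, b2⟩ : ∃ b, b ≠ t ∧ v b < 0 := by
    by_contra hn
    push Not at hn
    have : 0 ≤ ∑ i ∈ Finset.univ.erase t, v i * d i := Finset.sum_nonneg fun i hi =>
      mul_nonneg (hn i (Finset.ne_of_mem_erase hi)) (by linarith [hd i (Finset.ne_of_mem_erase hi)])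
    omega
  obtain ⟨a, a1, a2⟩ : ∃ a, a ≠ t ∧ 0 < v a := by
    by_contra hn
    push Not at hn
    rw [← Finset.add_sum_erase _ _ (Finset.mem_erase.2 ⟨b1, Finset.mem_univ b⟩)] at e
    have : ∑ i ∈ (Finset.univ.erase t).erase b, v i * d i ≤ 0 := Finset.sum_nonpos fun i hi =>
      have := Finset.ne_of_mem_erase (Finset.mem_of_mem_erase hi)
      mul_nonpos_of_nonpos_of_nonneg (hn i this) (by linarith [hd i this])
    nlinarith [hd b b1]
  have ab : a ≠ b := fun e => by rw [e] at a2; omega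
  refine ⟨a, b, a1, b1, ab, sub_eq_zero.1 (dotProduct_self_eq_zero.1 (le_antisymm ?_ (dot_nonneg _)))⟩
  simp only [sub_dotProduct, dotProduct_sub, add_dotProduct, dotProduct_add, single_dotProduct,
    dotProduct_single, h3, h1, Pi.single_apply, Pi.sub_apply, Pi.add_apply]
  simp [a1, b1, ab, a1.symm, b1.symm, ab.symm]
  omega

theorem exists_odd {v d : ι → ℤ} {t : ι} (ht : d t = 1) (h1 : v t = 1) (h0 : v ⬝ᵥ d = 0) :
    ∃ a, a ≠ t ∧ Odd (v a) ∧ Odd (d a) := by
  by_contra hn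
  push Not at hn
  rw [dotProduct, ← Finset.add_sum_erase _ _ (Finset.mem_univ t), h1, ht, one_mul] at h0
  have : Even (∑ i ∈ Finset.univ.erase t, v i * d i) := Finset.even_sum _ fun i hi => by
    rw [← Int.not_odd_iff_even, Int.odd_mul, not_and]
    exact hn i (Finset.ne_of_mem_erase hi)
  obtain ⟨k, hk⟩ := this
  omega

theorem coh4 (P : Fin 4 → ι → ℤ) {t a : ι} (ht : ∀ i, P i t = 1)
    (h : ∀ i j, P i ⬝ᵥ P j = if i = j then 3 else 2) (ha : a ≠ t) (h3 : P 3 a ≠ 0) :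
    ¬ 3 ∣ P 0 a + P 1 a + P 2 a - 2 * P 3 a := by
  have b : ∀ i, -1 ≤ P i a ∧ P i a ≤ 1 := fun i => by
    have := sq_le2 (P i) ha
    rw [ht, h, if_pos rfl] at this
    constructor <;> nlinarith
  set M := P 0 a + P 1 a + P 2 a + P 3 a with hM
  have := dot_nonneg ((M - 5 * P 0 a) • P 0 + (M - 5 * P 1 a) • P 1 + (M - 5 * P 2 a) • P 2 +
    (M - 5 * P 3 a) • P 3 + Pi.single t M + Pi.single a 5)
  simp only [add_dotProduct, dotProduct_add, single_dotProduct, smul_dotProduct, dotProduct_smul,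
    dotProduct_single, h, ht, Pi.single_apply, Pi.add_apply, Pi.smul_apply, smul_eq_mul] at this
  simp only [ha, ha.symm, if_true, if_false, hM, Fin.isValue, Fin.reduceEq] at this
  obtain ⟨a0, b0⟩ := b 0
  obtain ⟨a1, b1⟩ := b 1
  obtain ⟨a2, b2⟩ := b 2
  obtain ⟨a3, b3⟩ := b 3
  revert this h3
  generalize P 0 a = x0 at *
  generalize P 1 a = x1 at *
  generalize P 2 a = x2 at *
  generalize P 3 a = x3 at *
  interval_cases x0 <;> interval_cases x1 <;> interval_cases x2 <;> interval_cases x3 <;> decide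

theorem coh2 {w d : ι → ℤ} {t a b a' b' : ι} (ht : d t = 1) (h1 : w t = 1) (h0 : w ⬝ᵥ d = 0)
    (h9 : w ⬝ᵥ w = 9) (e1 : w a - w b = 2) (e2 : w a' - w b' = 2) (n1 : a ≠ t) (n2 : b ≠ t)
    (n3 : a' ≠ t) (n4 : b' ≠ t) (n5 : a ≠ a') (n6 : b ≠ b') :
    (¬ 3 ∣ w a ∧ ¬ 3 ∣ w b) ∨ (¬ 3 ∣ w a' ∧ ¬ 3 ∣ w b') := by
  have k : ∀ x, x ≠ t → -2 ≤ w x ∧ w x ≤ 2 := fun x hx => by
    have := sq_le2 w hx
    rw [h1, h9] at this
    constructor <;> nlinarith
  obtain ⟨c, c1, ⟨c2, c3⟩, -⟩ := exists_odd ht h1 h0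
  have k2 : ∀ x y, x ≠ t → y ≠ t → x ≠ y → w x * w x = 4 → w y * w y = 4 → False :=
    fun x y hx hy hxy e e' => by
      have cx : c ≠ x := fun e0 => by
        rw [← e0, c3] at e
        have : 4 * (c2 * c2 + c2) + 1 = 4 := by linarith
        omega
      have cy : c ≠ y := fun e0 => by
        rw [← e0, c3] at e'
        have : 4 * (c2 * c2 + c2) + 1 = 4 := by linarith
        omega
      have := sq_le w {t, c, x, y}
      simp only [Finset.mem_insert, Finset.mem_singleton, c1.symm, hx.symm, hy.symm, cx, cy, hxy,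
        or_self, not_false_eq_true, Finset.sum_insert, Finset.sum_singleton, h1, h9, e, e'] at this
      have : 1 ≤ w c * w c := by
        have : w c ≠ 0 := by omega
        nlinarith [mul_self_pos.2 this]
      omega
  by_contra hn
  have f1 : w a = 2 ∨ w b = -2 := by have := k a n1; have := k b n2; omega
  have f2 : w a' = 2 ∨ w b' = -2 := by have := k a' n3; have := k b' n4; omega
  rcases f1 with f1 | f1 <;> rcases f2 with f2 | f2
  · exact k2 a a' n1 n3 n5 (by simp [f1]) (by simp [f2])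
  · exact k2 a b' n1 n4 (fun e => by rw [e] at f1; omega) (by simp [f1]) (by simp [f2])
  · exact k2 b a' n2 n3 (fun e => by rw [e] at f1; omega) (by simp [f1]) (by simp [f2])
  · exact k2 b b' n2 n4 n6 (by simp [f1]) (by simp [f2])

end Vec

variable {G : Type*} [Group G] [Fintype G]

/-- the generalized character with given coordinates -/
noncomputable def ev (m : IrrCharacter G → ℤ) : G → ℂ := fun g => ∑ χ, (m χ : ℂ) * χ.1 g

theorem exists_ev {p : G → ℂ} (h : IsGeneralizedCharacter G p) : ∃ m, ev m = p := by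
  obtain ⟨m, -, e, -⟩ := IsGeneralizedCharacter.exists_coords h
  exact ⟨m, e ▸ funext fun g => by simp [ev]⟩

theorem ev_eq (m : IrrCharacter G → ℤ) : ev m = ∑ χ, (m χ : ℂ) • χ.1 :=
  funext fun g => by simp [ev]

theorem ip_irr (m : IrrCharacter G → ℤ) (χ : IrrCharacter G) : classInner (ev m) χ.1 = m χ := by
  classical
  simp [ev_eq, classInner_sum_left, classInner_smul_left,
    fun ψ : IrrCharacter G => IsIrrCharacter.classInner_eq ψ.2 χ.2, Subtype.val_inj]

theorem ip_ev (m n : IrrCharacter G → ℤ) : classInner (ev m) (ev n) = (m ⬝ᵥ n : ℤ) := by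
  rw [ev_eq n]
  simp [classInner_sum_right, classInner_smul_right, ip_irr, dotProduct, mul_comm]

/-- the principal character -/
def tr1 (G : Type*) [Group G] : IrrCharacter G := ⟨fun _ => 1, isIrrCharacter_one⟩

/-- the degree -/
noncomputable def dg (χ : IrrCharacter G) : ℕ := (IsIrrCharacter.exists_one_eq χ.2).choose

theorem dg_eq (χ : IrrCharacter G) : χ.1 1 = dg χ := (IsIrrCharacter.exists_one_eq χ.2).choose_spec.2

theorem dg_pos (χ : IrrCharacter G) : 0 < dg χ := (IsIrrCharacter.exists_one_eq χ.2).choose_spec.1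

theorem dg_tr1 : dg (tr1 G) = 1 := by
  have : (1 : ℂ) = dg (tr1 G) := dg_eq (tr1 G)
  exact_mod_cast this.symm

theorem np {χ : IrrCharacter G} (h : χ ≠ tr1 G) : NP χ.1 := ⟨χ.2, fun e => h (Subtype.ext e)⟩

theorem dg_two [IsSimpleGroup G] (hG : ¬ IsMulCommutative G) (χ : IrrCharacter G) (h : χ ≠ tr1 G) :
    (2 : ℤ) ≤ dg χ := by
  have h1 := (np h).deg_ne_one hG
  have h2 := dg_pos χ
  rw [dg_eq] at h1
  have : dg χ ≠ 1 := fun e => h1 (by simp [e])
  omega

theorem ev_one (m : IrrCharacter G → ℤ) : ev m 1 = (m ⬝ᵥ (fun χ => (dg χ : ℤ)) : ℤ) := by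
  simp [ev, dg_eq, dotProduct]

theorem dot_dg {m : IrrCharacter G → ℤ} (h : ev m 1 = 0) : m ⬝ᵥ (fun χ => (dg χ : ℤ)) = 0 := by
  rw [ev_one] at h
  exact_mod_cast h

theorem ev_row [DecidableEq (IrrCharacter G)] (t a b : IrrCharacter G) (g : G) :
    ev (Pi.single t 1 + Pi.single a 1 - Pi.single b 1) g = t.1 g + a.1 g - b.1 g := by
  simp [ev, Pi.single_apply, add_mul, sub_mul, Finset.sum_add_distrib, Finset.sum_sub_distrib]

theorem deg3 {n : IrrCharacter G → ℤ} {c : G → ℂ} (h : ∀ g, ev n g = 9 * c g)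
    (hc : ∀ g, c g = 0 ∨ c g = 1) {m : ℕ} (hm : Nat.card G = 9 * m) (h3 : m.Coprime 3)
    {a : IrrCharacter G} (ha : ¬ 3 ∣ n a) : ¬ 3 ∣ dg a := fun e => by
  have c1 : IsClassFunction G c := fun g x => by
    have : ev n (x * g * x⁻¹) = ev n g := Finset.sum_congr rfl fun χ _ => by
      rw [IsCharacter.isClassFunction (IsIrrCharacter.isCharacter χ.2)]
    simpa [h] using this
  have c2 := om_int a.2 c1 fun g => by rcases hc g with e | e <;> simp [e, isIntegral_zero, isIntegral_one]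
  have c3 := congrArg conj (ip_irr n a)
  rw [classInner_conj, classInner, inv_mul_eq_iff_eq_mul₀ card_ne_zero', hm] at c3
  have c4 : ∑ g, c g * a.1 g = ((m * n a : ℤ) : ℂ) := by
    refine mul_left_cancel₀ (show (9 : ℂ) ≠ 0 by norm_num) ?_
    rw [Finset.mul_sum, Finset.sum_congr rfl fun g _ => show 9 * (c g * a.1 g) =
      a.1 g * conj (ev n g) by rcases hc g with e | e <;> simp [h, e, mul_comm, map_ofNat], c3]
    simp [mul_assoc]
  rw [c4, dg_eq] at c2
  have c5 := H2.dvd_of_isIntegral (k := dg a) (by exact_mod_cast (dg_pos a).ne') c2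
  exact ha ((Nat.isCoprime_iff_coprime.2 h3.symm).dvd_of_dvd_mul_left
    ((Int.natCast_dvd_natCast.2 e).trans c5))

end Cfsg.Agent.H3.NQ
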