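import Cfsg.Agent.H3.ND

/-! The row `1 + χ - ψ` of the principal 3-block. -/

set_option autoImplicit false
set_option linter.unusedSectionVars false

namespace Cfsg.Agent.H3.NQ

open Cfsg Cfsg.Agent.H1 Subgroup Matrix
open scoped ComplexConjugate

/-- two nonprincipal characters of degree prime to 3 differing by one on 3-regular elements -/
def Row (G : Type*) [Group G] [Fintype G] : Prop :=
  ∃ χ ψ : IrrCharacter G, χ ≠ tr1 G ∧ ψ ≠ tr1 G ∧ ¬ 3 ∣ dg χ ∧ ¬ 3 ∣ dg ψ ∧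
    ∀ g, (orderOf g).Coprime 3 → ψ.1 g = χ.1 g + 1

variable {G : Type*} [Group G] [Fintype G] [IsSimpleGroup G]

theorem co_tr1 {v : IrrCharacter G → ℤ} (h : ∑ g, ev v g = Nat.card G) : v (tr1 G) = 1 := by
  have := ip_irr v (tr1 G)
  simp only [classInner, tr1, map_one, mul_one, h, inv_mul_cancel₀ card_ne_zero'] at this
  exact_mod_cast this.symm

theorem co_dot {v w : IrrCharacter G → ℤ} (hw : ∀ g, conj (ev w g) = ev w g) {n : ℤ}
    (h : ∑ g, ev v g * ev w g = n * Nat.card G) : v ⬝ᵥ w = n := by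
  have := ip_ev v w
  simp only [classInner, hw, h] at this
  rw [mul_comm, mul_inv_cancel_right₀ card_ne_zero'] at this
  exact_mod_cast this.symm

/-- the standard character on `ZMod 9` -/
noncomputable def c9 : ZMod 9 → ℂ := ZMod.stdAddChar

theorem c9_add (a b : ZMod 9) : c9 (a + b) = c9 a * c9 b := AddChar.map_add_eq_mul _ a b

theorem c9_zero : c9 0 = 1 := AddChar.map_zero_eq_one _

theorem c9_eq_one {a : ZMod 9} (h : c9 a = 1) : a = 0 :=
  ZMod.injective_stdAddChar (h.trans c9_zero.symm)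

theorem c9_tab (k : ZMod 9) : c9 k + c9 (-k) = (![2, 0, 0, -1, 0, 0, -1, 0, 0] k : ℤ) +
    (![0, 1, 0, 0, -1, -1, 0, 0, 1] k : ℤ) * (c9 1 + c9 8) +
    (![0, 0, 1, 0, -1, -1, 0, 1, 0] k : ℤ) * (c9 2 + c9 7) := by
  have h : ∀ k : ZMod 9, c9 k = c9 1 ^ k.val := fun k => by
    rw [c9, ← AddChar.map_nsmul_eq_pow]
    simp
  have h9 : c9 1 ^ 9 = 1 := by rw [c9, ← AddChar.map_nsmul_eq_pow]; exact c9_zero
  have h3 : c9 1 ^ 3 ≠ 1 := fun e => by
    rw [c9, ← AddChar.map_nsmul_eq_pow] at e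
    exact absurd (c9_eq_one e) (by decide)
  have h6 : c9 1 ^ 6 + c9 1 ^ 3 + 1 = 0 :=
    mul_left_cancel₀ (sub_ne_zero.2 h3) (by linear_combination h9)
  rw [h k, h (-k), h 8, h 2, h 7, show (8 : ZMod 9).val = 8 from rfl,
    show (2 : ZMod 9).val = 2 from rfl, show (7 : ZMod 9).val = 7 from rfl]
  fin_cases k
  · change c9 1 ^ 0 + c9 1 ^ 0 = (2 : ℤ) + (0 : ℤ) * _ + (0 : ℤ) * _; push_cast; ring
  · change c9 1 ^ 1 + c9 1 ^ 8 = (0 : ℤ) + (1 : ℤ) * _ + (0 : ℤ) * _; push_cast; ring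
  · change c9 1 ^ 2 + c9 1 ^ 7 = (0 : ℤ) + (0 : ℤ) * _ + (1 : ℤ) * _; push_cast; ring
  · change c9 1 ^ 3 + c9 1 ^ 6 = (-1 : ℤ) + (0 : ℤ) * _ + (0 : ℤ) * _; push_cast
    linear_combination h6
  · change c9 1 ^ 4 + c9 1 ^ 5 = (0 : ℤ) + (-1 : ℤ) * _ + (-1 : ℤ) * _; push_cast
    linear_combination (c9 1 + c9 1 ^ 2) * h6
  · change c9 1 ^ 5 + c9 1 ^ 4 = (0 : ℤ) + (-1 : ℤ) * _ + (-1 : ℤ) * _; push_cast
    linear_combination (c9 1 + c9 1 ^ 2) * h6
  · change c9 1 ^ 6 + c9 1 ^ 3 = (-1 : ℤ) + (0 : ℤ) * _ + (0 : ℤ) * _; push_cast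
    linear_combination h6
  · change c9 1 ^ 7 + c9 1 ^ 2 = (0 : ℤ) + (0 : ℤ) * _ + (1 : ℤ) * _; push_cast; ring
  · change c9 1 ^ 8 + c9 1 ^ 1 = (0 : ℤ) + (1 : ℤ) * _ + (0 : ℤ) * _; push_cast; ring

/-- the integer table -/
def tb (k : ZMod 9) : ℤ × ℤ × ℤ := (![2, 0, 0, -1, 0, 0, -1, 0, 0] k,
  ![0, 1, 0, 0, -1, -1, 0, 0, 1] k, ![0, 0, 1, 0, -1, -1, 0, 1, 0] k)

variable {A : Type} [AddCommGroup A] [Fintype A] [DecidableEq A]

/-- linear character -/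
noncomputable def lc (f : A →+ ZMod 9) : Multiplicative A →* ℂ :=
  (ZMod.stdAddChar (N := 9)).toMonoidHom.comp f.toMultiplicative

theorem lc_apply (f : A →+ ZMod 9) (b : Multiplicative A) : lc f b = c9 (f b.toAdd) := rfl

theorem sum_c9 {f : A →+ ZMod 9} (h : ∃ a, f a ≠ 0) :
    ∑ b : Multiplicative A, c9 (f b.toAdd) = 0 := by
  obtain ⟨a, ha⟩ := h
  exact sum_hom_units_eq_zero (lc f) fun e =>
    ha (c9_eq_one (DFunLike.congr_fun e (Multiplicative.ofAdd a)))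

theorem gen_lc (f : A →+ ZMod 9) : IsGeneralizedCharacter _ (fun b => 1 - lc f b) :=
  IsGeneralizedCharacter.sub (IsCharacter.isGeneralized isCharacter_one)
    (IsCharacter.isGeneralized (isCharacter_hom (lc f)))

theorem conj_c9 (a : ZMod 9) : conj (c9 a) = c9 (-a) := by
  exact (hom_inv_eq_conj (lc (AddMonoidHom.id (ZMod 9))) (Multiplicative.ofAdd a)).symm

theorem row_of (hG : ¬ IsMulCommutative G) {v : IrrCharacter G → ℤ} (h1 : v (tr1 G) = 1)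
    (h3 : v ⬝ᵥ v = 3) (h0 : ∀ g, (orderOf g).Coprime 3 → ev v g = 0)
    [DecidableEq (IrrCharacter G)] : ∃ a b, a ≠ tr1 G ∧ b ≠ tr1 G ∧ a ≠ b ∧
      v = Pi.single (tr1 G) 1 + Pi.single a 1 - Pi.single b 1 ∧
      (¬ 3 ∣ dg a → ¬ 3 ∣ dg b → Row G) := by
  obtain ⟨a, b, a1, a2, a3, a4⟩ := norm3 (dg_two hG) (by simp [dg_tr1]) h1 h3
    (dot_dg (h0 1 (by simp)))
  refine ⟨a, b, a1, a2, a3, a4, fun b1 b2 => ⟨a, b, a1, a2, b1, b2, fun g hg => ?_⟩⟩
  have := h0 g hg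
  rw [a4, ev_row] at this
  change 1 + _ - _ = _ at this
  linear_combination -this

theorem row_S1 (hG : ¬ IsMulCommutative G) (D : Set3 G (Multiplicative A))
    (fus : ∀ b b', IsConj (D.ι b) (D.ι b') ↔ b' = b ∨ b' = b⁻¹) (f : Fin 4 → A →+ ZMod 9)
    (h1 : ∀ i, ∃ a, f i a ≠ 0) (h2 : ∀ i j, ∃ a, f i a + f j a ≠ 0)
    (h3 : ∀ i j, i ≠ j → ∃ a, f i a - f j a ≠ 0)
    (h4 : ∀ a, tb (f 0 a) + tb (f 1 a) + tb (f 2 a) = tb (f 3 a) + tb (f 3 a) + (2, 0, 0) ∨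
      tb (f 0 a) + tb (f 1 a) + tb (f 2 a) = tb (f 3 a) + tb (f 3 a) + (-7, 0, 0)) : Row G := by
  classical
  have sq : ∀ b : Multiplicative A, b = b⁻¹ → b = 1 := fun b e => mem_bot.1
    (mem_of_pow_mem (show Nat.Coprime 2 9 by norm_num)
      (mem_bot.2 (by rw [pow_two]; exact mul_eq_one_iff_eq_inv.2 e)) (mem_bot.2 (D.b9 b)))
  have hN : ∀ b, b ≠ 1 → 9 * D.N (D.ι b) = Nat.card G := fun b hb => D.nine_N b fun n hn e b' => by
    obtain ⟨φ, hφ, -⟩ := D.exists_aut hn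
    have e1 : φ b = b := D.inj (by rw [← hφ, e.eq, mul_inv_cancel_right])
    have e2 : φ b' = b' := by
      rcases (fus _ _).1 (isConj_iff.2 ⟨n, hφ b'⟩) with e2 | e2
      · exact e2
      rcases (fus _ _).1 (isConj_iff.2 ⟨n, hφ (b * b')⟩) with e3 | e3 <;> rw [map_mul, e1, e2] at e3
      · rw [e2, mul_left_cancel e3]
      · exact absurd (sq b (mul_right_cancel (e3.trans (mul_inv _ _)))) hb
    exact mul_inv_eq_iff_eq_mul.1 ((hφ b').trans (congrArg _ e2))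
  have hS : ∀ F : Multiplicative A → ℂ, F 1 = 0 → (∀ b, F b⁻¹ = F b) → ∀ n : ℂ,
      ∑ b, F b = 18 * n → ∑ g, F (D.κ g) = n * Nat.card G := fun F F1 F2 n hn => by
    have e1 : ∀ g, 2 * F (D.κ g) = ∑ b, F b * if IsConj (D.ι b) (g ^ D.e) then 1 else 0 := fun g => by
      have : ∀ b, IsConj (D.ι b) (g ^ D.e) ↔ b = D.κ g ∨ b = (D.κ g)⁻¹ := fun b => by
        rw [← fus]
        exact ⟨fun e => (e.trans (D.κ_spec g)).symm, fun e => ((D.κ_spec g).trans e).symm⟩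
      simp only [this]
      by_cases e : D.κ g = 1
      · simp [e, F1]
      rw [← Finset.sum_subset (Finset.subset_univ {D.κ g, (D.κ g)⁻¹}) (by simp +contextual),
        Finset.sum_pair fun e1 => e (sq _ e1)]
      simp [F2, two_mul]
    have e2 : ∀ b, F b * (D.N (D.ι b) : ℂ) = F b * (Nat.card G / 9) := fun b => by
      by_cases e : b = 1
      · simp [e, F1]
      · rw [← hN b e]; push_cast; ring
    refine mul_left_cancel₀ (two_ne_zero) ?_
    rw [Finset.mul_sum, Finset.sum_congr rfl fun g _ => e1 g, Finset.sum_comm]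
    simp only [← Finset.mul_sum, D.N_sum, e2, ← Finset.sum_mul, hn]
    ring
  let α : Fin 4 → Multiplicative A → ℂ := fun i b => 2 - c9 (f i b.toAdd) - c9 (-f i b.toAdd)
  have α1 : ∀ i, α i 1 = 0 := fun i => by simp [α, c9_zero]; norm_num
  have α2 : ∀ i b, α i b⁻¹ = α i b := fun i b => by simp [α]; ring
  have α3 : ∀ i b, conj (α i b) = α i b := fun i b => by
    simp [α, conj_c9, map_ofNat]; ring
  have gen : ∀ i, IsGeneralizedCharacter G fun g => α i (D.κ g) := fun i =>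
    D.gen_tau (D.pm_of fun b b' e _ => (fus b b').1 e) (gen_lc (f i)) (by simp) fun g b e => by
      have : α i b = 1 - lc (f i) b + (1 - lc (f i) b⁻¹) := by simp [α, lc_apply]; ring
      rw [← this]
      rcases (fus _ _).1 (e.symm.trans (D.κ_spec g)) with e1 | e1 <;> simp only [e1, α2]
  choose P hP using fun i => exists_ev (gen i)
  have cA : ∑ _b : Multiplicative A, (1 : ℂ) = 9 := by
    simp [← Nat.card_eq_fintype_card, D.cardB]
  have s1 : ∀ i, ∑ b : Multiplicative A, c9 (f i b.toAdd) = 0 := fun i => sum_c9 (h1 i)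
  have s2 : ∀ i, ∑ b : Multiplicative A, c9 (-f i b.toAdd) = 0 := fun i =>
    sum_c9 (f := -f i) (by simpa using h1 i)
  have t1 : ∀ i, P i (tr1 G) = 1 := fun i => co_tr1 (by
    rw [hP, hS _ (α1 i) (α2 i) 1, one_mul]
    simp only [α, Finset.sum_sub_distrib, s1, s2]
    simp [← Nat.card_eq_fintype_card, D.cardB]
    norm_num)
  have t2 : ∀ i j, P i ⬝ᵥ P j = if i = j then 3 else 2 := fun i j => by
    refine co_dot (by simp [hP, α3]) ?_
    simp only [hP]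
    refine hS (fun b => α i b * α j b) (by simp [α1]) (by simp [α2]) _ ?_
    have : ∀ b, α i b * α j b = 4 * 1 - 2 * c9 (f i b.toAdd) - 2 * c9 (-f i b.toAdd) -
        2 * c9 (f j b.toAdd) - 2 * c9 (-f j b.toAdd) + c9 ((f i + f j) b.toAdd) +
        c9 ((-(f i + f j)) b.toAdd) + c9 ((f i - f j) b.toAdd) + c9 ((f j - f i) b.toAdd) := fun b => by
      simp only [α, AddMonoidHom.add_apply, AddMonoidHom.neg_apply, AddMonoidHom.sub_apply,
        neg_add, sub_eq_add_neg, c9_add]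
      ring
    simp only [this, Finset.sum_add_distrib, Finset.sum_sub_distrib, ← Finset.mul_sum, cA, s1, s2,
      sum_c9 (f := f i + f j) (h2 i j), sum_c9 (f := -(f i + f j))
        ((h2 i j).imp fun a ha => neg_ne_zero.2 ha)]
    split_ifs with e
    · simp [e, c9_zero, ← Nat.card_eq_fintype_card, D.cardB]
      norm_num
    · rw [sum_c9 (f := f i - f j) (h3 i j e), sum_c9 (f := f j - f i) (h3 j i (Ne.symm e))]
      norm_num
  have t3 : ∀ a, a ≠ tr1 G → P 3 a ≠ 0 → ¬ 3 ∣ dg a := fun a ha e => by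
    refine deg3 (n := P 0 + P 1 + P 2 - 2 • P 3)
      (c := fun g => (α 0 (D.κ g) + α 1 (D.κ g) + α 2 (D.κ g) - 2 * α 3 (D.κ g)) / 9)
      (fun g => ?_) (fun g => ?_) D.card D.cop (by simpa using coh4 P t1 t2 ha e)
    · have := fun i => congrFun (hP i) g
      simp only [← this, ev, Pi.add_apply, Pi.sub_apply, Pi.smul_apply, Finset.mul_sum,
        ← Finset.sum_add_distrib, ← Finset.sum_sub_distrib, mul_div_cancel₀ _ (show (9 : ℂ) ≠ 0 by norm_num)]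
      exact Finset.sum_congr rfl fun _ _ => by simp; ring
    · simp only [α, sub_sub, c9_tab]
      rcases h4 (D.κ g).toAdd with e | e <;>
        simp only [tb, Prod.ext_iff, Prod.fst_add, Prod.snd_add] at e <;> obtain ⟨e1, e2, e3⟩ := e <;>
        replace e1 := congrArg (Int.cast (R := ℂ)) e1 <;>
        replace e2 := congrArg (Int.cast (R := ℂ)) e2 <;>
        replace e3 := congrArg (Int.cast (R := ℂ)) e3 <;> push_cast at e1 e2 e3
      · left; linear_combination (-e1 - (c9 1 + c9 8) * e2 - (c9 2 + c9 7) * e3) / 9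
      · right; linear_combination (-e1 - (c9 1 + c9 8) * e2 - (c9 2 + c9 7) * e3) / 9
  obtain ⟨a, b, a1, a2, a3, a4, a5⟩ := row_of hG (t1 3) (by simp [t2]) fun g hg => by
    simp only [hP, D.κ_reg hg, α1]
  exact a5 (t3 a a1 (by simp [a4, a1, a3])) (t3 b a2 (by simp [a4, a2, a3.symm]))

/-- linear forms on `F₃²` with values in `ZMod 9` -/
def f3 (i j : ZMod 3) : ZMod 3 × ZMod 3 →+ ZMod 9 :=
  AddMonoidHom.mk' (fun z => 3 * ((i * z.1 + j * z.2).val : ZMod 9)) (by revert i j; decide)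

theorem lc_f3 (i j : ZMod 3) (b : Multiplicative (ZMod 3 × ZMod 3)) :
    1 - lc (f3 i j) b + (1 - lc (f3 i j) b⁻¹) =
      ((if i * b.toAdd.1 + j * b.toAdd.2 = 0 then 0 else 3 : ℤ) : ℂ) := by
  have : ∀ z : ZMod 3 × ZMod 3, tb (f3 i j z) = (2 - if i * z.1 + j * z.2 = 0 then 0 else 3, 0, 0) := by
    revert i j; decide
  have h := c9_tab (f3 i j b.toAdd)
  have := this b.toAdd
  simp only [tb, Prod.ext_iff] at this
  rw [this.1, this.2.1, this.2.2] at h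
  simp only [lc_apply, toAdd_inv, map_neg]
  push_cast at h ⊢
  linear_combination -h

/-- value tables -/
def Fl (i j : ZMod 3) (z : ZMod 3 × ZMod 3) : ℤ := if i * z.1 + j * z.2 = 0 then 0 else 3

/-- value tables -/
def Fw (z : ZMod 3 × ZMod 3) : ℤ := if z.1 ≠ 0 ∧ z.2 ≠ 0 then 1 else 0

theorem aux_S2 : ∀ u v : ZMod 3 × ZMod 3, u + v = (1, 1) → (u.1 ^ 2 = 1 ^ 2 ∧ u.2 ^ 2 = 0 ^ 2) →
    (v.1 ^ 2 = 0 ^ 2 ∧ v.2 ^ 2 = 1 ^ 2) → u = (1, 0) ∧ v = (0, 1) := by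
  rintro ⟨a, b⟩ ⟨c, d⟩ h
  revert a b c d
  decide

theorem row_S2 (hG : ¬ IsMulCommutative G) (D : Set3 G (Multiplicative (ZMod 3 × ZMod 3)))
    (fus : ∀ b b', IsConj (D.ι b) (D.ι b') ↔
      b'.toAdd.1 ^ 2 = b.toAdd.1 ^ 2 ∧ b'.toAdd.2 ^ 2 = b.toAdd.2 ^ 2) : Row G := by
  classical
  let x : ZMod 3 × ZMod 3 → G := fun z => D.ι (Multiplicative.ofAdd z)
  have hN : 9 * D.N (x (1, 1)) = Nat.card G := D.nine_N _ fun n hn e b' => by
    obtain ⟨φ, hφ, -⟩ := D.exists_aut hn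
    have e1 : φ (.ofAdd (1, 0) * .ofAdd (0, 1)) = .ofAdd (1, 1) :=
      D.inj (by rw [← hφ]; exact mul_inv_eq_iff_eq_mul.2 e)
    have e2 := (fus _ _).1 (isConj_iff.2 ⟨n, hφ (.ofAdd (1, 0))⟩)
    have e3 := (fus _ _).1 (isConj_iff.2 ⟨n, hφ (.ofAdd (0, 1))⟩)
    rw [map_mul] at e1
    have e4 : φ (.ofAdd (1, 0)) = .ofAdd (1, 0) ∧ φ (.ofAdd (0, 1)) = .ofAdd (0, 1) :=
      aux_S2 _ _ e1 e2 e3
    obtain ⟨i, j, rfl⟩ : ∃ i j : Fin 3, b' = .ofAdd (1, 0) ^ i.1 * .ofAdd (0, 1) ^ j.1 := by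
      revert b'; decide
    exact mul_inv_eq_iff_eq_mul.1 ((hφ _).trans (by simp only [map_mul, map_pow, e4]))
  have hS : ∀ (F : ZMod 3 × ZMod 3 → ℤ) (a b c : ℤ), (∀ z, F z =
      a * (if z.1 ^ 2 = 1 ^ 2 ∧ z.2 ^ 2 = 0 ^ 2 then 1 else 0) +
      b * (if z.1 ^ 2 = 0 ^ 2 ∧ z.2 ^ 2 = 1 ^ 2 then 1 else 0) +
      c * (if z.1 ^ 2 = 1 ^ 2 ∧ z.2 ^ 2 = 1 ^ 2 then 1 else 0)) →
      ∑ g, (F (D.κ g).toAdd : ℂ) = a * D.N (x (1, 0)) + b * D.N (x (0, 1)) + c * D.N (x (1, 1)) :=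
    fun F a b c h => by
    have : ∀ z g, IsConj (x z) (g ^ D.e) ↔
        (D.κ g).toAdd.1 ^ 2 = z.1 ^ 2 ∧ (D.κ g).toAdd.2 ^ 2 = z.2 ^ 2 := fun z g =>
      Iff.trans ⟨fun e => e.trans (D.κ_spec g), fun e => e.trans (D.κ_spec g).symm⟩ (fus _ _)
    simp only [← D.N_sum, this, h, Finset.mul_sum, ← Finset.sum_add_distrib]
    exact Finset.sum_congr rfl fun g _ => by push_cast; rfl
  have gen : ∀ (F : ZMod 3 × ZMod 3 → ℤ) (β : Multiplicative (ZMod 3 × ZMod 3) → ℂ),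
      IsGeneralizedCharacter _ β → β 1 = 0 → (∀ b, β b + β b⁻¹ = F b.toAdd) →
      (∀ z z' : ZMod 3 × ZMod 3, z'.1 ^ 2 = z.1 ^ 2 ∧ z'.2 ^ 2 = z.2 ^ 2 → F z' = F z) →
      ∃ v, ev v = fun g => (F (D.κ g).toAdd : ℂ) := fun F β h1 h2 h3 h4 =>
    exists_ev (D.gen_tau (D.pm_of fun b b' e ⟨j, hj⟩ => by
      have h5 := (fus b b').1 e
      have h6 : b ^ (3 : ℤ) = 1 := by clear * -; revert b; decide
      rw [← hj] at h5 ⊢
      simp only at h5 ⊢
      rw [zpow_eq_zpow_emod j h6] at h5 ⊢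
      have : j % 3 = 0 ∨ j % 3 = 1 ∨ j % 3 = 2 := by omega
      rcases this with e | e | e <;> rw [e] at h5 ⊢ <;> clear * - h5 <;> revert b <;> decide)
      h1 h2 fun g b e => by rw [h3, h4 _ _ ((fus _ _).1 (e.symm.trans (D.κ_spec g)))])
  obtain ⟨p, hp⟩ := gen (Fl 1 0) _ (gen_lc (f3 1 0))
    (by simp) (lc_f3 1 0) (by decide)
  obtain ⟨c, hc⟩ := gen (Fl 0 1) _ (gen_lc (f3 0 1))
    (by simp) (lc_f3 0 1) (by decide)
  obtain ⟨w, hw⟩ := gen (fun z => 9 * Fw z) _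
    (IsGeneralizedCharacter.sub (IsGeneralizedCharacter.sub (IsGeneralizedCharacter.zsmul
      (IsGeneralizedCharacter.add (gen_lc (f3 1 0)) (gen_lc (f3 0 1))) 2) (gen_lc (f3 1 1)))
      (gen_lc (f3 1 2))) (by simp) (fun b => by
        have : ∀ z : ZMod 3 × ZMod 3, 9 * Fw z =
          2 * (if 1 * z.1 + 0 * z.2 = 0 then 0 else 3) + 2 * (if 0 * z.1 + 1 * z.2 = 0 then 0 else 3)
          - (if 1 * z.1 + 1 * z.2 = 0 then 0 else 3) - (if 1 * z.1 + 2 * z.2 = 0 then 0 else 3) := by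
          decide
        rw [this, Int.cast_sub, Int.cast_sub, Int.cast_add, Int.cast_mul, Int.cast_mul,
          ← lc_f3, ← lc_f3, ← lc_f3, ← lc_f3]
        simp
        ring) (by decide)
  have N0 : 0 < D.N (x (1, 1)) := by have := Nat.card_pos (α := G); omega
  have key : ∀ (v : IrrCharacter G → ℤ) (z : ZMod 3 × ZMod 3), z ≠ 0 →
      ∑ g, ev v g = 3 * D.N (x z) + 3 * D.N (x (1, 1)) → D.N (x z) = 2 * D.N (x (1, 1)) :=
    fun v z hz e => by
    have h1 := ip_irr v (tr1 G)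
    simp only [classInner, tr1, map_one, mul_one, e] at h1
    rw [inv_mul_eq_iff_eq_mul₀ card_ne_zero', ← hN] at h1
    have h2 : (3 * D.N (x z) + 3 * D.N (x (1, 1)) : ℤ) = 9 * D.N (x (1, 1)) * v (tr1 G) := by
      exact_mod_cast h1
    have h3 := D.three_N (x := x z) (D.i9 _) fun e => hz ((map_eq_one_iff _ D.inj).1 e)
    have h4 : 0 < v (tr1 G) := by by_contra; nlinarith
    have h5 : v (tr1 G) < 2 := by by_contra; nlinarith
    rw [show v (tr1 G) = 1 by omega] at h2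
    omega
  have N1 := key p (1, 0) (by decide) (hp ▸ (hS (Fl 1 0) 3 0 3 (by decide)).trans (by simp))
  have N2 := key c (0, 1) (by decide) (hc ▸ (hS (Fl 0 1) 0 3 3 (by decide)).trans (by simp))
  simp only [N1, N2] at hS
  have cG : (Nat.card G : ℂ) = 9 * D.N (x (1, 1)) := by rw [← hN]; simp
  have rp : ∀ g, conj (ev p g) = ev p g := by simp [hp]
  have rc : ∀ g, conj (ev c g) = ev c g := by simp [hc]
  have rw' : ∀ g, conj (ev w g) = ev w g := by simp only [hw, map_intCast, implies_true]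
  have p1 : p (tr1 G) = 1 := co_tr1 (hp ▸ (hS (Fl 1 0) 3 0 3 (by decide)).trans (by rw [cG]; push_cast; ring))
  have c1 : c (tr1 G) = 1 := co_tr1 (hc ▸ (hS (Fl 0 1) 0 3 3 (by decide)).trans (by rw [cG]; push_cast; ring))
  have w1 : w (tr1 G) = 1 :=
    co_tr1 (hw ▸ (hS (fun z => 9 * Fw z) 0 0 9 (by decide)).trans (by rw [cG]; push_cast; ring))
  have pp : p ⬝ᵥ p = 3 := co_dot rp (by
    simp only [hp, ← Int.cast_mul]
    exact (hS (fun z => Fl 1 0 z * Fl 1 0 z) 9 0 9 (by decide)).trans (by rw [cG]; push_cast; ring))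
  have cc : c ⬝ᵥ c = 3 := co_dot rc (by
    simp only [hc, ← Int.cast_mul]
    exact (hS (fun z => Fl 0 1 z * Fl 0 1 z) 0 9 9 (by decide)).trans (by rw [cG]; push_cast; ring))
  have pc : p ⬝ᵥ c = 1 := co_dot rc (by
    simp only [hp, hc, ← Int.cast_mul]
    exact (hS (fun z => Fl 1 0 z * Fl 0 1 z) 0 0 9 (by decide)).trans (by rw [cG]; push_cast; ring))
  have ww : w ⬝ᵥ w = 9 := co_dot rw' (by
    simp only [hw, ← Int.cast_mul]
    exact (hS (fun z => 9 * Fw z * (9 * Fw z)) 0 0 81 (by decide)).trans (by rw [cG]; push_cast; ring))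
  have wp : w ⬝ᵥ p = 3 := co_dot rp (by
    simp only [hw, hp, ← Int.cast_mul]
    exact (hS (fun z => 9 * Fw z * Fl 1 0 z) 0 0 27 (by decide)).trans (by rw [cG]; push_cast; ring))
  have wc : w ⬝ᵥ c = 3 := co_dot rc (by
    simp only [hw, hc, ← Int.cast_mul]
    exact (hS (fun z => 9 * Fw z * Fl 0 1 z) 0 0 27 (by decide)).trans (by rw [cG]; push_cast; ring))
  obtain ⟨a, b, a1, a2, a3, a4, a5⟩ := row_of hG p1 pp fun g hg => by simp [hp, D.κ_reg hg, Fl]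
  obtain ⟨a', b', b1, b2, b3, b4, b5⟩ := row_of hG c1 cc fun g hg => by simp [hc, D.κ_reg hg, Fl]
  have t3 : ∀ a, ¬ 3 ∣ w a → ¬ 3 ∣ dg a := fun a ha =>
    deg3 (c := fun g => Fw (D.κ g).toAdd)
      (by simp [hw]) (fun g => by unfold Fw; split_ifs <;> simp) D.card D.cop ha
  rw [a4] at wp
  rw [b4] at wc
  rw [b4] at pc
  simp only [dotProduct_sub, dotProduct_add, dotProduct_single, mul_one, w1, p1] at wp wc pc
  rw [a4] at pc
  have n : a ≠ a' ∧ b ≠ b' := by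
    constructor <;> rintro rfl
    · simp only [Pi.sub_apply, Pi.add_apply, Pi.single_apply, a1, a3, b2, b3.symm, if_true,
        if_false] at pc
      split_ifs at pc <;> omega
    · simp only [Pi.sub_apply, Pi.add_apply, Pi.single_apply, a2, a3.symm, b1, b3, if_true,
        if_false] at pc
      split_ifs at pc <;> omega
  rcases coh2 (t := tr1 G) (d := fun χ => dg χ) (by simp [dg_tr1]) w1 (dot_dg (by
    simp [hw, D.κ_reg, Fw])) ww (by omega) (by omega) a1 a2 b1 b2 n.1 n.2 with e | e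
  · exact a5 (t3 _ e.1) (t3 _ e.2)
  · exact b5 (t3 _ e.1) (t3 _ e.2)

end Cfsg.Agent.H3.NQ
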