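import Cfsg.Agent.H3.NE

/-! From a row to a self-centralizing Sylow subgroup of prime order. -/

set_option autoImplicit false
set_option linter.unusedSectionVars false

namespace Cfsg.Agent.H3.NQ

open Cfsg Cfsg.Agent.H1 Subgroup

theorem pow_cases {q j i : ℕ} (hq : q.Prime) (h2 : q ≠ 2) (h3 : q ≠ 3) (hj : j ≠ 0) {η : ℤ}
    (hη : η = 1 ∨ η = -1) (h : (2 : ℤ) ^ i = q ^ j + η) : j = 1 := by
  have q5 : 5 ≤ q := hq.five_le_of_ne_two_of_ne_three h2 h3
  have p2 : ∀ x : ℤ, 0 < x → x ∣ 2 ^ i → ∃ s, x = 2 ^ s := fun x hx e => by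
    lift x to ℕ using hx.le
    obtain ⟨s, -, hs⟩ := (Nat.dvd_prime_pow Nat.prime_two).1 (show x ∣ 2 ^ i by exact_mod_cast e)
    exact ⟨s, by exact_mod_cast hs⟩
  have qk : ∀ k, k ≠ 0 → (5 : ℤ) ≤ q ^ k := fun k hk => by
    exact_mod_cast q5.trans (Nat.le_self_pow hk q)
  have odd : ∀ k, Odd ((q : ℤ) ^ k) := fun k => (Int.odd_coe_nat q |>.2 (hq.odd_of_ne_two h2)).pow
  have f4 : ∀ s, (4 : ℤ) ≤ 2 ^ s → (4 : ℤ) ∣ 2 ^ s := fun s hs => by
    rcases s with _ | _ | s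
    · omega
    · omega
    · exact ⟨2 ^ s, by ring⟩
  rcases Nat.even_or_odd' j with ⟨k, rfl | rfl⟩
  · exfalso
    have := qk k (by omega)
    rw [mul_comm, pow_mul] at h
    obtain ⟨r, hr⟩ := odd k
    rcases hη with rfl | rfl
    · have := f4 i (by nlinarith)
      rw [h, hr, show (2 * r + 1) ^ 2 + 1 = 4 * (r * r + r) + 2 by ring] at this
      omega
    · obtain ⟨s, hs⟩ := p2 (q ^ k - 1) (by omega) ⟨q ^ k + 1, by rw [h]; ring⟩
      obtain ⟨t, ht⟩ := p2 (q ^ k + 1) (by omega) ⟨q ^ k - 1, by rw [h]; ring⟩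
      have := f4 s (by omega)
      have := f4 t (by omega)
      omega
  have e2 : η * η = 1 := by rcases hη with rfl | rfl <;> rfl
  obtain ⟨s, hs⟩ := p2 (q + η) (by omega) (by
    rw [h, show η = η ^ (2 * k + 1) by rw [pow_succ, pow_mul, pow_two, e2]; simp]
    nth_rw 1 [show η ^ (2 * k + 1) = η by rw [pow_succ, pow_mul, pow_two, e2]; simp]
    exact Odd.add_dvd_pow_add_pow _ _ ⟨k, rfl⟩)
  obtain ⟨s, rfl⟩ : ∃ t, s = t + 1 := ⟨s - 1, by rcases s with _ | s <;> omega⟩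
  have m1 : (2 : ℤ) ^ (s + 2) ∣ (q ^ 2) ^ k - 1 ^ k := Dvd.dvd.trans ⟨2 ^ s - η, by
    rw [eq_sub_of_add_eq hs]; linear_combination e2⟩ (sub_dvd_pow_sub_pow _ _ k)
  by_contra hk
  have k0 : k ≠ 0 := by omega
  have m2 : s + 1 < i := by
    refine (pow_lt_pow_iff_right₀ (show (1 : ℤ) < 2 by norm_num)).1 ?_
    rw [← hs, h, pow_succ]
    have := qk _ (show 2 * k ≠ 0 by omega)
    nlinarith
  have m3 : (2 : ℤ) ^ (s + 2) ∣ 2 ^ (s + 1) := by
    have := dvd_sub (pow_dvd_pow 2 m2) (m1.mul_right q)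
    rwa [h, show (q : ℤ) ^ (2 * k + 1) + η - ((q ^ 2) ^ k - 1 ^ k) * q = q + η by ring, hs] at this
  have := (pow_dvd_pow_iff (by norm_num) (by norm_num [Int.isUnit_iff])).1 m3
  omega

variable {G : Type*} [Group G] [Fintype G]

theorem card_dvd_deg {χ : G → ℂ} (h : IsCharacter G χ) {n : ℕ} (hn : χ 1 = n) (H : Subgroup G)
    (h0 : ∀ x ∈ H, x ≠ 1 → χ x = 0) : Nat.card H ∣ n := by
  have := Fintype.ofFinite H
  obtain ⟨k, hk⟩ := IsCharacter.classInner_nat (IsCharacter.comp h H.subtype) isCharacter_one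
  rw [classInner, inv_mul_eq_iff_eq_mul₀ card_ne_zero', Finset.sum_eq_single 1 (fun x _ e => by
    simp [h0 x x.2 (by simpa using e)]) (by simp)] at hk
  exact ⟨k, by exact_mod_cast (show ((n : ℕ) : ℂ) = Nat.card H * k by simpa [hn] using hk)⟩

/-- the data around the prime `q` -/
structure QD (G : Type*) [Group G] [Fintype G] (q a : ℕ) where
  y : G
  θ : IrrCharacter G
  η : ℤ
  i : ℕ
  prime : q.Prime
  q5 : 5 ≤ q
  card : Nat.card G = 9 * 2 ^ a * q
  ord : orderOf y = q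
  cent : centralizer {y} = zpowers y
  θ1 : θ ≠ tr1 G
  hη : η = 1 ∨ η = -1
  deg : dg θ = 2 ^ i
  deg' : (2 : ℤ) ^ i = q + η
  val : ∀ g ∈ zpowers y, g ≠ 1 → θ.1 g = η
  β : IrrCharacter G
  degβ : dg β = q
  rel : ∀ g, (orderOf g).Coprime 3 → θ.1 g = β.1 g + η

theorem exists_QD [IsSimpleGroup G] (hG : ¬ IsMulCommutative G) {q a b : ℕ} (hq : q.Prime)
    (h2 : q ≠ 2) (h3 : q ≠ 3) (hc : Nat.card G = 9 * 2 ^ a * q ^ b) (h : Row G) :
    Nonempty (QD G q a) := by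
  obtain ⟨β, θ, η, b1, t1, b3, t3, hη, bo, hv⟩ : ∃ (β θ : IrrCharacter G) (η : ℤ), β ≠ tr1 G ∧
      θ ≠ tr1 G ∧ ¬ 3 ∣ dg β ∧ ¬ 3 ∣ dg θ ∧ (η = 1 ∨ η = -1) ∧ Odd (dg β) ∧
      ∀ g, (orderOf g).Coprime 3 → θ.1 g = β.1 g + η := by
    obtain ⟨χ, ψ, a1, a2, a3, a4, a5⟩ := h
    rcases Nat.even_or_odd (dg χ) with e | e
    · refine ⟨ψ, χ, -1, a2, a1, a4, a3, Or.inr rfl, ?_, fun g hg => by simp [a5 g hg]⟩
      have := a5 1 (by simp)
      rw [dg_eq, dg_eq] at this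
      rw [show dg ψ = dg χ + 1 by exact_mod_cast this]
      exact e.add_one
    · exact ⟨χ, ψ, 1, a1, a2, a3, a4, Or.inl rfl, e, fun g hg => by simp [a5 g hg]⟩
  have := Fact.mk hq
  have dv : ∀ χ : IrrCharacter G, ¬ 3 ∣ dg χ → dg χ ∣ 2 ^ a * q ^ b := fun χ e =>
    (((Nat.prime_three.coprime_iff_not_dvd.2 e).symm.pow_right 2).dvd_of_dvd_mul_left
      (mul_assoc 9 _ _ ▸ hc ▸ deg_dvd χ.2 (dg_eq χ)))
  have e1 : (dg θ : ℤ) = dg β + η := by
    have := hv 1 (by simp)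
    rw [dg_eq, dg_eq] at this
    exact_mod_cast this
  obtain ⟨j, j1, j2⟩ := (Nat.dvd_prime_pow hq).1
    ((bo.coprime_two_right.pow_right a).dvd_of_dvd_mul_left (dv β b3))
  have j0 : j ≠ 0 := fun e => by have := dg_two hG β b1; simp [j2, e] at this
  obtain ⟨i, -, i2⟩ := (Nat.dvd_prime_pow Nat.prime_two).1
    (((hq.coprime_iff_not_dvd.2 fun e => by
      have := (Int.dvd_add_right (Int.natCast_dvd_natCast.2 (j2 ▸ dvd_pow_self q j0))).1
        (e1 ▸ Int.natCast_dvd_natCast.2 e)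
      have := Int.natAbs_dvd_natAbs.2 this
      rcases hη with rfl | rfl <;> exact hq.one_lt.ne' (by simpa using this)).symm.pow_right b).dvd_of_dvd_mul_right
      (dv θ t3))
  rw [i2, j2] at e1
  obtain rfl := pow_cases hq h2 h3 j0 hη (by exact_mod_cast e1)
  rw [pow_one] at j2 e1
  obtain ⟨Q⟩ : Nonempty (Sylow q G) := inferInstance
  have cQ : Nat.card Q = q ^ b := by
    rw [Sylow.card_eq_multiplicity, hc, Nat.factorization_mul (by simp) (by simp [hq.ne_zero]),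
      hq.factorization_pow, Finsupp.add_apply, Nat.factorization_eq_zero_of_not_dvd fun e => by
        rcases (Nat.Prime.dvd_mul hq).1 e with e | e
        · exact h3 ((Nat.prime_dvd_prime_iff_eq hq Nat.prime_three).1
            (hq.dvd_of_dvd_pow (n := 2) e))
        · exact h2 ((Nat.prime_dvd_prime_iff_eq hq Nat.prime_two).1 (hq.dvd_of_dvd_pow e))]
    simp
  have van : ∀ g, g ≠ 1 → (∀ x ∈ (Q : Subgroup G), Commute x g) → β.1 g = 0 := fun g g1 g2 =>
    (np b1).burn hG (dg_eq β) g1 (j2 ▸ ((hq.coprime_iff_not_dvd.2 Q.not_dvd_index).coprime_dvd_right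
      (index_dvd_of_le fun x hx => mem_centralizer_singleton_iff.2 (g2 x hx))).symm)
  have cm : ∀ x y : Q, Commute x y := fun x y => by
    have := Fintype.ofFinite Q
    have hr := IsCharacter.comp (np b1).ch (Q : Subgroup G).subtype
    obtain ⟨s, s1, s2⟩ := IsCharacter.exists_multiset hr
    by_cases e : ∀ φ ∈ s, φ 1 = 1
    · by_contra hn
      refine (np b1).ne_one hG (g := (x * y * (y * x)⁻¹ : Q)) (fun e => hn
        (mul_inv_eq_one.1 (Subtype.ext e))) ((congrFun s2 (x * y * (y * x)⁻¹)).trans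
          (Eq.trans ?_ (congrFun s2 1).symm))
      have ev : ∀ z, s.sum z = (s.map (· z)).sum := fun z =>
        map_multiset_sum (Pi.evalAddMonoidHom (fun _ => ℂ) z) s
      rw [ev, ev]
      refine congrArg _ (Multiset.map_congr rfl fun φ hφ => ?_)
      obtain ⟨l, rfl⟩ := IsCharacter.exists_hom_of_one_eq_one
        (IsIrrCharacter.isCharacter (s1 φ hφ)) (e φ hφ)
      have ha : l x ≠ 0 := fun e => by simpa [e] using hom_norm_eq_one l x
      have hb : l y ≠ 0 := fun e => by simpa [e] using hom_norm_eq_one l y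
      simp only [map_mul, map_inv, map_one]
      field_simp
    push Not at e
    obtain ⟨φ, f1, f2⟩ := e
    obtain ⟨s, rfl⟩ := Multiset.exists_cons_of_mem f1
    obtain ⟨d, -, d1⟩ := IsIrrCharacter.exists_one_eq (s1 φ f1)
    have hs := isCharacter_multiset_sum s fun ψ h =>
      IsIrrCharacter.isCharacter (s1 ψ (Multiset.mem_cons_of_mem h))
    obtain ⟨r, r1⟩ := IsCharacter.exists_one_eq hs
    obtain ⟨k, -, k2⟩ := (Nat.dvd_prime_pow hq).1 (cQ ▸ deg_dvd (s1 φ f1) d1)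
    have k0 : k ≠ 0 := fun e => f2 (by simp [d1, k2, e])
    have e2 := congrFun s2 1
    simp only [Multiset.sum_cons, Pi.add_apply, d1, r1, map_one, dg_eq, j2] at e2
    have e3 : q = d + r := by exact_mod_cast e2
    have e4 := Nat.le_self_pow k0 q
    rw [Multiset.sum_cons, IsCharacter.eq_zero_of_one_eq_zero hs (by simp [r1]; omega), add_zero] at s2
    have : Nontrivial Q := Finite.one_lt_card_iff_nontrivial.1 (cQ ▸ Nat.one_lt_pow (by omega) hq.one_lt)
    have := Q.isPGroup'.center_nontrivial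
    obtain ⟨z, hz⟩ := exists_ne (1 : center Q)
    have e5 := IsIrrCharacter.mul_central (s1 φ f1) z.2 z.1⁻¹
    rw [mul_inv_cancel, show φ z = 0 from (congrFun s2 z).symm.trans (van _ (by simpa using hz)
      fun x hx => congrArg Subtype.val (mem_center_iff.1 z.2 ⟨x, hx⟩)), zero_div, zero_mul] at e5
    exact absurd e5 (IsIrrCharacter.one_ne_zero (s1 φ f1))
  have c1 := card_dvd_deg (np b1).ch (dg_eq β) (centralizer (Q : Set G)) fun g g1 g2 =>
    van g g2 g1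
  have c2 : (Q : Subgroup G) ≤ centralizer (Q : Set G) := fun x hx y hy =>
    congrArg Subtype.val (cm ⟨y, hy⟩ ⟨x, hx⟩).eq
  obtain ⟨y, hy⟩ := exists_prime_orderOf_dvd_card' (G := Q) q (cQ ▸ dvd_pow_self q (by omega))
  rw [← orderOf_coe] at hy
  have c3 : zpowers (y : G) = centralizer (Q : Set G) := eq_of_le_of_card_ge
    (((zpowers_le).2 y.2).trans c2) (by rw [Nat.card_zpowers, hy]; exact Nat.le_of_dvd hq.pos (j2 ▸ c1))
  have c4 : zpowers (y : G) = Q := le_antisymm ((zpowers_le).2 y.2) (c3 ▸ c2)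
  have c5 : q ^ b = q := cQ.symm.trans
    ((congrArg (fun H : Subgroup G => Nat.card H) c4).symm.trans ((Nat.card_zpowers _).trans hy))
  refine ⟨⟨y, θ, η, i, hq, hq.five_le_of_ne_two_of_ne_three h2 h3, c5 ▸ hc, hy, ?_, t1, hη, i2,
    by exact_mod_cast e1, fun g g1 g2 => ?_, β, j2, hv⟩⟩
  · refine le_antisymm (fun g hg => c3 ▸ fun x hx => ?_) (zpowers_le.2 (mem_centralizer_singleton_iff.2 rfl))
    obtain ⟨k, rfl⟩ := mem_zpowers_iff.1 (show x ∈ zpowers (y : G) from c4.symm ▸ hx)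
    exact ((show Commute g y from mem_centralizer_singleton_iff.1 hg).zpow_right k).symm
  · rw [hv g (((Nat.coprime_primes hq Nat.prime_three).2 h3).coprime_dvd_left
      (hy ▸ orderOf_dvd_of_mem_zpowers g1)), van g g2 fun x hx => c2 (c4 ▸ g1) x hx, zero_add]

end Cfsg.Agent.H3.NQ
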