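import Cfsg.Agent.H3.NG

/-! The self-centralizing Sylow subgroup of prime order: fusion. -/

set_option autoImplicit false
set_option linter.unusedSectionVars false

namespace Cfsg.Agent.H3.NQ.QD

open Cfsg Cfsg.Agent.H1 Subgroup Finset

variable {G : Type*} [Group G] [Fintype G] {q a : ℕ} [Fact q.Prime] (D : QD G q a)

/-- the embedding of the cyclic group -/
def ι : Multiplicative (ZMod q) →* G :=
  MonoidHom.mk' (fun k => D.y ^ k.toAdd.val) fun k l => by
    rw [toAdd_mul, ZMod.val_add, ← pow_add]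
    conv_rhs => rw [← pow_mod_orderOf, D.ord]

/-- powers of `y` -/
def Y (k : ZMod q) : G := D.ι (Multiplicative.ofAdd k)

theorem Y_add (k l : ZMod q) : D.Y (k + l) = D.Y k * D.Y l := map_mul D.ι _ _

theorem Y_zero : D.Y 0 = 1 := map_one D.ι

theorem Y_neg (k : ZMod q) : D.Y (-k) = (D.Y k)⁻¹ := map_inv D.ι _

theorem Y_pow (k : ZMod q) (n : ℕ) : D.Y k ^ n = D.Y (n * k) := by
  rw [Y, ← map_pow, ← ofAdd_nsmul, nsmul_eq_mul, Y]

theorem Y_one : D.Y 1 = D.y := by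
  have := Fact.mk (Fact.out : q.Prime).one_lt
  show D.y ^ (1 : ZMod q).val = _
  rw [ZMod.val_one, pow_one]

theorem Y_inj : Function.Injective D.Y := fun k l h =>
  ZMod.val_injective q (pow_injOn_Iio_orderOf ((ZMod.val_lt k).trans_eq D.ord.symm)
    ((ZMod.val_lt l).trans_eq D.ord.symm) h)

theorem Y_ne {k : ZMod q} (h : k ≠ 0) : D.Y k ≠ 1 := fun e => h (D.Y_inj (e.trans D.Y_zero.symm))

theorem Y_mem (k : ZMod q) : D.Y k ∈ zpowers D.y := npow_mem_zpowers _ _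

theorem exists_Y {g : G} (h : g ∈ zpowers D.y) : ∃ k, D.Y k = g := by
  obtain ⟨n, rfl⟩ := (mem_powers_iff_mem_zpowers.2 h)
  exact ⟨n, by rw [← D.Y_one, ← mul_one (n : ZMod q), ← Y_pow]⟩

theorem conj_mul {g : G} {k l : ZMod q} (h : g * D.Y k * g⁻¹ = D.Y l) (s : ZMod q) :
    g * D.Y (s * k) * g⁻¹ = D.Y (s * l) := by
  rw [← ZMod.natCast_zmod_val s, ← Y_pow, ← Y_pow, ← h, conj_pow]

theorem cent_Y {k : ZMod q} (hk : k ≠ 0) : centralizer {D.Y k} = zpowers D.y := by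
  rw [← D.cent, ← D.Y_one]
  ext g
  simp only [mem_centralizer_singleton_iff, ← mul_inv_eq_iff_eq_mul]
  exact ⟨fun h => by simpa [hk] using D.conj_mul h k⁻¹, fun h => by simpa using D.conj_mul h k⟩

theorem card_cent {k : ZMod q} (hk : k ≠ 0) : Nat.card (centralizer {D.Y k}) = q := by
  rw [D.cent_Y hk, Nat.card_zpowers, D.ord]

theorem index_cent {k : ZMod q} (hk : k ≠ 0) : (centralizer {D.Y k}).index = 9 * 2 ^ a :=
  Nat.eq_of_mul_eq_mul_right D.prime.pos (by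
    rw [← D.card, ← (centralizer {D.Y k}).index_mul_card, D.card_cent hk])

theorem conj_iter {g : G} {u : ZMod q} (h : g * D.Y 1 * g⁻¹ = D.Y u) (n : ℕ) (k : ZMod q) :
    g ^ n * D.Y k * (g ^ n)⁻¹ = D.Y (u ^ n * k) := by
  induction n with
  | zero => simp
  | succ n ih =>
    have := D.conj_mul h (u ^ n * k)
    rw [mul_one, ← ih] at this
    rw [pow_succ', pow_succ', mul_assoc u, mul_comm u, ← this]
    group

/-- the automizer -/
def U : Subgroup (ZMod q)ˣ where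
  carrier := {u | IsConj (D.Y 1) (D.Y u)}
  one_mem' := IsConj.refl _
  mul_mem' := fun {u v} hu hv => by
    obtain ⟨g, h⟩ := isConj_iff.1 hv
    exact IsConj.trans hu (isConj_iff.2 ⟨g, by simpa using D.conj_mul h u⟩)
  inv_mem' := fun {u} hu => by
    obtain ⟨g, h⟩ := isConj_iff.1 hu
    exact IsConj.symm (isConj_iff.2 ⟨g, by
      have := D.conj_mul h (u⁻¹ : (ZMod q)ˣ)
      rwa [mul_one, Units.inv_mul] at this⟩)

/-- its order -/
noncomputable def f : ℕ := Nat.card D.U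

theorem f_pos : 0 < D.f := Nat.card_pos

theorem f_dvd : D.f ∣ q - 1 := by
  have := card_subgroup_dvd_card D.U
  rwa [Nat.card_eq_fintype_card (α := (ZMod q)ˣ), ZMod.card_units] at this

theorem mem_U (u : (ZMod q)ˣ) : u ∈ D.U ↔ u ^ D.f = 1 := by
  classical
  have h1 : ∀ u ∈ D.U, u ^ D.f = 1 := fun u hu =>
    congrArg Subtype.val (pow_card_eq_one' (x := (⟨u, hu⟩ : D.U)))
  refine ⟨h1 u, fun h => ?_⟩
  have : univ.filter (· ∈ D.U) = univ.filter (· ^ D.f = 1) :=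
    eq_of_subset_of_card_le (fun u => by simpa using h1 u)
      ((IsCyclic.card_pow_eq_one_le D.f_pos).trans (by simp [f, Fintype.card_subtype]))
  simpa [h] using congrArg (u ∈ ·) this

theorem conj_iff {k : ZMod q} (hk : k ≠ 0) (l : ZMod q) :
    IsConj (D.Y k) (D.Y l) ↔ l ^ D.f = k ^ D.f := by
  by_cases hl : l = 0
  · simp [hl, Y_zero, D.Y_ne hk, D.f_pos.ne', (pow_ne_zero D.f hk).symm]
  have := D.mem_U (Units.mk0 (l / k) (div_ne_zero hl hk))
  rw [Units.ext_iff, Units.val_pow_eq_pow_val, Units.val_mk0, div_pow, Units.val_one,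
    div_eq_one_iff_eq (pow_ne_zero _ hk)] at this
  rw [← this]
  show _ ↔ IsConj (D.Y 1) (D.Y (l / k))
  simp only [isConj_iff]
  exact exists_congr fun g => ⟨fun h => by simpa [hk, div_eq_inv_mul] using D.conj_mul h k⁻¹,
    fun h => by simpa [mul_div_cancel₀ l hk] using D.conj_mul h k⟩

/-- cosets -/
noncomputable def K (j : ZMod q) : Finset (ZMod q) := univ.filter (· ^ D.f = j ^ D.f)

theorem mem_K {j l : ZMod q} : l ∈ D.K j ↔ l ^ D.f = j ^ D.f := by simp [K]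

theorem sum_K {M : Type*} [AddCommMonoid M] {k : ZMod q} (hk : k ≠ 0) (g : ZMod q → M) :
    ∑ l ∈ D.K k, g l = ∑ u ∈ D.K 1, g (u * k) :=
  (sum_equiv (Equiv.mulRight₀ k hk) (fun u => by simp [mem_K, mul_pow, hk]) fun _ _ => rfl).symm

theorem card_K {k : ZMod q} (hk : k ≠ 0) : (D.K k).card = D.f := by
  classical
  rw [card_eq_sum_ones, D.sum_K hk, ← card_eq_sum_ones, f, Nat.card_eq_fintype_card,
    Fintype.card_subtype]
  refine (card_bij (fun (u : (ZMod q)ˣ) _ => (u : ZMod q))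
    (fun u => by simp [mem_K, mem_U, Units.ext_iff]) (fun u _ v _ => Units.ext) fun u hu => ?_).symm
  rw [mem_K, one_pow] at hu
  exact ⟨Units.mk0 u fun e => by simp [e, D.f_pos.ne'] at hu, by simp [mem_U, Units.ext_iff, hu], rfl⟩

theorem f_dvd' : D.f ∣ 9 * 2 ^ a := by
  obtain ⟨u, hu⟩ := IsCyclic.exists_ofOrder_eq_natCard (α := D.U)
  obtain ⟨g, h⟩ := isConj_iff.1 u.2
  have h1 := D.conj_iter h (Nat.card G) 1
  rw [pow_card_eq_one', mul_one, one_mul, inv_one, mul_one] at h1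
  have h2 : u ^ Nat.card G = 1 := Subtype.ext (Units.ext (D.Y_inj h1).symm)
  have h3 : D.f ∣ 9 * 2 ^ a * q := D.card ▸ (f.eq_1 D).symm ▸ hu ▸ orderOf_dvd_of_pow_eq_one h2
  exact (((Nat.coprime_self_sub_left D.prime.pos).2 (by simp)).coprime_dvd_left
    D.f_dvd).dvd_of_dvd_mul_right h3

theorem f_mod : 9 * 2 ^ a ≡ D.f [MOD q] := by
  classical
  let φ : G →* Function.End {x // IsConj D.y x} :=
    { toFun := fun g x => ⟨g * x * g⁻¹, x.2.trans (isConj_iff.2 ⟨g, rfl⟩)⟩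
      map_one' := funext fun x => Subtype.ext (show 1 * x.1 * 1⁻¹ = x.1 by simp)
      map_mul' := fun g h => funext fun x => Subtype.ext
        (show g * h * x.1 * (g * h)⁻¹ = g * (h * x * h⁻¹) * g⁻¹ by group) }
  have h := Equiv.Perm.card_fixedPoints_modEq (f := φ D.y) (p := q) (n := 1)
    (by rw [pow_one, ← map_pow, orderOf_dvd_iff_pow_eq_one.1 D.ord.dvd, map_one])
  have h1 := D.index_cent one_ne_zero
  rw [D.Y_one, index_centralizer_eq, Nat.card_eq_fintype_card] at h1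
  rw [← h1]
  convert h
  rw [← D.card_K one_ne_zero, ← Fintype.card_coe]
  refine Fintype.card_congr (Equiv.ofBijective (fun u => ⟨⟨D.Y u, D.Y_one ▸
    (D.conj_iff one_ne_zero u).2 (D.mem_K.1 u.2)⟩, Subtype.ext ?_⟩) ⟨fun u v e => ?_, fun x => ?_⟩)
  · show D.y * D.Y u * D.y⁻¹ = D.Y u
    rw [← D.Y_one, ← Y_add, add_comm, Y_add, mul_inv_cancel_right]
  · exact Subtype.ext (D.Y_inj (congrArg (·.1.1) e))
  · obtain ⟨k, hk⟩ := D.exists_Y (g := x.1.1) (D.cent ▸ mem_centralizer_singleton_iff.2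
      (mul_inv_eq_iff_eq_mul.1 (congrArg Subtype.val x.2)).symm)
    exact ⟨⟨k, D.mem_K.2 ((D.conj_iff one_ne_zero k).1 (by rw [hk, D.Y_one]; exact x.1.2))⟩,
      Subtype.ext (Subtype.ext hk)⟩

end Cfsg.Agent.H3.NQ.QD
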