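import Cfsg.Agent.H3.NH

/-! Exceptional characters for a self-centralizing Sylow subgroup of prime order. -/

set_option autoImplicit false
set_option linter.unusedSectionVars false

namespace Cfsg.Agent.H3.NQ

open Cfsg Cfsg.Agent.H1 Subgroup Finset Matrix
open scoped ComplexConjugate

variable {G : Type*} [Group G] [Fintype G] {q a : ℕ} [Fact q.Prime]

/-- additive character -/
noncomputable def ee (k : ZMod q) : ℂ := ZMod.stdAddChar k

theorem ee_add (k l : ZMod q) : ee (k + l) = ee k * ee l := AddChar.map_add_eq_mul _ k l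

theorem ee_zero : ee (0 : ZMod q) = 1 := AddChar.map_zero_eq_one _

theorem sum_ee (b : ZMod q) : ∑ k, ee (b * k) = if b = 0 then (q : ℂ) else 0 := by
  simpa [ee, mul_comm b] using AddChar.sum_mulShift b (ZMod.isPrimitive_stdAddChar q)

/-- linear character -/
noncomputable def lam (j : ZMod q) : Multiplicative (ZMod q) →* ℂ :=
  (ZMod.stdAddChar (N := q)).toMonoidHom.comp (AddMonoidHom.mulLeft j).toMultiplicative

theorem conj_ee (k : ZMod q) : conj (ee k) = ee (-k) := by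
  have := hom_inv_eq_conj (lam (1 : ZMod q)) (Multiplicative.ofAdd k)
  exact ((congrArg (fun x => conj (ee x)) (one_mul k)).symm.trans this.symm).trans
    (congrArg ee (one_mul (-k)))

theorem q0 : (q : ℂ) ≠ 0 := by exact_mod_cast (Fact.out : q.Prime).ne_zero

theorem chi (χ : IrrCharacter G) : IsCharacter G χ.1 := IsIrrCharacter.isCharacter χ.2

theorem norm_sq_le (χ : IrrCharacter G) (g : G) :
    ‖χ.1 g‖ ^ 2 ≤ Nat.card (centralizer ({g} : Set G)) := by
  have := sum_irr_mul_conj g g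
  simp only [IsConj.refl, if_true, Complex.mul_conj, Complex.normSq_eq_norm_sq] at this
  rw [← show ∑ χ : IrrCharacter G, ‖χ.1 g‖ ^ 2 = Nat.card (centralizer ({g} : Set G)) by
    exact_mod_cast this]
  exact single_le_sum (f := fun χ : IrrCharacter G => ‖χ.1 g‖ ^ 2) (fun _ _ => by positivity)
    (mem_univ χ)

namespace QD

variable (D : QD G q a)

/-- multiplicities -/
noncomputable def m (χ : IrrCharacter G) (j : ZMod q) : ℕ :=
  (IsCharacter.classInner_nat (isCharacter_hom (lam j)) (IsCharacter.comp (chi χ) D.ι)).choose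

theorem m_eq (χ : IrrCharacter G) (j : ZMod q) :
    (q : ℂ) * D.m χ j = ∑ k, ee (j * k) * conj (χ.1 (D.Y k)) := by
  rw [m, ← (IsCharacter.classInner_nat (isCharacter_hom (lam j))
    (IsCharacter.comp (chi χ) D.ι)).choose_spec, classInner, Nat.card_eq_fintype_card,
    Fintype.card_multiplicative, ZMod.card, mul_inv_cancel_left₀ q0]
  exact Fintype.sum_equiv Multiplicative.toAdd _ _ fun _ => rfl

theorem m_eq' (χ : IrrCharacter G) (j : ZMod q) :
    (q : ℂ) * D.m χ j = ∑ k, ee (-j * k) * χ.1 (D.Y k) := by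
  simpa [conj_ee] using congrArg conj (D.m_eq χ j)

theorem inv_m (χ : IrrCharacter G) (k : ZMod q) : χ.1 (D.Y k) = ∑ j, D.m χ j * ee (j * k) := by
  refine mul_left_cancel₀ (q0 (q := q)) ?_
  simp only [mul_sum, ← mul_assoc, m_eq', sum_mul]
  rw [sum_comm]
  have : ∀ l j, ee (-j * l) * χ.1 (D.Y l) * ee (j * k) = χ.1 (D.Y l) * ee ((k - l) * j) :=
    fun l j => by rw [mul_right_comm, ← ee_add, mul_comm]; congr 2; ring
  simp only [this, ← mul_sum, sum_ee]
  simp [sub_eq_zero, mul_comm]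

theorem dg_sum (χ : IrrCharacter G) : dg χ = ∑ j, D.m χ j := by
  have := D.inv_m χ 0
  simp only [Y_zero, dg_eq, mul_zero, ee_zero, mul_one] at this
  exact_mod_cast this

theorem m_K (χ : IrrCharacter G) {j l : ZMod q} (hj : j ≠ 0) (h : l ^ D.f = j ^ D.f) :
    D.m χ l = D.m χ j := by
  have hl : l ≠ 0 := fun e => by simp [e, D.f_pos.ne', (pow_ne_zero D.f hj).symm] at h
  have : (q : ℂ) * D.m χ l = q * D.m χ j := by
    rw [m_eq', m_eq']
    refine Fintype.sum_equiv (Equiv.mulLeft₀ (l / j) (div_ne_zero hl hj)) _ _ fun k => ?_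
    rw [Equiv.mulLeft₀_apply, show -j * (l / j * k) = -l * k by field_simp]
    by_cases hk : k = 0
    · simp [hk]
    rw [IsClassFunction.of_isConj (IsCharacter.isClassFunction (chi χ)) ((D.conj_iff hk (l / j * k)).2
      (by rw [mul_pow, div_pow, h, div_self (pow_ne_zero _ hj), one_mul]))]
  exact_mod_cast mul_left_cancel₀ q0 this

theorem sum_R (χ : IrrCharacter G) (R : Finset (ZMod q)) (h0 : 0 ∉ R)
    (hi : ∀ j ∈ R, ∀ l ∈ R, j ^ D.f = l ^ D.f → j = l) :
    ∑ j ∈ insert 0 (R.biUnion D.K), D.m χ j = D.m χ 0 + D.f * ∑ j ∈ R, D.m χ j := by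
  have n0 : ∀ j ∈ R, j ≠ 0 := fun j h e => h0 (e ▸ h)
  rw [sum_insert (by
    simp only [mem_biUnion, mem_K, not_exists, not_and, zero_pow D.f_pos.ne']
    exact fun j h => (pow_ne_zero _ (n0 j h)).symm), sum_biUnion fun j hj l hl e =>
      disjoint_left.2 fun x h1 h2 => e (hi j hj l hl ((D.mem_K.1 h1).symm.trans (D.mem_K.1 h2))),
    mul_sum]
  refine congrArg _ (sum_congr rfl fun j hj => ?_)
  rw [sum_congr rfl fun l hl => D.m_K χ (n0 j hj) (D.mem_K.1 hl), sum_const, D.card_K (n0 j hj),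
    smul_eq_mul]

theorem dg_ge (χ : IrrCharacter G) (R : Finset (ZMod q)) (h0 : 0 ∉ R)
    (hi : ∀ j ∈ R, ∀ l ∈ R, j ^ D.f = l ^ D.f → j = l) :
    D.m χ 0 + D.f * ∑ j ∈ R, D.m χ j ≤ dg χ := by
  rw [← D.sum_R χ R h0 hi, D.dg_sum]
  exact sum_le_univ_sum_of_nonneg fun _ => Nat.zero_le _

theorem dg_R (χ : IrrCharacter G) (R : Finset (ZMod q)) (h0 : 0 ∉ R)
    (hi : ∀ j ∈ R, ∀ l ∈ R, j ^ D.f = l ^ D.f → j = l)
    (hs : ∀ j, j ≠ 0 → ∃ l ∈ R, j ^ D.f = l ^ D.f) :
    dg χ = D.m χ 0 + D.f * ∑ j ∈ R, D.m χ j := by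
  rw [← D.sum_R χ R h0 hi, D.dg_sum]
  refine sum_congr (eq_univ_of_forall fun j => ?_).symm fun _ _ => rfl
  simpa [mem_K, or_iff_not_imp_left] using hs j

theorem exists_m [IsSimpleGroup G] (hG : ¬ IsMulCommutative G) {χ : IrrCharacter G}
    (h : χ ≠ tr1 G) : ∃ j, j ≠ 0 ∧ D.m χ j ≠ 0 := by
  by_contra hn
  push Not at hn
  refine (np h).ne_one hG (D.Y_ne one_ne_zero) ?_
  rw [← D.Y_zero, inv_m, inv_m]
  exact sum_congr rfl fun j _ => by by_cases e : j = 0 <;> simp [e, hn]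

theorem f_le [IsSimpleGroup G] (hG : ¬ IsMulCommutative G) {χ : IrrCharacter G}
    (h : χ ≠ tr1 G) : D.m χ 0 + D.f ≤ dg χ := by
  obtain ⟨j, h1, h2⟩ := D.exists_m hG h
  have := D.dg_ge χ {j} (by simpa using h1.symm) (by simp)
  rw [sum_singleton] at this
  nlinarith [Nat.pos_of_ne_zero h2]

/-- coordinates of the induced generalized characters -/
noncomputable def n (j : ZMod q) (χ : IrrCharacter G) : ℤ := D.m χ 0 - D.m χ j

theorem n_eq (j : ZMod q) (χ : IrrCharacter G) :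
    (q : ℂ) * D.n j χ = ∑ k, (1 - ee (j * k)) * conj (χ.1 (D.Y k)) := by
  simp [n, mul_sub, m_eq, sub_mul, ee_zero]

theorem n_eq' (j : ZMod q) (χ : IrrCharacter G) :
    (q : ℂ) * D.n j χ = ∑ k, (1 - ee (-j * k)) * χ.1 (D.Y k) := by
  simp [n, mul_sub, m_eq', sub_mul, ee_zero]

theorem n_const {j : ZMod q} (hj : j ≠ 0) {χ : IrrCharacter G} {c : ℤ}
    (h : ∀ k, k ≠ 0 → χ.1 (D.Y k) = c) : D.n j χ = c := by
  have : (q : ℂ) * D.n j χ = q * c := by
    rw [n_eq', sum_congr rfl (g := fun k => (1 - ee (-j * k)) * c) fun k _ => by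
      by_cases e : k = 0 <;> simp [e, ee_zero, h], ← sum_mul, sum_sub_distrib, sum_ee]
    simp [hj]
  exact_mod_cast mul_left_cancel₀ q0 this

theorem n_tr1 {j : ZMod q} (hj : j ≠ 0) : D.n j (tr1 G) = 1 := D.n_const hj fun _ _ => by simp [tr1]

theorem n_θ {j : ZMod q} (hj : j ≠ 0) : D.n j D.θ = D.η :=
  D.n_const hj fun k hk => D.val _ (D.Y_mem k) (D.Y_ne hk)

theorem n_q {j : ZMod q} (hj : j ≠ 0) {χ : IrrCharacter G} (h : q ∣ dg χ) : D.n j χ = 0 := by
  obtain ⟨d, hd⟩ := h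
  have d0 : d ≠ 0 := fun e => (dg_pos χ).ne' (by simp [hd, e])
  refine D.n_const hj fun k hk => ?_
  rw [Int.cast_zero]
  refine vanish (chi χ) _ D.prime.pos (int_div (IsCharacter.isIntegral (chi χ) _) D.prime.ne_zero d0
    (m := 9 * 2 ^ a) (Nat.Coprime.mul_left ?_ (Nat.Coprime.pow_left _ ?_)) ?_) fun s hs => ?_
  · exact ((Nat.coprime_primes Nat.prime_three D.prime).2 (by have := D.q5; omega)).pow_left 2
  · exact (Nat.coprime_primes Nat.prime_two D.prime).2 (by have := D.q5; omega)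
  · have := isIntegral_centralChar χ.2 (D.Y k)
    rwa [centralChar, D.index_cent hk, dg_eq, hd] at this
  have h1 := norm_sq_le χ (D.Y k ^ s)
  have h2 := pow_ne_one_of_coprime (D.Y_ne hk) hs
  rw [Y_pow] at h1 h2 ⊢
  rw [D.card_cent fun e => h2 (by rw [e, Y_zero])] at h1
  have : (5 : ℝ) ≤ q := by exact_mod_cast D.q5
  nlinarith [norm_nonneg (χ.1 (D.Y (s * k)))]

theorem dvd_of_n {j : ZMod q} (hj : j ≠ 0) {χ : IrrCharacter G} (h : D.n j χ ≠ 0) :
    dg χ ∣ 9 * 2 ^ a :=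
  (D.prime.coprime_iff_not_dvd.2 fun e => h (D.n_q hj e)).symm.dvd_of_dvd_mul_right
    (D.card ▸ deg_dvd χ.2 (dg_eq χ))

theorem dg_mod {χ : IrrCharacter G} (h : ∀ j, j ≠ 0 → D.n j χ = D.n 1 χ) :
    (q : ℤ) ∣ dg χ - D.n 1 χ := by
  refine ⟨D.m χ 1, ?_⟩
  have : ∀ j ∈ univ.erase (0 : ZMod q), D.m χ j = D.m χ 1 := fun j hj => by
    have := h j (ne_of_mem_erase hj)
    simp only [n] at this
    omega
  rw [D.dg_sum, ← add_sum_erase _ _ (mem_univ 0), sum_congr rfl this, sum_const,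
    card_erase_of_mem (mem_univ _), card_univ, ZMod.card, smul_eq_mul, n]
  push_cast [Nat.cast_sub D.prime.pos]
  ring

open Classical in
theorem ev_n (j : ZMod q) (g : G) :
    ev (D.n j) g = ∑ k, if IsConj g (D.Y k) then 1 - ee (j * k) else 0 := by
  refine mul_left_cancel₀ (q0 (q := q)) ?_
  simp only [ev, mul_sum, ← mul_assoc, n_eq, sum_mul]
  rw [sum_comm]
  refine sum_congr rfl fun k _ => ?_
  simp only [mul_assoc, ← mul_sum, mul_comm (conj _), sum_irr_mul_conj]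
  by_cases hk : k = 0
  · simp [hk, ee_zero]
  split_ifs with e
  · have h1 := sum_irr_mul_conj g (D.Y k)
    have h2 := sum_irr_mul_conj (D.Y k) (D.Y k)
    simp only [IsClassFunction.of_isConj (IsCharacter.isClassFunction (chi _)) e, e, if_true,
      IsConj.refl, D.card_cent hk] at h1 h2
    rw [← h1, h2, mul_comm]
  · simp

theorem ev_n_zero (j : ZMod q) {g : G} (h : (orderOf g).Coprime q) : ev (D.n j) g = 0 := by
  rw [ev_n]
  refine sum_eq_zero fun k _ => ?_
  split_ifs with e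
  · obtain ⟨x, rfl⟩ := isConj_iff.1 e.symm
    have h1 := pow_orderOf_eq_one (x * D.Y k * x⁻¹)
    rw [conj_pow, Y_pow, mul_inv_eq_one, mul_eq_left, ← D.Y_zero, D.Y_inj.eq_iff, mul_eq_zero,
      ZMod.natCast_eq_zero_iff] at h1
    simp [h1.resolve_left (D.prime.coprime_iff_not_dvd.1 h.symm), ee_zero]
  · rfl

theorem dot_d (j : ZMod q) : D.n j ⬝ᵥ (fun χ => (dg χ : ℤ)) = 0 :=
  dot_dg (D.ev_n_zero j (by simp))

theorem dot_n {j l : ZMod q} (hj : j ≠ 0) (hl : l ≠ 0) :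
    D.n j ⬝ᵥ D.n l = D.f + if l ^ D.f = j ^ D.f then 1 else 0 := by
  classical
  have h1 : ∀ k, (1 - ee (-l * k)) * ev (D.n j) (D.Y k) =
      ∑ u ∈ D.K 1, (1 - ee (-l * k) - ee (j * u * k) + ee ((j * u - l) * k)) := fun k => by
    by_cases hk : k = 0
    · simp [hk, ee_zero]
    simp only [ev_n, D.conj_iff hk, ← sum_filter]
    rw [show univ.filter _ = D.K k from rfl, D.sum_K hk, mul_sum]
    exact sum_congr rfl fun u _ => by
      rw [show (j * u - l) * k = -l * k + j * (u * k) by ring, ee_add, mul_assoc]; ring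
  have : (q : ℂ) * (D.n j ⬝ᵥ D.n l : ℤ) = q * (D.f + if l ^ D.f = j ^ D.f then 1 else 0 : ℤ) := by
    simp only [dotProduct, Int.cast_sum, Int.cast_mul, mul_sum, mul_left_comm (q : ℂ), n_eq']
    rw [sum_comm]
    simp only [mul_left_comm (_ : ℂ) (1 - _), ← mul_sum]
    simp only [ev] at h1
    rw [sum_congr rfl fun k _ => h1 k, sum_comm, sum_congr rfl (g := fun u => (q : ℂ) +
      if l / j = u then (q : ℂ) else 0) fun u hu => by
        have : u ≠ 0 := fun e => by simp [mem_K, e, D.f_pos.ne'] at hu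
        simp only [sum_add_distrib, sum_sub_distrib, sum_ee]
        simp [hl, hj, this, sub_eq_zero, div_eq_iff hj, mul_comm j, eq_comm]]
    simp [sum_add_distrib, D.card_K, mem_K, div_pow, div_eq_one_iff_eq (pow_ne_zero _ hj), mul_add,
      mul_comm]
  exact_mod_cast mul_left_cancel₀ q0 this

end QD

end Cfsg.Agent.H3.NQ
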