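import Cfsg.Agent.H3.NI

/-! The involution formula, and the case of a faithful character of degree four. -/

set_option autoImplicit false
set_option linter.unusedSectionVars false

namespace Cfsg.Agent.H3.NQ

open Cfsg Cfsg.Agent.H1 Subgroup Finset Matrix
open scoped ComplexConjugate

variable {G : Type*} [Group G] [Fintype G] {q a : ℕ} [Fact q.Prime]

theorem pairs_cl (z x : G) : pairs z (classInd ℂ x) =
    (centralizer ({x} : Set G)).index * ∑ v, classInd ℂ z v * classInd ℂ z (x * v⁻¹) := by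
  have h1 : ∀ v, ∑ u, classInd ℂ z u * classInd ℂ x (u * v) =
      ∑ g, classInd ℂ z (g * v⁻¹) * classInd ℂ x g := fun v =>
    Fintype.sum_equiv (Equiv.mulRight v) _ _ fun u => by simp
  rw [← sum_classInd, sum_mul]
  simp only [pairs, h1, mul_sum _ _ (classInd ℂ z _), ← mul_assoc]
  rw [sum_comm]
  refine sum_congr rfl fun g _ => ?_
  rw [← sum_mul, mul_comm]
  by_cases e : IsConj x g
  · obtain ⟨c, rfl⟩ := isConj_iff.1 e
    refine congrArg _ (Fintype.sum_equiv (MulAut.conj c).toEquiv _ _ fun v => ?_).symm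
    rw [← isCF_classInd ℂ z v c, ← isCF_classInd ℂ z (x * v⁻¹) c]
    congr 2
    simp [mul_assoc]
  · rw [show classInd ℂ x g = 0 from if_neg e, zero_mul, zero_mul]

theorem newton4 (A : Matrix (Fin 4) (Fin 4) ℂ) : 24 * A.det = A.trace ^ 4 -
    6 * A.trace ^ 2 * (A * A).trace + 3 * (A * A).trace ^ 2 + 8 * A.trace * (A * A * A).trace -
    6 * (A * A * A * A).trace := by
  simp [Matrix.det_succ_row_zero, Fin.sum_univ_succ, Fin.succAbove, Matrix.trace, Matrix.mul_apply]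
  ring

namespace QD

variable (D : QD G q a)

/-- inverting elements -/
def I (v : G) : Prop := v * D.Y 1 * v⁻¹ = D.Y (-1)

theorem I.mul {D : QD G q a} {v : G} (h : D.I v) (k : ZMod q) : v * D.Y k = D.Y (-k) * v := by
  simpa [mul_inv_eq_iff_eq_mul] using D.conj_mul h k

theorem I.iff {D : QD G q a} {w : G} (h : D.I w) (v : G) : D.I v ↔ ∃ l, v = w * D.Y l := by
  refine ⟨fun h' => ?_, ?_⟩
  · obtain ⟨l, hl⟩ := D.exists_Y (g := w⁻¹ * v) (D.cent_Y one_ne_zero ▸
      mem_centralizer_singleton_iff.2 (by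
        rw [mul_assoc, h'.mul, inv_mul_eq_iff_eq_mul, ← mul_assoc, ← mul_assoc, h.mul]; group))
    exact ⟨l, by rw [hl]; group⟩
  · rintro ⟨l, rfl⟩
    rw [I, mul_assoc w, ← Y_add, add_comm, Y_add, ← h]
    group

theorem I.conj {D : QD G q a} {w v : G} (h : D.I w) (h' : D.I v) : IsConj w v := by
  obtain ⟨l, rfl⟩ := (h.iff v).1 h'
  have : (2 : ZMod q) ≠ 0 := fun e => by
    have := Nat.le_of_dvd two_pos ((ZMod.natCast_eq_zero_iff 2 q).1 e)
    have := D.q5
    omega
  refine isConj_iff.2 ⟨D.Y (-(l / 2)), ?_⟩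
  rw [← h.mul, ← Y_neg, mul_assoc, ← Y_add]
  congr 2
  field_simp
  ring

theorem I_of {z v : G} (hz : z * z = 1) {k : ZMod q} (hk : k ≠ 0) (h1 : IsConj z v)
    (h2 : IsConj z (D.Y k * v⁻¹)) : D.I v := by
  have sq : ∀ w, IsConj z w → w * w = 1 := fun w h => by
    obtain ⟨c, rfl⟩ := isConj_iff.1 h
    rw [_root_.conj_mul, hz]; simp
  have := D.conj_mul (g := v) (k := k) (l := -k) (by
    rw [Y_neg, eq_inv_iff_mul_eq_one, ← sq _ (h2.trans (isConj_iff.2 ⟨(D.Y k)⁻¹, rfl⟩)),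
      ← eq_inv_of_mul_eq_one_left (sq v h1)]
    rw [← inv_eq_of_mul_eq_one_left (sq v h1)]
    group) k⁻¹
  simpa [hk, I] using this

/-- some conjugate inverts `y` -/
def Inv (z : G) : Prop := ∃ w, IsConj z w ∧ D.I w

open Classical in
theorem invol {z : G} (hz : z * z = 1) {j : ZMod q} (hj : j ≠ 0) :
    ((centralizer ({z} : Set G)).index : ℂ) ^ 2 * ∑ χ, D.n j χ * (χ.1 z ^ 2 / χ.1 1) =
      if D.Inv z then 9 * 2 ^ a * (q * q) else 0 := by
  have h1 := pairs_sum z univ (fun χ => (D.n j χ : ℂ)) (fun χ : IrrCharacter G => χ.1)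
  have h2 := pairs_sum z univ (fun k => 1 - ee (j * k)) (fun k => classInd ℂ (D.Y k))
  simp only [fun χ : IrrCharacter G => pairs_irr χ.2 z, mul_left_comm _ (_ ^ 2), ← mul_sum] at h1
  rw [← h1, show (fun g => ∑ χ, (D.n j χ : ℂ) * χ.1 g) = _ from funext fun g => (D.ev_n j g).trans
    (sum_congr rfl fun k _ => show _ = (1 - ee (j * k)) * classInd ℂ (D.Y k) g by
      simp only [classInd, isConj_comm (g := g), mul_ite, mul_one, mul_zero]), h2, sum_congr rfl
      (g := fun k => (1 - ee (j * k)) * if D.Inv z then 9 * 2 ^ a * q else 0) fun k _ => ?_,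
    ← sum_mul, sum_sub_distrib, sum_ee]
  · rw [if_neg hj]
    split_ifs <;> simp [mul_left_comm (q : ℂ), mul_assoc]
  by_cases hk : k = 0
  · simp [hk, ee_zero]
  rw [pairs_cl, D.index_cent hk]
  split_ifs with e
  · obtain ⟨w, w1, w2⟩ := e
    rw [sum_congr rfl (g := fun v => ∑ l, if v = w * D.Y l then 1 else 0) fun v _ => ?_, sum_comm]
    · simp
    by_cases h : D.I v
    · obtain ⟨l, rfl⟩ := (w2.iff v).1 h
      have : D.I (D.Y k * (w * D.Y l)⁻¹) := by
        rw [I, mul_inv_eq_iff_eq_mul, ← mul_assoc, ← Y_add, add_comm, Y_add, mul_assoc, mul_assoc,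
          mul_right_inj, inv_mul_eq_iff_eq_mul, ← mul_assoc, h.mul, neg_neg, mul_inv_cancel_right]
      rw [classInd, classInd, if_pos (w1.trans (w2.conj h)), if_pos (w1.trans (w2.conj this))]
      simp [D.Y_inj.eq_iff]
    · rw [sum_eq_zero fun l _ => if_neg fun e => h ((w2.iff v).2 ⟨l, e⟩)]
      simp only [classInd, ite_mul, one_mul, zero_mul, ite_eq_right_iff, one_ne_zero]
      exact fun h1 h2 => h (D.I_of hz hk h1 h2)
  · refine congrArg _ ((mul_eq_zero_of_right _ (sum_eq_zero fun v _ => ?_)).trans Nat.cast_zero.symm)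
    simp only [classInd, ite_mul, one_mul, zero_mul, ite_eq_right_iff, one_ne_zero]
    exact fun h1 h2 => e ⟨v, h1, D.I_of hz hk h1 h2⟩

/-- the sum of the involution formula -/
noncomputable def F (j : ZMod q) (v : IrrCharacter G → ℤ) : ℚ := ∑ χ, D.n j χ * (v χ ^ 2 / dg χ)

theorem invol' {z : G} (hz : z * z = 1) {j : ZMod q} (hj : j ≠ 0) {v : IrrCharacter G → ℤ}
    (hv : ∀ χ, χ.1 z = v χ) (h : D.F j v ≠ 0) :
    D.Inv z ∧ 9 * 2 ^ a * D.F j v = Nat.card (centralizer ({z} : Set G)) ^ 2 := by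
  have h1 := D.invol hz hj
  have h2 : ((centralizer ({z} : Set G)).index : ℚ) * Nat.card (centralizer ({z} : Set G)) =
      9 * 2 ^ a * q := by exact_mod_cast (index_mul_card _).trans D.card
  have h3 : ((centralizer ({z} : Set G)).index : ℚ) ≠ 0 := by exact_mod_cast index_ne_zero_of_finite
  rw [show ∑ χ, D.n j χ * (χ.1 z ^ 2 / χ.1 1) = (D.F j v : ℂ) by simp [F, hv, dg_eq]] at h1
  split_ifs at h1 with e
  · have h4 : ((centralizer ({z} : Set G)).index : ℚ) ^ 2 * D.F j v = 9 * 2 ^ a * (q * q) := by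
      exact_mod_cast h1
    refine ⟨e, mul_left_cancel₀ (pow_ne_zero 2 h3) ?_⟩
    rw [← mul_pow, h2, mul_left_comm, h4]
    ring
  · exact absurd (by exact_mod_cast h1) (mul_ne_zero (pow_ne_zero 2 h3) h)

theorem dot_v (j : ZMod q) {z : G} (hz : z * z = 1) {v : IrrCharacter G → ℤ}
    (hv : ∀ χ, χ.1 z = v χ) : D.n j ⬝ᵥ v = 0 := by
  have := D.ev_n_zero j (g := z) (((Nat.coprime_primes Nat.prime_two D.prime).2
    (by have := D.q5; omega)).coprime_dvd_left (orderOf_dvd_of_pow_eq_one (by rwa [pow_two])))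
  simp only [ev, hv] at this
  exact_mod_cast this

theorem eta_ne : D.η ≠ 0 := by rcases D.hη with h | h <;> simp [h]

theorem i_le : D.i ≤ a :=
  (Nat.pow_dvd_pow_iff_le_right one_lt_two).1 (((show Nat.Coprime 2 9 by norm_num).pow_left _
    ).dvd_of_dvd_mul_left (D.deg ▸ D.dvd_of_n one_ne_zero (D.n_θ one_ne_zero ▸ D.eta_ne)))

theorem two_le : 2 ≤ D.i := by
  have := D.deg'
  have := D.q5
  have := D.hη
  generalize D.i = i at *
  rcases i with _ | _ | i <;> omega

include D in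
theorem exists_central : ∃ z : G, z * z = 1 ∧ z ≠ 1 ∧ Odd (centralizer ({z} : Set G)).index ∧
    2 ^ a ∣ Nat.card (centralizer ({z} : Set G)) := by
  obtain ⟨P⟩ : Nonempty (Sylow 2 G) := inferInstance
  have : Nontrivial P := (nontrivial_iff_ne_bot _).2 (P.ne_bot_of_dvd_card (D.card ▸
    ((dvd_pow_self 2 (by have := D.i_le; have := D.two_le; omega)).mul_left _).mul_right _))
  have := P.isPGroup'.center_nontrivial
  obtain ⟨k, k0, hk⟩ := (P.isPGroup'.to_subgroup (center P)).nontrivial_iff_card.1 this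
  obtain ⟨z, hz⟩ := exists_prime_orderOf_dvd_card' (G := center P) 2 (hk ▸ dvd_pow_self 2 k0.ne')
  rw [← orderOf_coe, ← orderOf_coe] at hz
  have h1 : Odd (centralizer ({((z : P) : G)} : Set G)).index := Odd.of_dvd_nat
    (Nat.odd_iff.2 (Nat.two_dvd_ne_zero.1 P.not_dvd_index)) (index_dvd_of_le fun x hx =>
      mem_centralizer_singleton_iff.2 (congrArg Subtype.val (mem_center_iff.1 z.2 ⟨x, hx⟩)))
  exact ⟨(z : P), (pow_two _).symm.trans (orderOf_dvd_iff_pow_eq_one.1 hz.dvd),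
    fun e => by simp [e] at hz, h1, (h1.coprime_two_left.pow_left a).dvd_of_dvd_mul_left (by
      rw [index_mul_card, D.card]; exact (dvd_mul_left _ _).mul_right _)⟩

theorem odd_one [IsSimpleGroup G] (hG : ¬ IsMulCommutative G) {j : ZMod q} (hj : j ≠ 0) :
    ∃ φ, φ ≠ tr1 G ∧ φ ≠ D.θ ∧ Odd (D.n j φ) ∧ (dg φ = 3 ∨ dg φ = 9) ∧ D.m φ 0 + D.f ≤ dg φ := by
  classical
  obtain ⟨φ, h1, h2, h3⟩ := exists_odd (by simp [dg_tr1]) (D.n_tr1 hj) (D.dot_d j)
  rw [Int.odd_coe_nat] at h3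
  refine ⟨φ, h1, fun e => ?_, h2, ?_, D.f_le hG h1⟩
  · rw [e, D.deg, Nat.odd_pow_iff (by have := D.two_le; omega)] at h3
    exact absurd h3 (by decide)
  have h4 := (h3.coprime_two_right.pow_right a).dvd_of_dvd_mul_right
    (D.dvd_of_n hj fun e => by simp [e] at h2)
  have h5 := dg_two hG φ h1
  have h6 := Nat.le_of_dvd (by norm_num) h4
  generalize dg φ = d at *
  interval_cases d <;> omega

end QD

instance fact5 : Fact (Nat.Prime 5) := ⟨by norm_num⟩

theorem no54 [IsSimpleGroup G] (hG : ¬ IsMulCommutative G) (D : QD G 5 a)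
    (hf : D.f = 4) : False := by
  have e1 : D.η = -1 := D.hη.resolve_left fun e => by
    have := D.deg'
    obtain ⟨k, hk⟩ := Nat.exists_eq_add_of_le D.two_le
    rw [e, hk, pow_add] at this
    omega
  have e2 : dg D.θ = 4 := by
    have := D.deg'
    rw [e1] at this
    rw [D.deg]
    exact_mod_cast (show (2 : ℤ) ^ D.i = 4 from this)
  obtain ⟨h, hh⟩ := isConj_iff.1 ((D.conj_iff one_ne_zero 2).2 (by rw [hf]; decide))
  have h4 : h ^ 4 = 1 := by
    obtain ⟨l, hl⟩ := D.exists_Y (g := h ^ 4) (D.cent_Y one_ne_zero ▸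
      mem_centralizer_singleton_iff.2 (mul_inv_eq_iff_eq_mul.1 (D.conj_iter hh 4 1)))
    by_contra hn
    obtain ⟨s, rfl⟩ := D.exists_Y (g := h) (D.cent_Y (k := l) (fun e => hn (by
      rw [← hl, e, D.Y_zero])) ▸ mem_centralizer_singleton_iff.2 (hl ▸ (Commute.self_pow h 4)))
    rw [← D.Y_neg, ← D.Y_add, ← D.Y_add, D.Y_inj.eq_iff] at hh
    clear * - hh
    revert s; decide
  obtain ⟨n, ρ, -, hρ⟩ := D.θ.2
  obtain rfl : n = 4 := by
    have := dg_eq D.θ
    rw [← hρ, e2] at this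
    exact_mod_cast (show (n : ℂ) = 4 by simpa using this)
  have E0 : ∑ k, ρ (D.Y k) = 0 := by
    have : (5⁻¹ : ℂ) • ∑ k, ρ (D.Y k) = 0 := LinearMap.IsIdempotentElem.eq_zero_of_trace_eq_zero (by
      have : ∀ k, ∑ l, ρ (D.Y k) * ρ (D.Y l) = ∑ l, ρ (D.Y l) := fun k =>
        Fintype.sum_equiv (Equiv.addLeft k) _ _ fun l => by simp [D.Y_add]
      rw [IsIdempotentElem, smul_mul_smul, sum_mul_sum]
      simp [this, ← Nat.cast_smul_eq_nsmul ℂ, smul_smul]) (by
      rw [map_smul, map_sum, ← add_sum_erase _ _ (mem_univ 0), sum_congr rfl (g := fun _ => -1)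
        fun k hk => show LinearMap.trace ℂ _ (ρ (D.Y k)) = -1 from (congrFun hρ _).trans
          ((D.val _ (D.Y_mem k) (D.Y_ne (ne_of_mem_erase hk))).trans (by simp [e1]))]
      simp [D.Y_zero])
    simpa using this
  have t0 : ∀ s, (1 - 2 ^ s : ZMod 5) ≠ 0 → LinearMap.trace ℂ _ (ρ h ^ s) = 0 := fun s hs => by
    have : ∑ k, D.θ.1 (D.Y k * h ^ s) = 0 := by
      simp only [← hρ, Representation.character, map_mul, ← map_sum, ← sum_mul, E0, zero_mul,
        map_zero]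
    rw [← Fintype.sum_equiv (Equiv.mulLeft₀ _ hs) (fun _ => D.θ.1 (h ^ s)) _ fun l => by
      show _ = D.θ.1 (D.Y ((1 - 2 ^ s) * l) * _)
      rw [← IsCharacter.isClassFunction (chi D.θ) (h ^ s) (D.Y l), sub_mul,
        one_mul, sub_eq_add_neg, D.Y_add, D.Y_neg, ← D.conj_iter hh]
      congr 1
      group] at this
    simpa [← hρ, Representation.character] using this
  have tr : ∀ f : (Fin 4 → ℂ) →ₗ[ℂ] Fin 4 → ℂ, (LinearMap.toMatrix' f).trace = LinearMap.trace ℂ _ f :=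
    fun f => (LinearMap.trace_eq_matrix_trace ℂ (Pi.basisFun ℂ _) f).symm
  have := newton4 (LinearMap.toMatrix' (ρ h))
  have d1 : LinearMap.det (ρ h) = 1 := hom_triv hG (LinearMap.det.comp ρ) h
  simp only [← LinearMap.toMatrix'_mul, tr, LinearMap.det_toMatrix', d1] at this
  rw [← pow_two (ρ h), ← pow_succ (ρ h), ← pow_succ (ρ h), t0 2 (by decide), t0 3 (by decide),
    ← map_pow ρ, h4, ← pow_one (ρ h), t0 1 (by decide)] at this
  norm_num at this

end Cfsg.Agent.H3.NQ
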