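import Cfsg.Agent.H3.NK

/-! The orders 2448 and 504. -/

set_option autoImplicit false
set_option linter.unusedSectionVars false

namespace Cfsg.Agent.H3.NQ

open Cfsg Cfsg.Agent.H1 Subgroup Finset Matrix

theorem cls {n : ℤ} {d a : ℕ} (h1 : d ∣ 9 * 2 ^ a) (h2 : (17 : ℤ) ∣ d - n) (h3 : 8 ≤ d) (h4 : n ≠ 0)
    (h5 : n * n ≤ 6) : (n = 1 ∧ d = 18) ∨ (n = 2 ∧ d = 36) ∨ (n = -1 ∧ (d = 16 ∨ d = 288)) ∨
      ((n = 1 ∨ n = -1) ∧ 256 ∣ d) ∨ ((n = 2 ∨ n = -2) ∧ 32 ∣ d) := by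
  obtain ⟨c, k, c1, rfl⟩ := dvd_cases h1
  have : -3 < n ∧ n < 3 := by constructor <;> nlinarith
  have hn : n = 1 ∨ n = -1 ∨ n = 2 ∨ n = -2 := by omega
  by_cases hk : 8 ≤ k
  · have := (Nat.pow_dvd_pow 2 hk).mul_left c
    exact Or.inr (Or.inr (Or.inr (by clear * - this hn; omega)))
  push Not at hk
  clear * - hk hn c1 h2 h3
  rcases hn with rfl | rfl | rfl | rfl <;> rcases c1 with rfl | rfl | rfl <;>
    interval_cases k <;> revert h2 h3 <;> decide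

/-- the shape of a remaining constituent -/
def Sh (n : ℤ) (d : ℕ) : Prop := n * d = -16 ∧ d = 16 ∨ n * d = -288 ∧ d = 288 ∧ n = -1 ∨
  256 ∣ d ∧ (n * d = d ∨ n * d = -d)

theorem tri {n m l : ℤ} {d e f : ℕ} (h1 : Sh n d) (h2 : Sh m e) (h3 : Sh l f) (h : 0 < d)
    (hs : n * d + m * e + l * f = -48) : (d = 16 ∨ d = 256 ∨ d = 288 ∧ n = -1) ∧
      (d = 288 → e ≠ 288) := by
  rcases h1 with h1 | h1 | ⟨h1, h1' | h1'⟩ <;> rcases h2 with h2 | h2 | ⟨h2, h2' | h2'⟩ <;>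
    rcases h3 with h3 | h3 | ⟨h3, h3' | h3'⟩ <;> omega

variable {G : Type*} [Group G] [Fintype G] [IsSimpleGroup G] {q a : ℕ}

theorem case17 (hG : ¬ IsMulCommutative G) (D : QD G 17 a) (hf : D.f = 8) : a = 4 := by
  classical
  have e1 : D.η = -1 := by have := D.q_small (by norm_num); omega
  have e2 : dg D.θ = 16 := by
    have := D.deg'
    rw [e1] at this
    rw [D.deg]
    exact_mod_cast (show (2 : ℤ) ^ D.i = 16 from this)
  have k1 : ∀ j, j = 1 ∨ j = 3 → ∃ φ, φ ≠ tr1 G ∧ φ ≠ D.θ ∧ dg φ = 9 ∧ D.n j φ = 1 ∧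
      D.n 1 φ + D.n 3 φ = 1 := fun j hj => by
    obtain ⟨φ, h1, h2, ⟨r, h3⟩, h4, h5⟩ := D.odd_one hG (j := j) (by rcases hj with rfl | rfl <;> decide)
    have h6 := D.dg_R φ {1, 3} (by decide) (by rw [hf]; decide) (by rw [hf]; decide)
    rw [sum_pair (by decide), hf] at h6
    refine ⟨φ, h1, h2, ?_⟩
    rcases hj with rfl | rfl <;> simp only [QD.n, hf] at * <;> omega
  obtain ⟨φ, f1, f2, f3, f4, f5⟩ := k1 1 (Or.inl rfl)
  obtain ⟨ψ, -, -, -, p4, p5⟩ := k1 3 (Or.inr rfl)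
  obtain ⟨S, hS⟩ : ∃ S : Finset (IrrCharacter G), ∀ χ, χ ∈ S ↔
      χ ≠ tr1 G ∧ χ ≠ D.θ ∧ χ ≠ φ ∧ D.n 1 χ ≠ 0 := ⟨univ.filter _, fun _ => mem_filter_univ _⟩
  have n1 := D.n_tr1 one_ne_zero
  have n2 := (D.n_θ one_ne_zero).trans e1
  have n9 := D.norm_n one_ne_zero
  have cl := fun χ (h : χ ∈ S) => cls (D.dvd_of_n one_ne_zero ((hS χ).1 h).2.2.2)
    (D.dg_mod fun j hj => by
      have h0 := (hS χ).1 h
      rcases show j ^ 8 = 1 ^ 8 ∨ j ^ 8 = 3 ^ 8 by revert j; decide with e | e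
      · exact D.n_K χ one_ne_zero (hf ▸ e)
      rw [D.n_K χ (by decide) (hf ▸ e)]
      exact D.same (φ := φ) (ψ := ψ) (by decide) one_ne_zero (by rw [hf]; decide) (by rintro rfl; omega)
        h0.2.2.1.symm (by rintro rfl; omega) (by omega) (by omega))
    (by have := D.f_le hG ((hS χ).1 h).1; omega) ((hS χ).1 h).2.2.2 (by
      have h0 := (hS χ).1 h
      have := sq_le (D.n 1) {tr1 G, D.θ, φ, χ}
      simp [D.θ1.symm, f1.symm, f2.symm, h0.1.symm, h0.2.1.symm, h0.2.2.1.symm, n1, n2, f4, n9,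
        hf] at this
      omega)
  obtain ⟨A, hA⟩ : ∃ A, A = S.filter (dg · = 18) := ⟨_, rfl⟩
  obtain ⟨B, hB⟩ : ∃ B, B = S.filter (¬ dg · = 18) := ⟨_, rfl⟩
  have a1 : ∀ χ ∈ A, χ ≠ tr1 G ∧ dg χ = 18 ∧ D.n 1 χ = 1 := fun χ h => by
    rw [hA, mem_filter] at h
    have := cl χ h.1
    exact ⟨((hS χ).1 h.1).1, h.2, by omega⟩
  have b1 : ∀ χ ∈ B, χ ∈ S ∧ dg χ ≠ 18 := fun χ h => by simpa [hB] using h
  have sp : ∀ {R : Type} [Ring R] (g : IrrCharacter G → R), ∑ χ, D.n 1 χ * g χ =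
      g (tr1 G) - g D.θ + g φ + ∑ χ ∈ A, g χ + ∑ χ ∈ B, D.n 1 χ * g χ := fun g => by
    rw [← sum_subset (subset_univ (insert (tr1 G) (insert D.θ (insert φ S)))) fun χ _ h => by
      simp only [mem_insert, hS, not_or, not_and, not_not] at h
      simp [h.2.2.2 h.1 h.2.1 h.2.2.1], sum_insert (by simp [hS, D.θ1.symm, f1.symm]),
      sum_insert (by simp [hS, f2.symm]), sum_insert (by simp [hS]),
      ← sum_filter_add_sum_filter_not S (dg · = 18), ← hA, ← hB,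
      sum_congr rfl (s₁ := A) (g := g) fun χ h => by simp [(a1 χ h).2.2]]
    simp [n1, n2, f4, add_assoc, sub_eq_add_neg]
  have s1 := (sp _).symm.trans n9
  have s2 := (sp _).symm.trans (D.dot_d 1)
  rw [sum_congr rfl fun χ h => (a1 χ h).2.2] at s1
  rw [sum_congr rfl (g := fun _ => 18) fun χ h => by simp [(a1 χ h).2.1]] at s2
  simp only [n1, n2, f4, hf, dg_tr1, e2, f3, Int.cast_id, sum_const, nsmul_eq_mul] at s1 s2
  have s3 : (8 : ℤ) ∣ ∑ χ ∈ B, D.n 1 χ * dg χ := dvd_sum fun χ h => by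
    have := (b1 χ h).2
    rcases cl χ (b1 χ h).1 with ⟨e, _⟩ | ⟨e, _⟩ | ⟨e, _⟩ | ⟨e | e, _⟩ | ⟨e | e, _⟩ <;> rw [e] <;> omega
  have s4 := sum_nonneg (s := B) fun χ _ => mul_self_nonneg (D.n 1 χ)
  have cA : A.card = 3 := by omega
  have b2 : ∀ χ ∈ B, D.n 1 χ * D.n 1 χ = 1 ∧ Sh (D.n 1 χ) (dg χ) := fun χ h => by
    have := (b1 χ h).2
    have := single_le_sum (fun χ _ => mul_self_nonneg (D.n 1 χ)) h
    rcases cl χ (b1 χ h).1 with ⟨e, _⟩ | ⟨e, _⟩ | ⟨e, _⟩ | ⟨e | e, _⟩ | ⟨e | e, _⟩ <;>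
      rw [e] at this ⊢ <;> unfold Sh <;> omega
  rw [sum_congr rfl fun χ h => (b2 χ h).1, sum_const, nsmul_eq_mul] at s1
  obtain ⟨z, z1, z2, z3, z4⟩ := D.exists_central
  obtain ⟨v, v1, v2⟩ := exists_v z1
  have s5 : ∑ χ ∈ B, (D.n 1 χ : ℚ) * (v χ ^ 2 / dg χ) =
      -(∑ χ ∈ B, D.n 1 χ * v χ : ℤ) ^ 2 / 288 := by
    obtain ⟨x, y, w, d1, d2, d3, hB⟩ := card_eq_three.1 (show B.card = 3 by omega)
    have z0 : ∀ χ ∈ B, dg χ = 16 ∨ dg χ = 256 ∨ dg χ = 288 ∧ D.n 1 χ = -1 →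
        v χ = 0 ∨ dg χ = 288 ∧ D.n 1 χ = -1 := fun χ h e =>
      (or_assoc.2 e).imp_left fun e => e.elim (v_zero hG ((hS χ).1 (b1 χ h).1).1 z2 z3 (v1 χ) 4)
        (v_zero hG ((hS χ).1 (b1 χ h).1).1 z2 z3 (v1 χ) 8)
    rw [hB] at z0 b2 s2 ⊢
    simp only [mem_insert, mem_singleton, forall_eq_or_imp, forall_eq] at z0 b2
    rw [sum_insert (by simp [d1, d2]), sum_pair d3] at s2 ⊢
    rw [sum_insert (by simp [d1, d2]), sum_pair d3]
    have t1 := tri b2.1.2 b2.2.1.2 b2.2.2.2 (dg_pos x) (by omega)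
    have t2 := tri b2.2.1.2 b2.2.2.2 b2.1.2 (dg_pos y) (by omega)
    have t3 := tri b2.2.2.2 b2.1.2 b2.2.1.2 (dg_pos w) (by omega)
    rcases z0.1 t1.1 with h1 | h1 <;> rcases z0.2.1 t2.1 with h2 | h2 <;>
      rcases z0.2.2 t3.1 with h3 | h3 <;> first | omega | simp [h1, h2, h3, neg_div]
  have s6 := (sp v).symm.trans (D.dot_v 1 z1 v1)
  have s7 : D.F 1 v = _ := sp _
  obtain ⟨x, y, w, d1, d2, d3, hA⟩ := card_eq_three.1 cA
  simp only [hA, mem_insert, mem_singleton, forall_eq_or_imp, forall_eq, d1, d2, d3, not_or,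
    not_false_iff, and_self, sum_insert, sum_singleton, Int.cast_id] at a1 s6 s7
  have bd : ∀ χ, χ ≠ tr1 G → (v χ : ℚ) ^ 2 ≤ dg χ ^ 2 := fun χ h => by
    exact_mod_cast sq_le_sq.2 ((abs_lt_dg hG h z2 (v1 χ)).le.trans (le_abs_self _))
  have u1 := bd φ f1
  have u2 := bd x a1.1.1
  have u3 := bd y a1.2.1.1
  have u4 := bd w a1.2.2.1
  rw [s5, show ∑ χ ∈ B, D.n 1 χ * v χ = -(1 + v φ + v x + v y + v w) by
    have := v_zero hG D.θ1 z2 z3 (v1 _) _ D.deg; omega] at s7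
  simp only [v2, v_zero hG D.θ1 z2 z3 (v1 _) _ D.deg, dg_tr1, f3, a1, e2] at s7 u1 u2 u3 u4
  push_cast at s7 u1 u2 u3 u4
  have u5 : 0 < D.F 1 v := by
    rw [s7]
    nlinarith [sq_nonneg ((v φ : ℚ) - 1), sq_nonneg ((v x : ℚ) - 1), sq_nonneg ((v y : ℚ) - 1),
      sq_nonneg ((v w : ℚ) - 1), sq_nonneg ((v φ : ℚ) - v x), sq_nonneg ((v φ : ℚ) - v y),
      sq_nonneg ((v φ : ℚ) - v w), sq_nonneg ((v x : ℚ) - v y), sq_nonneg ((v x : ℚ) - v w),
      sq_nonneg ((v y : ℚ) - v w), sq_nonneg (v φ : ℚ), sq_nonneg (v x : ℚ), sq_nonneg (v y : ℚ),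
      sq_nonneg (v w : ℚ)]
  have u6 : D.F 1 v ≤ 64 := by
    rw [s7]
    nlinarith [sq_nonneg (-(1 + v φ + v x + v y + v w) : ℚ)]
  have u7 := (D.invol' z1 one_ne_zero v1 u5.ne').2
  have u8 : (2 : ℚ) ^ a ≤ Nat.card (centralizer ({z} : Set G)) := by
    exact_mod_cast Nat.le_of_dvd Nat.card_pos z4
  have u9 : (2 : ℚ) ^ a ≤ 576 := by
    have : (0 : ℚ) < 2 ^ a := by positivity
    nlinarith
  have a10 : a < 10 := lt_of_not_ge fun e => by
    have := pow_le_pow_right₀ (show (1 : ℚ) ≤ 2 by norm_num) e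
    linarith
  have := hf ▸ D.f_mod
  clear * - this a10
  interval_cases a <;> first | rfl | exact absurd this (by decide)

instance fact7 : Fact (Nat.Prime 7) := ⟨by norm_num⟩

theorem case7 (hG : ¬ IsMulCommutative G) (D : QD G 7 a) (hf : D.f = 2) : a = 3 ∧
    ∀ z : G, z * z = 1 → z ≠ 1 → Nat.card (centralizer ({z} : Set G)) = 8 := by
  obtain ⟨φ, h1, h2, h3, -, h4⟩ := D.f2 hG hf one_ne_zero
  obtain ⟨-, e1, e2⟩ := h3.resolve_left (by omega)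
  have e3 : D.i = 3 := by
    have := D.deg'
    rw [e2] at this
    exact Nat.pow_right_injective (le_refl 2) (by exact_mod_cast (show (2 : ℤ) ^ D.i = 2 ^ 3 from this))
  have k : ∀ z : G, z * z = 1 → z ≠ 1 → ∃ s : ℤ, D.θ.1 z = s ∧ s < 8 ∧
      2 ^ a * (8 - s) ^ 2 = 8 * Nat.card (centralizer ({z} : Set G)) ^ 2 ∧ D.Inv z := fun z z1 z2 => by
    obtain ⟨v, v1, v2⟩ := exists_v z1
    have v3 := (h4 v).symm.trans (D.dot_v 1 z1 v1)
    have v4 := (le_abs_self _).trans_lt (abs_lt_dg hG D.θ1 z2 (v1 _))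
    simp only [v2, e2, Int.cast_id, D.deg, e3] at v3 v4
    have v5 : D.F 1 v = (8 - v D.θ) ^ 2 / 72 := by
      rw [QD.F, h4]
      norm_num [v2, e1, e2, dg_tr1, D.deg, e3, show v φ = 1 + v D.θ by omega]
      ring
    have v6 := D.invol' z1 one_ne_zero v1 (by
      have : (v D.θ : ℚ) < 8 := by exact_mod_cast v4
      rw [v5]
      exact (div_pos (pow_pos (sub_pos.2 this) 2) (by norm_num)).ne')
    refine ⟨_, v1 _, v4, ?_, v6.1⟩
    rw [v5] at v6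
    exact_mod_cast (show (2 ^ a * (8 - v D.θ) ^ 2 : ℚ) = 8 * _ from
      Eq.trans (by ring) (congrArg (8 * ·) v6.2))
  obtain ⟨z, z1, z2, z3, z4⟩ := D.exists_central
  obtain ⟨s, s1, -, s3, w, w1, w2⟩ := k z z1 z2
  obtain rfl := v_zero hG D.θ1 z2 z3 s1 _ D.deg
  have u1 : (2 : ℤ) ^ a ≤ Nat.card (centralizer ({z} : Set G)) := by
    exact_mod_cast Nat.le_of_dvd Nat.card_pos z4
  have u2 := pow_le_pow_right₀ (show (1 : ℤ) ≤ 2 by norm_num) (e3 ▸ D.i_le)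
  obtain rfl : a = 3 := le_antisymm (le_of_not_gt fun e => by
    have := pow_le_pow_right₀ (show (1 : ℤ) ≤ 2 by norm_num) e
    nlinarith) (e3 ▸ D.i_le)
  refine ⟨rfl, fun t t1 t2 => ?_⟩
  obtain ⟨-, -, -, -, u, c1, c2⟩ := k t t1 t2
  have c3 := (c1.trans (c2.conj w2)).trans w1.symm
  have c4 := sum_irr_mul_conj t z
  have c5 := sum_irr_mul_conj z z
  simp only [IsClassFunction.of_isConj (IsCharacter.isClassFunction (chi _)) c3, c3, if_true,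
    IsConj.refl] at c4 c5
  have c6 : Nat.card (centralizer ({t} : Set G)) = Nat.card (centralizer ({z} : Set G)) := by
    exact_mod_cast c4.symm.trans c5
  rw [c6]
  nlinarith

theorem cent_gt (hG : ¬ IsMulCommutative G) (D : QD G 7 a) (hf : D.f = 2) {g : G}
    (hg : orderOf g = 4) : 4 < Nat.card (centralizer ({g} : Set G)) := by
  classical
  have k : ∀ j, j ≠ 0 → ∃ φ, dg φ = 9 ∧ D.η = 1 ∧ φ.1 g = 1 + D.θ.1 g ∧ D.n j φ = -1 ∧
      ∀ l, l ≠ 0 → l ^ 2 ≠ j ^ 2 → D.n l φ = 0 := fun j hj => by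
    obtain ⟨φ, h1, h2, h3, h4, h5⟩ := D.f2 hG hf hj
    obtain ⟨-, e1, e2⟩ := h3.resolve_left (by omega)
    have h6 := (h5 fun χ => χ.1 g).symm.trans (D.ev_n_zero j (by norm_num [hg]))
    refine ⟨φ, e1, e2, ?_, by rw [h4, e2], fun l hl e => ?_⟩
    · simp only [e2, tr1, Int.cast_one, one_mul] at h6
      exact (sub_eq_zero.1 h6).symm
    have h7 := (h5 (D.n l)).symm.trans (D.dot_n hj hl)
    simp only [D.n_tr1 hl, D.n_θ hl, e2, hf, if_neg e, Int.cast_id] at h7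
    omega
  obtain ⟨x, x1, e, x2, x3, x4⟩ := k 1 (by decide)
  obtain ⟨y, y1, -, y2, y3, y4⟩ := k 2 (by decide)
  obtain ⟨w, w1, -, w2, w3, w4⟩ := k 3 (by decide)
  have d1 : x ≠ y := by rintro rfl; have := x4 2 (by decide) (by decide); omega
  have d2 : x ≠ w := by rintro rfl; have := x4 3 (by decide) (by decide); omega
  have d3 : y ≠ w := by rintro rfl; have := y4 3 (by decide) (by decide); omega
  have e8 : dg D.θ = 8 := by
    have := D.deg'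
    rw [e] at this
    rw [D.deg]
    exact_mod_cast (show (2 : ℤ) ^ D.i = 8 from this)
  have ne : ∀ χ ψ : IrrCharacter G, dg χ ≠ dg ψ → χ ≠ ψ := fun χ ψ h e => h (e ▸ rfl)
  have h1 := sum_irr_mul_conj g g
  simp only [IsConj.refl, if_true, Complex.mul_conj] at h1
  have h2 : ∑ χ : IrrCharacter G, Complex.normSq (χ.1 g) = Nat.card (centralizer ({g} : Set G)) := by
    exact_mod_cast h1
  have h3 := sum_le_univ_sum_of_nonneg (s := {tr1 G, D.θ, D.β, x, y, w})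
    fun χ : IrrCharacter G => Complex.normSq_nonneg (χ.1 g)
  have h4 : D.β.1 g = D.θ.1 g - 1 := by simp [D.rel g (by norm_num [hg]), e]
  simp only [mem_insert, mem_singleton, ne, dg_tr1, e8, D.degβ, x1, y1, w1, d1, d2, d3, ne_eq,
    not_false_iff, or_self, sum_insert, sum_singleton, h2, h4, x2, y2, w2, Nat.reduceEqDiff] at h3
  simp only [tr1, Complex.normSq_apply, Complex.add_re, Complex.add_im, Complex.sub_re,
    Complex.sub_im, Complex.one_re, Complex.one_im] at h3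
  exact_mod_cast (show (4 : ℝ) < Nat.card (centralizer ({g} : Set G)) by
    nlinarith [sq_nonneg (5 * (D.θ.1 g).re + 2), sq_nonneg (D.θ.1 g).im])

end Cfsg.Agent.H3.NQ
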