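import Mathlib

set_option autoImplicit false

namespace Cfsg.Agent.H3

open Nat

/-- divisibility data for a transitive nilpotent group of degree `d` and order `r` -/
def TrB (d r : ℕ) : Prop := ∀ p k : ℕ, p.Prime → p ^ k ∣ r → ∃ j, p ^ j ∣ d ∧ p ^ k ∣ (p ^ j)!

theorem TrB.two_pow {e r : ℕ} (h : TrB (2 ^ e) r) (hr : r ≠ 0) : ∃ k, r = 2 ^ k := by
  refine ⟨_, Nat.eq_prime_pow_of_unique_prime_dvd hr fun {q} hq hqr => ?_⟩
  obtain ⟨j, h1, h2⟩ := h q 1 hq (by simpa using hqr)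
  rcases Nat.eq_zero_or_pos j with rfl | hj
  · simp at h2; exact absurd h2 hq.ne_one
  · exact (Nat.prime_dvd_prime_iff_eq hq Nat.prime_two).1
      (hq.dvd_of_dvd_pow ((dvd_pow_self q hj.ne').trans h1))

theorem mul_lt_of_pow_dvd_factorial {p k m : ℕ} (hp : p.Prime) (hm : m ≠ 0) (h : p ^ k ∣ m !) :
    (p - 1) * k < m := by
  have : Fact p.Prime := ⟨hp⟩
  have h1 := sub_one_mul_padicValNat_factorial_lt_of_ne_zero (p := p) hm
  have h2 := (padicValNat_dvd_iff_le (factorial_ne_zero m)).1 h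
  exact lt_of_le_of_lt (Nat.mul_le_mul_left _ h2) h1

theorem sq_le_three_pow (p : ℕ) (hp : 3 ≤ p) : p ^ 2 ≤ 3 ^ (p - 1) := by
  induction p, hp using Nat.le_induction with
  | base => norm_num
  | succ n hn ih =>
    rw [show n + 1 - 1 = n - 1 + 1 by omega, pow_succ 3]
    nlinarith

theorem TrB.of_coprime {p j b n a : ℕ} (hp : p.Prime) (ha : ¬ p ∣ a) (h : TrB (p ^ j * b) (p ^ n * a)) :
    TrB b a := by
  intro q k hq hk
  rcases Nat.eq_zero_or_pos k with rfl | hk0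
  · exact ⟨0, by simp, by simp⟩
  obtain ⟨i, h1, h2⟩ := h q k hq (hk.mul_left _)
  refine ⟨i, ?_, h2⟩
  have hqp : q ≠ p := fun e => ha (e ▸ (dvd_pow_self q hk0.ne').trans hk)
  exact (Nat.Coprime.pow _ _ ((Nat.coprime_primes hq hp).2 hqp)).dvd_of_dvd_mul_left h1

theorem TrB.odd_bound (r : ℕ) : ∀ b, Odd r → 0 < b → TrB b r → r ^ 2 ≤ 3 ^ (b - 1) := by
  induction r using Nat.recOnPrimePow with
  | zero => intro b h; simp at h
  | one => intro b _ _ _; simpa using Nat.one_le_pow _ _ (by norm_num)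
  | prime_pow_mul a p n hp ha hn ih =>
    intro b hodd hb h
    obtain ⟨j, ⟨b', rfl⟩, h2⟩ := h p n hp (dvd_mul_right _ _)
    have hb' : 0 < b' := Nat.pos_of_mul_pos_left hb
    have h3 := ih b' (Nat.Odd.of_mul_right hodd) hb' (h.of_coprime hp ha)
    have hp3 : 3 ≤ p := by
      have h4 : p ≠ 2 := by
        rintro rfl
        exact (Nat.not_even_iff_odd.2 hodd) ((Nat.even_pow.2 ⟨even_two, hn.ne'⟩).mul_right _)
      have := hp.two_le; omega
    have hpj : 0 < p ^ j := pow_pos hp.pos _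
    have h4 := mul_lt_of_pow_dvd_factorial hp hpj.ne' h2
    have h5 : (p ^ n) ^ 2 ≤ 3 ^ (p ^ j - 1) := by
      rw [← pow_mul, mul_comm, pow_mul]
      refine (Nat.pow_le_pow_left (sq_le_three_pow p hp3) n).trans ?_
      rw [← pow_mul]
      exact Nat.pow_le_pow_right (by norm_num) (by omega)
    rw [mul_pow]
    refine (Nat.mul_le_mul h5 h3).trans ?_
    rw [← pow_add]
    apply Nat.pow_le_pow_right (by norm_num)
    obtain ⟨x, hx⟩ : ∃ x, p ^ j = x + 1 := ⟨p ^ j - 1, by omega⟩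
    obtain ⟨y, rfl⟩ : ∃ y, b' = y + 1 := ⟨b' - 1, by omega⟩
    rw [hx]
    have : (x + 1) * (y + 1) = x * y + x + y + 1 := by ring
    omega

theorem TrB.bound {d r : ℕ} (h : TrB d r) (hd : d ≠ 0) (hr : r ≠ 0) (h2 : ∀ e, d ≠ 2 ^ e) :
    r ^ 2 ≤ 3 ^ (d - 1) := by
  obtain ⟨n, a, ha, rfl⟩ := Nat.exists_eq_two_pow_mul_odd hr
  obtain ⟨e, b, hb, rfl⟩ := Nat.exists_eq_two_pow_mul_odd hd
  have hb3 : 3 ≤ b := by
    obtain ⟨c, rfl⟩ := hb
    rcases Nat.eq_zero_or_pos c with rfl | hc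
    · exact absurd (by simp) (h2 e)
    · omega
  have h3 := TrB.odd_bound a b ha (by omega) (h.of_coprime Nat.prime_two ha.not_two_dvd_nat)
  obtain ⟨j, h4, h5⟩ := h 2 n Nat.prime_two (dvd_mul_right _ _)
  have h6 : 2 ^ j ∣ 2 ^ e :=
    (Nat.Coprime.pow_left _ (Nat.coprime_two_left.2 hb)).dvd_of_dvd_mul_right h4
  have h7 := mul_lt_of_pow_dvd_factorial Nat.prime_two (by positivity) h5
  have h8 := Nat.le_of_dvd (by positivity) h6
  have h9 : (2 ^ n) ^ 2 ≤ 3 ^ (2 * n) := by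
    rw [← pow_mul, mul_comm]
    exact Nat.pow_le_pow_left (by norm_num) _
  rw [mul_pow]
  refine (Nat.mul_le_mul h9 h3).trans ?_
  rw [← pow_add]
  apply Nat.pow_le_pow_right (by norm_num)
  obtain ⟨x, hx⟩ : ∃ x, 2 ^ e = x + 1 := ⟨2 ^ e - 1, by omega⟩
  rw [hx]
  have : 2 * n ≤ x * b := by nlinarith
  have : (x + 1) * b = x * b + b := by ring
  omega

/-- largest order of a transitive nilpotent group of small degree -/
def tabD (d : ℕ) : ℕ := [1, 1, 2, 3, 8, 5, 6, 7, 128, 81, 10, 11, 24, 13, 14, 15].getD d 0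

/-- bound for nilpotent groups on few points without orbit of `2`-power length -/
def tabG (m : ℕ) : ℕ := [1, 0, 0, 3, 0, 5, 9, 7, 15, 81, 25, 45, 243, 75, 405, 729].getD m 0

set_option synthInstance.maxSize 2000 in
theorem tabD_aux : ∀ d < 16, ∀ p ∈ [2, 3, 5, 7, 11, 13], ∀ j < 4, ∀ k < 16, d ≠ 0 → p ^ j ∣ d →
    p ^ k ∣ (p ^ j)! → p ^ k ∣ tabD d := by decide +kernel

theorem TrB.dvd_tabD {d r : ℕ} (h : TrB d r) (hd : d ≠ 0) (h16 : d < 16) : r ∣ tabD d := by
  refine (Nat.dvd_iff_prime_pow_dvd_dvd _ _).2 fun p k hp hk => ?_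
  obtain ⟨j, h1, h2⟩ := h p k hp hk
  rcases Nat.eq_zero_or_pos j with rfl | hj
  · simp only [pow_zero, factorial_one] at h2
    exact h2.trans (one_dvd _)
  have h3 := Nat.le_of_dvd (by omega) h1
  have h4 : p ≤ p ^ j := Nat.le_self_pow hj.ne' p
  have h5 : 2 ^ j ≤ p ^ j := Nat.pow_le_pow_left hp.two_le j
  have h6 : j < 4 := (Nat.pow_lt_pow_iff_right (a := 2) (by norm_num)).1 (by omega)
  have h7 := mul_lt_of_pow_dvd_factorial hp (pow_pos hp.pos _).ne' h2
  have h8 : k ≤ (p - 1) * k := Nat.le_mul_of_pos_left _ (by have := hp.two_le; omega)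
  refine tabD_aux d h16 p ?_ j h6 k (by omega) hd h1 h2
  have h9 : p < 16 := by omega
  interval_cases p <;> first | decide | (exact absurd hp (by norm_num))

/-- square of the bound -/
def sqG (m : ℕ) : ℕ := if m < 16 then tabG m ^ 2 else 3 ^ (m - 1)

theorem sqG_le (m : ℕ) : sqG m ≤ 3 ^ (m - 1) := by
  unfold sqG
  split_ifs with h
  · revert m; decide
  · exact le_rfl

set_option synthInstance.maxSize 2000 in
theorem tabG_step : ∀ d < 16, ∀ a < 16, d + a < 16 → d ≠ 0 → (∀ e < 4, d ≠ 2 ^ e) →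
    tabD d * tabG a ≤ tabG (d + a) := by decide +kernel

theorem sqG_step {d r a u : ℕ} (h : TrB d r) (hd : d ≠ 0) (hr : r ≠ 0) (h2 : ∀ e, d ≠ 2 ^ e)
    (hu : u ^ 2 ≤ sqG a) : (r * u) ^ 2 ≤ sqG (d + a) := by
  by_cases h16 : d + a < 16
  · have h3 := tabG_step d (by omega) a (by omega) h16 hd fun e _ => h2 e
    have h4 : r ≤ tabD d := Nat.le_of_dvd (by
      have : ∀ d < 16, 0 < tabD d := by decide
      exact this d (by omega)) (h.dvd_tabD hd (by omega))
    rw [sqG, if_pos (by omega)] at hu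
    rw [sqG, if_pos h16]
    exact Nat.pow_le_pow_left
      ((Nat.mul_le_mul h4 ((Nat.pow_le_pow_iff_left (by norm_num)).1 hu)).trans h3) 2
  · rw [sqG, if_neg h16, mul_pow]
    refine (Nat.mul_le_mul (h.bound hd hr h2) (hu.trans (sqG_le a))).trans ?_
    rw [← pow_add]
    exact Nat.pow_le_pow_right (by norm_num) (by omega)

/-- the `2`-part of the factorial -/
def w2 (n : ℕ) : ℕ := 2 ^ (n !).factorization 2

theorem w2_pos (n : ℕ) : 0 < w2 n := by unfold w2; positivity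

theorem two_pow_dvd_w2 {k n : ℕ} (h : 2 ^ k ∣ n !) : 2 ^ k ∣ w2 n :=
  pow_dvd_pow _ ((Nat.prime_two.pow_dvd_iff_le_factorization (factorial_ne_zero n)).1 h)

theorem w2_dvd (n : ℕ) : w2 n ∣ n ! := Nat.ordProj_dvd _ _

theorem not_two_mul_w2_dvd (n : ℕ) : ¬ 2 ^ ((n !).factorization 2 + 1) ∣ n ! :=
  Nat.pow_succ_factorization_not_dvd (factorial_ne_zero n) Nat.prime_two

theorem w2_mul (a b : ℕ) : w2 a * w2 b ≤ w2 (a + b) := by
  refine Nat.le_of_dvd (w2_pos _) ?_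
  have := (Nat.mul_dvd_mul (w2_dvd a) (w2_dvd b)).trans (factorial_mul_factorial_dvd_factorial_add a b)
  rw [w2, w2, ← pow_add] at this ⊢
  exact two_pow_dvd_w2 this

theorem w2_small {n : ℕ} (h : n < 32) : w2 n = 2 ^ (n / 2 + n / 4 + n / 8 + n / 16) := by
  rw [w2, Nat.factorization_factorial Nat.prime_two (b := 5)
    (Nat.log_lt_of_lt_pow' (by norm_num) h)]
  simp [Finset.sum_Ico_eq_sum_range, Finset.sum_range_succ]

theorem w2_succ (n : ℕ) : w2 (n + 1) = 2 ^ (n + 1).factorization 2 * w2 n := by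
  rw [w2, w2, factorial_succ, Nat.factorization_mul (by omega) (factorial_ne_zero n), ← pow_add]
  rfl

theorem w2_succ_of_odd {n : ℕ} (h : n % 2 = 0) : w2 (n + 1) = w2 n := by
  rw [w2_succ, Nat.factorization_eq_zero_of_not_dvd (by omega)]; simp

theorem w2_succ_of_two {n : ℕ} (h : n % 4 = 1) : w2 (n + 1) = 2 * w2 n := by
  obtain ⟨c, hc⟩ : ∃ c, n + 1 = 2 * c := ⟨(n + 1) / 2, by omega⟩
  rw [w2_succ, hc, Nat.factorization_mul (by omega) (by omega), Finsupp.add_apply,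
    Nat.factorization_eq_zero_of_not_dvd (n := c) (by omega), Nat.prime_two.factorization_self]
  simp

theorem w2_add_three {n : ℕ} (h : n % 4 = 0) : w2 (n + 3) = 2 * w2 n := by
  rw [w2_succ_of_odd (by omega), w2_succ_of_two (by omega), w2_succ_of_odd (by omega)]

theorem le_w2_succ (n : ℕ) : w2 n ≤ w2 (n + 1) := by
  have := w2_mul n 1
  rw [w2_small (n := 1) (by norm_num)] at this
  simpa using this

theorem two_mul_le_w2_succ {n : ℕ} (h : n % 2 = 1) : 2 * w2 n ≤ w2 (n + 1) := by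
  rw [w2_succ]
  exact Nat.mul_le_mul_right _ (Nat.le_self_pow (by
    have := (Nat.prime_two.dvd_iff_one_le_factorization (n := n + 1) (by omega)).1 (by omega)
    omega) 2)

theorem four_mul_le_w2_succ {n : ℕ} (h : n % 4 = 3) : 4 * w2 n ≤ w2 (n + 1) := by
  rw [w2_succ]
  refine Nat.mul_le_mul_right _ ?_
  have := (Nat.prime_two.pow_dvd_iff_le_factorization (n := n + 1) (k := 2) (by omega)).1 (by omega)
  exact Nat.pow_le_pow_right (n := 2) (by norm_num) this

theorem four_mul_le_w2_add_three {n : ℕ} (h : n % 4 ≠ 0) : 4 * w2 n ≤ w2 (n + 3) := by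
  have a1 := le_w2_succ n
  have a2 : w2 (n + 1) ≤ w2 (n + 2) := le_w2_succ (n + 1)
  have a3 : w2 (n + 2) ≤ w2 (n + 3) := le_w2_succ (n + 2)
  have : n % 4 = 1 ∨ n % 4 = 2 ∨ n % 4 = 3 := by omega
  rcases this with e | e | e
  · have : _ ≤ w2 (n + 3) := four_mul_le_w2_succ (n := n + 2) (by omega); omega
  · have : _ ≤ w2 (n + 2) := four_mul_le_w2_succ (n := n + 1) (by omega); omega
  · have := four_mul_le_w2_succ (n := n) (by omega); omega

theorem three_pow_lt_w2 (m : ℕ) (hm : 16 ≤ m) : 4 * 3 ^ (m - 1) ≤ w2 m ^ 2 := by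
  induction m using Nat.strong_induction_on with
  | _ m ih =>
  by_cases h : 24 ≤ m
  · obtain ⟨c, rfl⟩ : ∃ c, m = c + 8 := ⟨m - 8, by omega⟩
    have h1 := ih c (by omega) (by omega)
    have h2 := Nat.pow_le_pow_left (w2_mul c 8) 2
    rw [w2_small (n := 8) (by norm_num), mul_pow] at h2
    rw [show c + 8 - 1 = c - 1 + 8 by omega, pow_add]
    omega
  · rw [w2_small (by omega)]
    push Not at h
    interval_cases m <;> norm_num

theorem le_w2_of_sqG {m r : ℕ} (h : r ^ 2 ≤ sqG m) (h3 : m ≠ 3) : r ≤ w2 m := by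
  by_cases h16 : m < 16
  · rw [sqG, if_pos h16] at h
    refine ((Nat.pow_le_pow_iff_left (by norm_num)).1 h).trans ?_
    rw [w2_small (by omega)]
    interval_cases m <;> first | decide | omega
  · rw [sqG, if_neg h16] at h
    have := three_pow_lt_w2 m (by omega)
    exact (Nat.pow_le_pow_iff_left (n := 2) (by norm_num)).1 (by omega)

theorem two_mul_le_w2_of_sqG {m n r : ℕ} (h : r ^ 2 ≤ sqG m) (hn : n = m ∨ n = m + 1) (h2 : 2 ≤ n)
    (h3 : n ≠ 3) (h5 : n ≠ 5) (h6 : n ≠ 6) (h9 : n ≠ 9) : 2 * r ≤ w2 n ∨ (n = 7 ∧ r ≤ 9) := by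
  by_cases h16 : m < 16
  · rw [sqG, if_pos h16] at h
    have h1 := (Nat.pow_le_pow_iff_left (by norm_num)).1 h
    rw [w2_small (by omega)]
    rcases hn with e | e <;> rw [e] at h2 h3 h5 h6 h9 ⊢ <;> interval_cases m <;>
      simp [tabG] at h1 h2 h3 h5 h6 h9 ⊢ <;> omega
  · rw [sqG, if_neg h16] at h
    have := three_pow_lt_w2 m (by omega)
    have h4 : 2 * r ≤ w2 m := (Nat.pow_le_pow_iff_left (n := 2) (by norm_num)).1 (by
      rw [mul_pow]; omega)
    have := le_w2_succ m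
    left
    rcases hn with rfl | rfl <;> omega

end Cfsg.Agent.H3
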