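import Cfsg.Agent.H3.Abel
import Cfsg.Agent.H3.NilpNum

set_option autoImplicit false
set_option linter.unusedSectionVars false

namespace Cfsg.Agent.H3

open Equiv Equiv.Perm Subgroup MulAction

theorem sylow_sup_centralizer {G : Type*} [Group G] [Finite G] [Group.IsNilpotent G] {p : ℕ}
    [Fact p.Prime] (P : Sylow p G) :
    centralizer ((P : Subgroup G) : Set G) ⊔ (P : Subgroup G) = ⊤ := by
  rw [← index_eq_one]
  by_contra h
  obtain ⟨q, hq, hqd⟩ := Nat.exists_prime_and_dvd h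
  have : Fact q.Prime := ⟨hq⟩
  by_cases e : q = p
  · subst e
    exact P.not_dvd_index (hqd.trans (index_dvd_of_le le_sup_right))
  · obtain ⟨Q⟩ : Nonempty (Sylow q G) := inferInstance
    refine Q.not_dvd_index (hqd.trans (index_dvd_of_le (le_trans ?_ le_sup_left)))
    intro x hx
    rw [mem_centralizer_iff]
    intro y hy
    exact commute_of_normal_of_disjoint _ _ inferInstance inferInstance
      (IsPGroup.disjoint_of_ne p q (Ne.symm e) _ _ P.isPGroup' Q.isPGroup') y x hy hx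

theorem trB_of_nilpotent {G β : Type*} [Group G] [Finite G] [Group.IsNilpotent G] [MulAction G β]
    [FaithfulSMul G β] [IsPretransitive G β] [Finite β] (x : β) :
    TrB (Nat.card β) (Nat.card G) := by
  intro p k hp hk
  have : Fact p.Prime := ⟨hp⟩
  obtain ⟨P⟩ : Nonempty (Sylow p G) := inferInstance
  obtain ⟨j, hj⟩ := P.isPGroup'.card_orbit x
  refine ⟨j, ?_, (P.pow_dvd_card_of_pow_dvd_card hk).trans ?_⟩
  · have := (IsBlock.orbit_of_normal (N := (P : Subgroup G)) x).ncard_dvd_card ⟨x, mem_orbit_self x⟩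
    rwa [← Nat.card_coe_set_eq, hj] at this
  · rw [← hj, ← Nat.card_perm]
    refine card_dvd_of_injective (MulAction.toPermHom (P : Subgroup G) (orbit (P : Subgroup G) x)) ?_
    rw [injective_iff_map_eq_one]
    intro g hg
    apply Subtype.ext
    apply FaithfulSMul.eq_of_smul_eq_smul (α := β)
    intro y
    obtain ⟨h, rfl⟩ := exists_smul_eq G x y
    have h1 : h ∈ centralizer ((P : Subgroup G) : Set G) ⊔ (P : Subgroup G) := by
      rw [sylow_sup_centralizer]; trivial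
    rw [← SetLike.mem_coe, mul_normal] at h1
    obtain ⟨c, hc, u, hu, rfl⟩ := h1
    have h2 : (g : G) • u • x = u • x :=
      congrArg Subtype.val (congrArg (fun σ : Perm (orbit (P : Subgroup G) x) =>
        σ ⟨u • x, ⟨u, hu⟩, rfl⟩) hg)
    have h3 : (g : G) * c = c * g := hc g g.2
    simp only [OneMemClass.coe_one, one_smul]
    rw [mul_smul, ← mul_smul, h3, mul_smul, h2]

variable {α : Type*} [DecidableEq α] [Fintype α]

theorem orb_invariant (N : Subgroup (Perm α)) (x : α) :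
    ∀ g ∈ N, ∀ y ∈ orbFin N x, g y ∈ orbFin N x := fun _ hg _ hy => apply_mem_orbFin hg hy

theorem trB_orb (N : Subgroup (Perm α)) [Group.IsNilpotent N] (x : α) :
    TrB (orbFin N x).card ((SymOn (orbFin N x)ᶜ).relIndex N) := by
  rw [relIndex_eq_card_range (orb_invariant N x)]
  set φ := resHom N (orbFin N x) (orb_invariant N x)
  have : Group.IsNilpotent φ.range := Group.nilpotent_of_surjective _ φ.rangeRestrict_surjective
  have : IsPretransitive φ.range (orbFin N x) := ⟨fun y z => by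
    have hz : (z : α) ∈ orbFin N y := by rw [orbFin_eq_of_mem y.2]; exact z.2
    obtain ⟨g, hg, e⟩ := mem_orbFin.1 hz
    exact ⟨⟨φ ⟨g, hg⟩, _, rfl⟩, Subtype.ext e⟩⟩
  have := trB_of_nilpotent (G := φ.range) (⟨x, self_mem_orbFin N x⟩ : orbFin N x)
  rwa [Nat.card_eq_fintype_card (α := orbFin N x), Fintype.card_coe] at this

theorem relIndex_ne_zero' (K N : Subgroup (Perm α)) : K.relIndex N ≠ 0 :=
  index_ne_zero_of_finite

theorem nilp_relIndex_sq (N : Subgroup (Perm α)) [Group.IsNilpotent N] (s : Finset α)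
    (hs : ∀ g ∈ N, ∀ x ∈ s, g x ∈ s) (h2 : ∀ x ∈ s, ∀ e, (orbFin N x).card ≠ 2 ^ e) :
    (SymOn sᶜ).relIndex N ^ 2 ≤ sqG s.card := by
  induction s using Finset.strongInduction with
  | H s ih =>
  rcases s.eq_empty_or_nonempty with rfl | ⟨x, hx⟩
  · simp [SymOn_univ, sqG, tabG]
  have hO := orbFin_subset hs hx
  refine (Nat.pow_le_pow_left (relIndex_split N hO) 2).trans ?_
  have h1 := ih (s \ orbFin N x) (Finset.sdiff_ssubset hO ⟨x, self_mem_orbFin _ _⟩)
    (sdiff_orb_invariant hs x) fun y hy => h2 y (Finset.mem_sdiff.1 hy).1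
  have h3 := sqG_step (trB_orb N x) (Finset.card_pos.2 ⟨x, self_mem_orbFin _ _⟩).ne'
    (relIndex_ne_zero' _ _) (h2 x hx) h1
  rwa [add_comm, Finset.card_sdiff_add_card_eq_card hO] at h3

theorem pow_relIndex_apply {N : Subgroup (Perm α)} {s : Finset α} (hs : ∀ g ∈ N, ∀ x ∈ s, g x ∈ s)
    {g : Perm α} (hg : g ∈ N) {x : α} (hx : x ∈ s) : (g ^ (SymOn sᶜ).relIndex N) x = x := by
  have h1 : (resHom N s hs).rangeRestrict ⟨g, hg⟩ ^ Nat.card (resHom N s hs).range = 1 :=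
    pow_card_eq_one'
  rw [← map_pow, ← relIndex_eq_card_range hs] at h1
  have h2 : resHom N s hs (⟨g, hg⟩ ^ (SymOn sᶜ).relIndex N) = 1 := congrArg Subtype.val h1
  exact congrArg Subtype.val (congrArg (fun σ : Perm s => σ ⟨x, hx⟩) h2)

theorem nilp_struct (N : Subgroup (Perm α)) [Group.IsNilpotent N] : ∃ (M : Finset α) (E : ℕ),
    (SymOn Mᶜ).relIndex N ^ 2 ≤ sqG M.card ∧ ∀ g ∈ N, g ^ 2 ^ E ∈ SymOn M := by
  classical
  let M : Finset α := Finset.univ.filter fun x => ∀ e, (orbFin N x).card ≠ 2 ^ e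
  have hM : ∀ x, x ∈ M ↔ ∀ e, (orbFin N x).card ≠ 2 ^ e := by simp [M]
  have key : ∀ x, ∃ e, x ∉ M → ∀ g ∈ N, (g ^ 2 ^ e) x = x := by
    intro x
    by_cases hx : x ∈ M
    · exact ⟨0, fun h => absurd hx h⟩
    rw [hM] at hx
    push Not at hx
    obtain ⟨e, he⟩ := hx
    obtain ⟨k, hk⟩ := (he ▸ trB_orb N x).two_pow (relIndex_ne_zero' _ _)
    exact ⟨k, fun _ g hg => hk ▸ pow_relIndex_apply (orb_invariant N x) hg (self_mem_orbFin N x)⟩
  choose e he using key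
  refine ⟨M, ∑ x, e x, nilp_relIndex_sq N M (fun g hg x hx => ?_) fun x hx => (hM x).1 hx,
    fun g hg x hx => ?_⟩
  · rw [hM] at hx ⊢
    rwa [orbFin_eq_of_mem (apply_mem_orbFin hg (self_mem_orbFin N x))]
  · obtain ⟨c, hc⟩ : 2 ^ e x ∣ 2 ^ ∑ y, e y :=
      pow_dvd_pow _ (Finset.single_le_sum (fun _ _ => Nat.zero_le _) (Finset.mem_univ x))
    rw [hc, pow_mul]
    exact pow_apply_eq_self_of_apply_eq_self (he x hx g hg) c

theorem card_inf_two_pow {N : Subgroup (Perm α)} {M : Finset α} {E : ℕ}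
    (h : ∀ g ∈ N, g ^ 2 ^ E ∈ SymOn M) : ∃ k, Nat.card (N ⊓ SymOn Mᶜ : Subgroup _) = 2 ^ k := by
  apply IsPGroup.iff_card.1
  intro g
  refine ⟨E, Subtype.ext ?_⟩
  have : (g : Perm α) ^ 2 ^ E ∈ SymOn M ⊓ SymOn Mᶜ := ⟨h _ g.2.1, pow_mem g.2.2 _⟩
  rwa [SymOn_inf, Finset.inter_compl, SymOn_empty, mem_bot] at this

theorem card_inf_le_w2 {N : Subgroup (Perm α)} {M : Finset α} {E : ℕ}
    (h : ∀ g ∈ N, g ^ 2 ^ E ∈ SymOn M) : Nat.card (N ⊓ SymOn Mᶜ : Subgroup _) ≤ w2 Mᶜ.card := by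
  obtain ⟨k, hk⟩ := card_inf_two_pow h
  have := card_dvd_of_le (inf_le_right : N ⊓ SymOn Mᶜ ≤ _)
  rw [card_SymOn, hk] at this
  rw [hk]
  exact Nat.le_of_dvd (w2_pos _) (two_pow_dvd_w2 this)

theorem two_mul_card_inf_le_w2 {N : Subgroup (Perm α)} {M : Finset α} {E : ℕ}
    (h : ∀ g ∈ N, g ^ 2 ^ E ∈ SymOn M) (hN : ∀ g ∈ N, sign g = 1) (h2 : 2 ≤ Mᶜ.card) :
    2 * Nat.card (N ⊓ SymOn Mᶜ : Subgroup _) ≤ w2 Mᶜ.card := by
  obtain ⟨k, hk⟩ := card_inf_two_pow h
  have hle : N ⊓ SymOn Mᶜ ≤ AltOn ((Mᶜ : Finset α) : Set α) := fun g hg => ⟨hN g hg.1, hg.2⟩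
  have := Nat.mul_dvd_mul_left 2 (card_dvd_of_le hle)
  rw [two_mul_card_AltOn _ h2, hk, ← pow_succ'] at this
  rw [hk, ← pow_succ']
  exact Nat.le_of_dvd (w2_pos _) (two_pow_dvd_w2 this)

/-- structure of the extremal groups -/
def Ext3 (N : Subgroup (Perm α)) (M : Finset α) : Prop :=
  M.card = 3 ∧ N ⊓ SymOn M ≤ AltOn (M : Set α) ∧ Nat.card (N ⊓ SymOn M : Subgroup _) = 3 ^ 1 ∧
    Dec N (N ⊓ SymOn M) (N ⊓ SymOn Mᶜ) ∧ Nat.card N = 3 * Nat.card (N ⊓ SymOn Mᶜ : Subgroup _)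

theorem ext3_of {N : Subgroup (Perm α)} {M : Finset α} {E : ℕ} (hM : M.card = 3)
    (h : ∀ g ∈ N, g ^ 2 ^ E ∈ SymOn M)
    (hc : Nat.card N = 3 * Nat.card (N ⊓ SymOn Mᶜ : Subgroup _)) : Ext3 N M := by
  have : Fact (Nat.Prime 3) := ⟨Nat.prime_three⟩
  have hd : (N ⊓ SymOn M) ⊓ (N ⊓ SymOn Mᶜ) = ⊥ := by
    rw [← inf_inf_distrib_left, SymOn_inf, Finset.inter_compl, SymOn_empty, inf_bot_eq]
  have h1 := card_mul_card_le (A := N) inf_le_left inf_le_left hd
  rw [hc] at h1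
  have h2 := Nat.le_of_mul_le_mul_right h1 Nat.card_pos
  obtain ⟨g, hg⟩ := exists_prime_orderOf_dvd_card' (G := N) 3 (hc ▸ dvd_mul_right _ _)
  have hm : (g : Perm α) ^ 2 ^ E ∈ N ⊓ SymOn M := ⟨pow_mem g.2 _, h _ g.2⟩
  have h3 : orderOf (⟨(g : Perm α) ^ 2 ^ E, hm⟩ : (N ⊓ SymOn M : Subgroup _)) = 3 := by
    rw [Subgroup.orderOf_mk, Nat.Coprime.orderOf_pow, Subgroup.orderOf_coe, hg]
    rw [Subgroup.orderOf_coe, hg]
    exact Nat.Coprime.pow_right _ (by norm_num)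
  have h4 := orderOf_dvd_natCard (⟨(g : Perm α) ^ 2 ^ E, hm⟩ : (N ⊓ SymOn M : Subgroup _))
  rw [h3] at h4
  have h5 : Nat.card (N ⊓ SymOn M : Subgroup _) = 3 :=
    le_antisymm h2 (Nat.le_of_dvd Nat.card_pos h4)
  refine ⟨hM, fun u hu => ⟨?_, hu.2⟩, h5, dec_of_card inf_le_left inf_le_left hd (by rw [h5, hc]), hc⟩
  have h6 : (⟨u, hu⟩ : (N ⊓ SymOn M : Subgroup _)) ^ Nat.card (N ⊓ SymOn M : Subgroup _) = 1 :=
    pow_card_eq_one'
  rw [h5] at h6
  have h7 : sign u ^ 3 = 1 := by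
    rw [← map_pow, show u ^ 3 = 1 from congrArg Subtype.val h6, map_one]
  rcases Int.units_eq_one_or (sign u) with e | e
  · exact e
  · rw [e] at h7; exact absurd h7 (by decide)

theorem le_three_of_sqG {r : ℕ} (h : r ^ 2 ≤ sqG 3) : r ≤ 3 :=
  (Nat.pow_le_pow_iff_left (n := 2) (by norm_num)).1 h

theorem nilp_sym (N : Subgroup (Perm α)) [Group.IsNilpotent N] :
    Nat.card N ≤ w2 (Fintype.card α) ∨ (3 ≤ Fintype.card α ∧
      Nat.card N ≤ 3 * w2 (Fintype.card α - 3) ∧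
      (Nat.card N = 3 * w2 (Fintype.card α - 3) → ∃ M, Ext3 N M)) := by
  obtain ⟨M, E, h1, h2⟩ := nilp_struct N
  have h3 := card_eq_relIndex_mul N (SymOn Mᶜ)
  have h4 := card_inf_le_w2 h2
  have h5 := Finset.card_add_card_compl M
  by_cases hM : M.card = 3
  · right
    rw [hM] at h1 h5
    have h6 := le_three_of_sqG h1
    rw [show Mᶜ.card = Fintype.card α - 3 by omega] at h4
    refine ⟨by omega, h3 ▸ Nat.mul_le_mul h6 h4, fun h7 => ⟨M, ext3_of hM h2 ?_⟩⟩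
    have := Nat.mul_le_mul_right (Nat.card (N ⊓ SymOn Mᶜ : Subgroup _)) h6
    omega
  · left
    rw [h3, ← h5]
    exact (Nat.mul_le_mul (le_w2_of_sqG h1 hM) h4).trans (w2_mul _ _)

theorem nilp_alt (N : Subgroup (Perm α)) [Group.IsNilpotent N] (hN : ∀ g ∈ N, sign g = 1)
    (n2 : 2 ≤ Fintype.card α) (n3 : Fintype.card α ≠ 3) (n5 : Fintype.card α ≠ 5)
    (n6 : Fintype.card α ≠ 6) (n9 : Fintype.card α ≠ 9) :
    2 * Nat.card N ≤ w2 (Fintype.card α) ∨ (Fintype.card α = 7 ∧ Nat.card N ≤ 9) ∨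
      (5 ≤ Fintype.card α ∧ 2 * Nat.card N ≤ 3 * w2 (Fintype.card α - 3) ∧
      (2 * Nat.card N = 3 * w2 (Fintype.card α - 3) → ∃ M, Ext3 N M)) := by
  obtain ⟨M, E, h1, h2⟩ := nilp_struct N
  have h3 := card_eq_relIndex_mul N (SymOn Mᶜ)
  have h5 := Finset.card_add_card_compl M
  by_cases hf : 2 ≤ Mᶜ.card
  · have h4 := two_mul_card_inf_le_w2 h2 hN hf
    by_cases hM : M.card = 3
    · right; right
      rw [hM] at h1 h5
      have h6 := le_three_of_sqG h1
      rw [show Mᶜ.card = Fintype.card α - 3 by omega] at h4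
      have := Nat.mul_le_mul_right (Nat.card (N ⊓ SymOn Mᶜ : Subgroup _)) h6
      exact ⟨by omega, by omega, fun h7 => ⟨M, ext3_of hM h2 (by omega)⟩⟩
    · left
      rw [h3, ← h5, mul_left_comm]
      exact (Nat.mul_le_mul (le_w2_of_sqG h1 hM) h4).trans (w2_mul _ _)
  · have h4 := card_inf_le_w2 h2
    rw [w2_small (by omega), show Mᶜ.card / 2 + Mᶜ.card / 4 + Mᶜ.card / 8 + Mᶜ.card / 16 = 0 by omega,
      pow_zero] at h4
    have h6 := Nat.mul_le_mul_left ((SymOn Mᶜ).relIndex N) h4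
    rcases two_mul_le_w2_of_sqG h1 (n := Fintype.card α) (by omega) n2 n3 n5 n6 n9 with e | e
    · left; omega
    · right; left; omega

theorem card_sylow_perm (P : Sylow 2 (Perm α)) :
    Nat.card (P : Subgroup (Perm α)) = w2 (Fintype.card α) := by
  rw [P.card_eq_multiplicity, Nat.card_perm, Nat.card_eq_fintype_card, w2]

theorem card_sylow_alt (h : 2 ≤ Fintype.card α) (P : Sylow 2 (alternatingGroup α)) :
    2 * Nat.card (P : Subgroup (alternatingGroup α)) = w2 (Fintype.card α) := by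
  have : Nontrivial α := Fintype.one_lt_card_iff_nontrivial.1 h
  rw [P.card_eq_multiplicity, w2, ← Nat.card_eq_fintype_card, ← Nat.card_perm,
    ← two_mul_nat_card_alternatingGroup, Nat.factorization_mul (by norm_num) Nat.card_pos.ne',
    Finsupp.add_apply, Nat.prime_two.factorization_self, pow_add, pow_one]

theorem Ext3.cj {A B : Subgroup (Perm α)} {M1 M2 : Finset α} (hA : Ext3 A M1) (hB : Ext3 B M2)
    (W : Subgroup (Perm α)) (hW : alternatingGroup α ≤ W)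
    (IH : ∀ σ V, Cj σ (A ⊓ SymOn M1ᶜ) V → V ≤ SymOn M2ᶜ →
      ∃ τ ∈ W ⊓ SymOn M2ᶜ, Cj τ V (B ⊓ SymOn M2ᶜ)) : ∃ g ∈ W, Cj g A B := by
  have : Fact (Nat.Prime 3) := ⟨Nat.prime_three⟩
  refine cj_step (s := Finset.univ) (Finset.subset_univ M1) (Finset.subset_univ M2)
    (hA.1.trans hB.1.symm) (by rw [hB.1]; norm_num) hA.2.2.2.1 hB.2.2.2.1 hA.2.1 hB.2.1
    hA.2.2.1 hB.2.2.1 ?_ inf_le_right W (by rwa [Finset.coe_univ, AltOn_univ]) IH
  have := two_mul_card_AltOn M2 (by rw [hB.1]; norm_num)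
  rw [hB.1] at this
  simp only [Nat.factorial] at this
  omega

theorem Ext3.cj_sym {A B : Subgroup (Perm α)} {M1 M2 : Finset α} (hA : Ext3 A M1) (hB : Ext3 B M2)
    (cA : Nat.card A = 3 * w2 (Fintype.card α - 3)) (cB : Nat.card B = 3 * w2 (Fintype.card α - 3)) :
    ∃ g, Cj g A B := by
  obtain ⟨g, -, hg⟩ := hA.cj hB ⊤ le_top fun σ V h1 h2 => by
    have a1 := hA.2.2.2.2
    have a2 := hB.2.2.2.2
    rw [top_inf_eq]
    refine exists_cj_of_card (p := 2) (k := ((Fintype.card α - 3).factorial).factorization 2) h2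
      inf_le_right ?_ ?_ ?_
    · rw [← h1.card_eq, ← w2]; omega
    · rw [← w2]; omega
    · rw [card_SymOn, Finset.card_compl, hB.1]
      exact not_two_mul_w2_dvd _
  exact ⟨g, hg⟩

theorem Ext3.cj_alt {A B : Subgroup (Perm α)} {M1 M2 : Finset α} (hA : Ext3 A M1) (hB : Ext3 B M2)
    (sA : ∀ g ∈ A, sign g = 1) (sB : ∀ g ∈ B, sign g = 1) (h5 : 5 ≤ Fintype.card α)
    (cA : 2 * Nat.card A = 3 * w2 (Fintype.card α - 3))
    (cB : 2 * Nat.card B = 3 * w2 (Fintype.card α - 3)) :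
    ∃ g ∈ alternatingGroup α, Cj g A B := by
  refine hA.cj hB _ le_rfl fun σ V h1 h2 => ?_
  have a1 := hA.2.2.2.2
  have a2 := hB.2.2.2.2
  obtain ⟨k, hk⟩ : ∃ k, ((Fintype.card α - 3).factorial).factorization 2 = k + 1 := by
    refine ⟨_, (Nat.succ_pred_eq_of_pos ?_).symm⟩
    exact (Nat.prime_two.dvd_iff_one_le_factorization (Nat.factorial_ne_zero _)).1
      (Nat.dvd_factorial (by norm_num) (by omega))
  have hw : w2 (Fintype.card α - 3) = 2 * 2 ^ k := by rw [w2, hk, pow_succ']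
  obtain ⟨τ, hτ, hτ'⟩ := exists_cj_of_card (p := 2) (k := k) (L := AltOn ((M2ᶜ : Finset α) : Set α))
    (K1 := V) (K2 := B ⊓ SymOn M2ᶜ) (fun a ha => ⟨by
      have := sA _ ((h1.symm a).1 ha).1
      rwa [Perm.sign_mul, Perm.sign_mul, mul_right_comm, ← Perm.sign_mul, mul_inv_cancel, map_one,
        one_mul] at this, h2 ha⟩) (fun a ha => ⟨sB a ha.1, ha.2⟩)
    (by rw [← h1.card_eq]; omega) (by omega) (fun h => by
      have := Nat.mul_dvd_mul_left 2 h
      rw [two_mul_card_AltOn _ (by rw [Finset.card_compl, hB.1]; omega), Finset.card_compl, hB.1,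
        ← pow_succ', ← hk] at this
      exact not_two_mul_w2_dvd _ this)
  exact ⟨τ, ⟨hτ.1, hτ.2⟩, hτ'⟩

/-- the embedding of `H × C₃` -/
theorem exists_prod_three {n : ℕ} (hn : 3 ≤ n) {H : Type*} [Group H] (f : H →* Perm (Fin (n - 3)))
    (hf : Function.Injective f) : ∃ φ : H × Multiplicative (ZMod 3) →* Perm (Fin n),
      Function.Injective φ ∧ ∀ p, sign (φ p) = sign (f p.1) := by
  let e : Fin (n - 3) ⊕ Multiplicative (ZMod 3) ≃ Fin n :=
    Fintype.equivFinOfCardEq (by simp; omega)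
  refine ⟨(sumHom e).comp (f.prodMap (MulAction.toPermHom _ _)),
    (sumHom_injective e).comp (hf.prodMap MulAction.toPerm_injective), fun p => ?_⟩
  rw [MonoidHom.comp_apply, sign_sumHom]
  have : ∀ z : Multiplicative (ZMod 3),
      sign (MulAction.toPermHom (Multiplicative (ZMod 3)) (Multiplicative (ZMod 3)) z) = 1 := by
    intro z
    have h7 : sign (MulAction.toPermHom (Multiplicative (ZMod 3)) (Multiplicative (ZMod 3)) z) ^ 3
        = 1 := by
      rw [← map_pow, ← map_pow, show z ^ 3 = 1 by revert z; decide, map_one, map_one]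
    rcases Int.units_eq_one_or (sign (MulAction.toPermHom _ (Multiplicative (ZMod 3)) z)) with e | e
    · exact e
    · rw [e] at h7; exact absurd h7 (by decide)
  simp only [MonoidHom.coe_prodMap, Prod.map_fst, Prod.map_snd, this, mul_one]

theorem range_prod_three {G H : Type*} [Group G] [Group H] [Finite H] (hH : IsPGroup 2 H)
    (φ : H × Multiplicative (ZMod 3) →* G) (hφ : Function.Injective φ) :
    Group.IsNilpotent φ.range ∧ Nat.card φ.range = 3 * Nat.card H ∧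
      Nonempty (φ.range ≃* H × Multiplicative (ZMod 3)) := by
  have := hH.isNilpotent
  refine ⟨Group.nilpotent_of_mulEquiv (MonoidHom.ofInjective hφ), ?_,
    ⟨(MonoidHom.ofInjective hφ).symm⟩⟩
  rw [← Nat.card_congr (MonoidHom.ofInjective hφ).toEquiv, Nat.card_prod, mul_comm]
  simp

end Cfsg.Agent.H3
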