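import Cfsg.Agent.H3.Glue

set_option autoImplicit false

namespace Cfsg.Agent.H3

open Equiv Equiv.Perm Subgroup

variable {α : Type*} [DecidableEq α] [Fintype α] {J : Type*} [Group J]

theorem pow_eq_of_cast_eq {p : ℕ} {a : J} (ha : a ^ p = 1) {m n : ℕ}
    (h : (m : ZMod p) = (n : ZMod p)) : a ^ m = a ^ n := by
  rw [ZMod.natCast_eq_natCast_iff] at h
  exact pow_eq_pow_iff_modEq.2 (h.of_dvd (orderOf_dvd_of_pow_eq_one ha))

theorem binary_tetrahedral {S T c : J} (hS : S ^ 3 = c) (hT : T ^ 3 = c) (hST : (S * T) ^ 2 = c) :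
    c ^ 2 = 1 := by
  have cS : Commute c S := by rw [← hS]; exact (Commute.refl S).pow_left 3
  have cT : Commute c T := by rw [← hT]; exact (Commute.refl T).pow_left 3
  have h1 : T * S * T = S * S := by
    have : S * (T * S * T) = S * (S * S) := by
      calc S * (T * S * T) = (S * T) ^ 2 := by simp [pow_two, mul_assoc]
        _ = S ^ 3 := by rw [hS, hST]
        _ = S * (S * S) := by simp [pow_succ, mul_assoc]
    exact mul_left_cancel this
  have h2 : S * T * S = T * T := by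
    have : (S * T * S) * T = (T * T) * T := by
      calc (S * T * S) * T = (S * T) ^ 2 := by simp [pow_two, mul_assoc]
        _ = T ^ 3 := by rw [hT, hST]
        _ = (T * T) * T := by simp [pow_succ, mul_assoc]
    exact mul_right_cancel this
  have hS' : S * S * S = c := by rw [← hS]; simp [pow_succ]
  have h3 : (T * S) * (S * T) * (T * S)⁻¹ = c * (S * T) := by
    calc (T * S) * (S * T) * (T * S)⁻¹ = T * (S * S) * T * (T * S)⁻¹ := by group
      _ = T * (T * S * T) * T * (T * S)⁻¹ := by rw [h1]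
      _ = (T * T) * S * (T * T) * (T * S)⁻¹ := by group
      _ = (S * T * S) * S * (S * T * S) * (T * S)⁻¹ := by rw [h2]
      _ = (S * T) * (S * S * S) := by group
      _ = c * (S * T) := by rw [hS', (cS.mul_right cT).eq]
  have h4 : ((T * S) * (S * T) * (T * S)⁻¹) ^ 2 = c := by
    rw [conj_pow, hST, ← (cT.mul_right cS).eq]; group
  rw [h3, (cS.mul_right cT).mul_pow, hST] at h4
  exact mul_eq_right.1 h4

theorem lift_mem_of_forall {ι : Type*} {x : ι → J} {H : Subgroup J} (h : ∀ i, x i ∈ H)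
    (w : FreeGroup ι) : FreeGroup.lift x w ∈ H := by
  have : (FreeGroup.lift x).range ≤ H := by
    rw [FreeGroup.range_lift_eq_closure, closure_le]; rintro _ ⟨i, rfl⟩; exact h i
  exact this ⟨w, rfl⟩

theorem map_lift {ι : Type*} {J' : Type*} [Group J'] (φ : J →* J') (x : ι → J) (w : FreeGroup ι) :
    φ (FreeGroup.lift x w) = FreeGroup.lift (fun i => φ (x i)) w := by
  have : φ.comp (FreeGroup.lift x) = FreeGroup.lift (fun i => φ (x i)) := by
    ext i; simp
  exact DFunLike.congr_fun this w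

/-- Carmichael's presentation with generators indexed through an injection. -/
theorem carmichael' {ι : Type*} (e : ι → α) (he : Function.Injective e) {u v : α}
    (hu : ∀ i, e i ≠ u) (hv : ∀ i, e i ≠ v) (huv : u ≠ v) (x : ι → J) (h : Carm x Set.univ) :
    ∃ ψ : Perm α → J, HomOn (AltOn (Set.range e ∪ {u, v})) ψ ∧ (∀ i, ψ (c3 (e i) u v) = x i) ∧
      ∀ w : FreeGroup ι, ψ (FreeGroup.lift (fun i => c3 (e i) u v) w) = FreeGroup.lift x w := by
  have h1 : Carm (Function.extend e x (fun _ => 1)) ((Set.range e ∪ {u, v}) \ {u, v}) := by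
    constructor
    · rintro _ ⟨⟨i, rfl⟩ | h2, h3⟩
      · rw [he.extend_apply]; exact h.cube i trivial
      · exact absurd h2 h3
    · rintro _ ⟨⟨i, rfl⟩ | h2, h3⟩ _ ⟨⟨j, rfl⟩ | h4, h5⟩ hij
      · rw [he.extend_apply, he.extend_apply]
        exact h.sq i trivial j trivial (fun h => hij (congrArg e h))
      · exact absurd h4 h5
      · exact absurd h2 h3
      · exact absurd h2 h3
  obtain ⟨ψ, hψ, hψx⟩ := carmichael (Set.range e ∪ {u, v}) (by simp) (by simp) huv _ h1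
  have h2 : ∀ i, ψ (c3 (e i) u v) = x i := fun i => by
    rw [hψx (e i) (Or.inl ⟨i, rfl⟩) (hu i) (hv i), he.extend_apply]
  refine ⟨ψ, hψ, h2, fun w => ?_⟩
  rw [hψ.lift_eq _ (fun i => c3_mem_AltOn (Or.inl ⟨i, rfl⟩) (by simp) (by simp) (hu i) (hv i))]
  simp only [h2]

theorem exists_word {ι : Type*} (e : ι → α) {u v : α} (huv : u ≠ v) {g : Perm α}
    (hg : g ∈ AltOn (Set.range e ∪ {u, v})) :
    ∃ w : FreeGroup ι, FreeGroup.lift (fun i => c3 (e i) u v) w = g := by
  have h1 := AltOn_le_closure_star _ huv hg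
  have h2 : closure ((fun i => c3 i u v) '' ((Set.range e ∪ {u, v}) \ {u, v})) ≤
      (FreeGroup.lift (fun i => c3 (e i) u v)).range := by
    rw [closure_le]
    rintro _ ⟨_, ⟨⟨i, rfl⟩ | h2, h3⟩, rfl⟩
    · exact ⟨FreeGroup.of i, by simp⟩
    · exact absurd h2 h3
  exact h2 h1

theorem eq_of_centralizes_AltOn {ι : Type*} (e : ι → α) {u v : α} (huv : u ≠ v) {ψ : Perm α → J}
    (x : ι → J)
    (hψ : ∀ w : FreeGroup ι, ψ (FreeGroup.lift (fun i => c3 (e i) u v) w) = FreeGroup.lift x w)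
    {t : J} (ht : ∀ i, Commute t (x i)) {g : Perm α} (hg : g ∈ AltOn (Set.range e ∪ {u, v})) :
    Commute t (ψ g) := by
  obtain ⟨w, rfl⟩ := exists_word e huv hg
  rw [hψ]
  have := lift_mem_of_forall (x := x) (H := centralizer {t})
    (fun i => mem_centralizer_singleton_iff.2 (ht i).symm.eq) w
  exact (mem_centralizer_singleton_iff.1 this).symm

/-- conjugates of `z` under the powers of `a` -/
def xs (p : ℕ) (a z : J) (i : ZMod p) : J := a ^ i.val * z * (a ^ i.val)⁻¹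

theorem pres_core {p : ℕ} [Fact p.Prime] (r : ZMod p) (hr1 : r ≠ 1)
    (hr : ∀ j : ZMod p, j ≠ 0 → ∃ k : ℕ, r ^ k = j) (s : ℕ) (hs : ((s + 1 : ℕ) : ZMod p) * (1 - r) = 1)
    (e : ZMod p → α) (he : Function.Injective e) {u v : α}
    (hu : ∀ i, e i ≠ u) (hv : ∀ i, e i ≠ v) (huv : u ≠ v) {A B : Perm α}
    (hA : A ∈ AltOn (Set.range e ∪ {u, v}))
    (hAx : ∀ i, A * c3 (e i) u v * A⁻¹ = c3 (e (i + 1)) u v)
    (hBx : ∀ i, B * c3 (e i) u v * B⁻¹ = (c3 (e (r * i)) u v)⁻¹)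
    (hAp : A ^ p = 1) (hBA : B * A * B⁻¹ = A ^ r.val)
    (Wb V1 U2 V2 : FreeGroup (ZMod p)) (M : ℕ) (hM : Nat.Coprime M 6)
    (hWb : FreeGroup.lift (fun i => c3 (e i) u v) Wb = B)
    (hV1 : FreeGroup.lift (fun i => c3 (e i) u v) V1 ^ 3 = 1)
    (hU2 : FreeGroup.lift (fun i => c3 (e i) u v) U2 ^ M = 1)
    (hV2 : FreeGroup.lift (fun i => c3 (e i) u v) V2 ^ M = 1)
    {a b z y : J} (R1 : a ^ p = b ^ (p - 1)) (R2 : b * a ^ (s + 1) * b⁻¹ = a ^ s)
    (R3 : b * z * b⁻¹ = z⁻¹) (R4 : (z * (a * z * a⁻¹)) ^ 2 = z ^ 3)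
    (R5 : y * (z * ((FreeGroup.lift (xs p a z) Wb)⁻¹ * b)) * y⁻¹ =
      FreeGroup.lift (xs p a z) V1 ^ 4)
    (R6 : y * (FreeGroup.lift (xs p a z) U2 ^ (M + 1) * ((FreeGroup.lift (xs p a z) Wb)⁻¹ * b)) *
      y⁻¹ = FreeGroup.lift (xs p a z) V2 ^ (M + 1)) :
    ∃ ψ : Perm α → J, HomOn (AltOn (Set.range e ∪ {u, v})) ψ ∧
      (∀ w : FreeGroup (ZMod p),
        ψ (FreeGroup.lift (fun i => c3 (e i) u v) w) = FreeGroup.lift (xs p a z) w) ∧
      ψ A = a ∧ b = FreeGroup.lift (xs p a z) Wb ∧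
      y * ψ (c3 (e 0) u v) * y⁻¹ = ψ (FreeGroup.lift (fun i => c3 (e i) u v) V1) ∧
      y * ψ (FreeGroup.lift (fun i => c3 (e i) u v) U2) * y⁻¹ =
        ψ (FreeGroup.lift (fun i => c3 (e i) u v) V2) := by
  have hpp : p.Prime := Fact.out
  set x := xs p a z with hxdef
  set X : ZMod p → Perm α := fun i => c3 (e i) u v with hX
  have hXm : ∀ i, X i ∈ AltOn (Set.range e ∪ {u, v}) := fun i =>
    c3_mem_AltOn (Or.inl ⟨i, rfl⟩) (by simp) (by simp) (hu i) (hv i)
  have hB : B ∈ AltOn (Set.range e ∪ {u, v}) := hWb ▸ lift_mem_of_forall hXm Wb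
  -- Step 1
  have hap : a ^ p = 1 := by
    have h1 : Commute b (a ^ p) := by rw [R1]; exact (Commute.refl b).pow_right _
    have h2 : (b * a ^ (s + 1) * b⁻¹) ^ p = (a ^ s) ^ p := by rw [R2]
    rw [conj_pow, ← pow_mul, ← pow_mul, mul_comm (s + 1) p, mul_comm s p, pow_mul, pow_mul,
      (h1.pow_right _).eq, mul_inv_cancel_right, pow_succ] at h2
    exact mul_eq_left.1 h2
  have hba : b * a * b⁻¹ = a ^ r.val := by
    have h1 : a = (a ^ (s + 1)) ^ (1 - r).val := by
      rw [← pow_mul]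
      nth_rewrite 1 [← pow_one a]
      apply pow_eq_of_cast_eq hap
      rw [Nat.cast_mul, ZMod.natCast_zmod_val, hs, Nat.cast_one]
    rw [h1, ← conj_pow, R2, ← h1, ← pow_mul]
    apply pow_eq_of_cast_eq hap
    rw [Nat.cast_mul, ZMod.natCast_zmod_val, ZMod.natCast_zmod_val]
    push_cast at hs
    linear_combination hs
  have hx0 : x 0 = z := by simp [hxdef, xs]
  have hadd : ∀ i j : ZMod p, a ^ i.val * x j * (a ^ i.val)⁻¹ = x (i + j) := by
    intro i j
    have : a ^ (i + j).val = a ^ i.val * a ^ j.val := by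
      rw [← pow_add]; apply pow_eq_of_cast_eq hap; simp
    simp only [hxdef, xs, this]; group
  have ha1 : a ^ (1 : ZMod p).val = a := by
    rw [ZMod.val_one, pow_one]
  have hax : ∀ i, a * x i * a⁻¹ = x (i + 1) := by
    intro i; rw [add_comm, ← hadd, ha1]
  have hx1 : x 1 = a * z * a⁻¹ := by rw [← hx0, hax, zero_add]
  have hbx : ∀ i, b * x i * b⁻¹ = (x (r * i))⁻¹ := by
    intro i
    have h1 : b * a ^ i.val * b⁻¹ = a ^ (r * i).val := by
      rw [← conj_pow, hba, ← pow_mul]; apply pow_eq_of_cast_eq hap; simp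
    simp only [hxdef, xs]
    rw [← h1]
    calc b * (a ^ i.val * z * (a ^ i.val)⁻¹) * b⁻¹
        = (b * a ^ i.val * b⁻¹) * (b * z * b⁻¹) * (b * a ^ i.val * b⁻¹)⁻¹ := by group
      _ = _ := by rw [R3]; group
  -- Step 3
  have h0j : ∀ j, j ≠ 0 → (x 0 * x j) ^ 2 = x 0 ^ 3 := by
    intro j hj
    obtain ⟨k, rfl⟩ := hr j hj
    clear hj
    induction k with
    | zero => rw [pow_zero, hx0, hx1, R4]
    | succ k ih =>
      have h1 : (b * (x 0 * x (r ^ k)) * b⁻¹) ^ 2 = (b * x 0 * b⁻¹) ^ 3 := by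
        rw [conj_pow, conj_pow, ih]
      have h2 : b * (x 0 * x (r ^ k)) * b⁻¹ = (x (r ^ (k + 1)) * x 0)⁻¹ := by
        rw [mul_inv_rev, pow_succ', ← hbx]
        nth_rewrite 2 [← mul_zero r]
        rw [← hbx]; group
      rw [h2, hbx, mul_zero, inv_pow, inv_pow, inv_inj] at h1
      have h3 : x 0 * x (r ^ (k + 1)) = x 0 * (x (r ^ (k + 1)) * x 0) * (x 0)⁻¹ := by group
      rw [h3, conj_pow, h1]; group
  have hij : ∀ i j, i ≠ j → (x i * x j) ^ 2 = x i ^ 3 := by
    intro i j h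
    have h1 := h0j (j - i) (sub_ne_zero.2 h.symm)
    have h2 : x i = a ^ i.val * x 0 * (a ^ i.val)⁻¹ := by rw [hadd, add_zero]
    have h3 : x j = a ^ i.val * x (j - i) * (a ^ i.val)⁻¹ := by rw [hadd, add_sub_cancel]
    have h4 : x i * x j = a ^ i.val * (x 0 * x (j - i)) * (a ^ i.val)⁻¹ := by
      rw [h2, h3]; group
    rw [h4, h2, conj_pow, conj_pow, h1]
  set c := z ^ 3 with hc
  have hcube : ∀ i, x i ^ 3 = c := by
    intro i
    by_cases hi : i = 0
    · rw [hi, hx0]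
    · have h1 := hij i 0 hi
      have h2 := hij 0 i (Ne.symm hi)
      have h3 : x i * x 0 = (x 0)⁻¹ * (x 0 * x i) * (x 0)⁻¹⁻¹ := by group
      rw [← h1, h3, conj_pow, h2, hx0, hc]; group
  have hc2 : c ^ 2 = 1 := binary_tetrahedral (hcube 0) (hcube 1)
    (by rw [hij 0 1 zero_ne_one, hcube])
  have hcx : ∀ i, Commute (x i) c := fun i => by
    rw [← hcube i]; exact (Commute.refl _).pow_right 3
  have hcb : Commute b c := by
    have h1 : b * c * b⁻¹ = c⁻¹ := by rw [hc, ← conj_pow, R3, inv_pow]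
    have h2 : c⁻¹ = c := by rw [inv_eq_iff_mul_eq_one, ← pow_two, hc2]
    rw [h2, mul_inv_eq_iff_eq_mul] at h1
    exact h1
  -- Step 6
  let H : Subgroup J := centralizer {c}
  have hxH : ∀ i, x i ∈ H := fun i => mem_centralizer_singleton_iff.2 (hcx i).eq
  have hbH : b ∈ H := mem_centralizer_singleton_iff.2 hcb.eq
  have hcH : c ∈ H := mem_centralizer_singleton_iff.2 rfl
  let C : Subgroup H := zpowers ⟨c, hcH⟩
  have hCc : C ≤ center H := by
    rw [zpowers_le, mem_center_iff]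
    intro g
    exact Subtype.ext (mem_centralizer_singleton_iff.1 g.2)
  have hCn : C.Normal := ⟨fun n hn g => by
    rw [mem_center_iff.1 (hCc hn) g, mul_inv_cancel_right]; exact hn⟩
  let x' : ZMod p → H := fun i => ⟨x i, hxH i⟩
  let π : H →* H ⧸ C := QuotientGroup.mk' C
  have hπ : ∀ g : H, π g = 1 → (g : J) = 1 ∨ (g : J) = c := by
    intro g hg
    rw [QuotientGroup.mk'_apply, QuotientGroup.eq_one_iff] at hg
    obtain ⟨k, hk⟩ := hg
    have h1 : (g : J) = c ^ k := by rw [← hk]; simp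
    have h2 : c ^ (2 : ℤ) = 1 := by exact_mod_cast hc2
    rcases Int.even_or_odd' k with ⟨m, rfl | rfl⟩
    · left; rw [h1, zpow_mul, h2, one_zpow]
    · right; rw [h1, zpow_add, zpow_mul, h2, one_zpow, one_mul, zpow_one]
  have hπc : π ⟨c, hcH⟩ = 1 := by
    rw [QuotientGroup.mk'_apply, QuotientGroup.eq_one_iff]; exact mem_zpowers _
  have hcarm : Carm (fun i => π (x' i)) Set.univ := by
    constructor
    · intro i _
      rw [← map_pow, ← hπc]; congr 1; exact Subtype.ext (hcube i)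
    · intro i _ j _ h
      rw [← map_mul, ← map_pow, ← hπc]; congr 1
      exact Subtype.ext ((hij i j h).trans (hcube i))
  obtain ⟨ψ0, hψ0, hψ0x, hψ0w⟩ := carmichael' e he hu hv huv _ hcarm
  have hlift : ∀ w, ((FreeGroup.lift x' w : H) : J) = FreeGroup.lift x w := fun w =>
    map_lift H.subtype x' w
  have hψ0w' : ∀ w, ψ0 (FreeGroup.lift X w) = π (FreeGroup.lift x' w) := fun w => by
    rw [map_lift, hψ0w]
  have hord : ∀ w m, FreeGroup.lift X w ^ m = 1 → FreeGroup.lift x w ^ (2 * m) = 1 := by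
    intro w m h
    have h1 : π (FreeGroup.lift x' w ^ m) = 1 := by
      rw [map_pow, ← hψ0w', ← hψ0.map_pow (lift_mem_of_forall hXm w), h, hψ0.map_one]
    have h2 := hπ _ h1
    rw [Subgroup.coe_pow, hlift] at h2
    rw [mul_comm, pow_mul]
    rcases h2 with h2 | h2 <;> rw [h2]
    · simp
    · exact hc2
  set wb := FreeGroup.lift x Wb with hwb
  set τ := wb⁻¹ * b with hτ
  have hwbH : wb ∈ H := lift_mem_of_forall hxH Wb
  have hτH : τ ∈ H := mul_mem (inv_mem hwbH) hbH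
  have hτc : Commute τ c := mem_centralizer_singleton_iff.1 hτH
  have hτx : ∀ i, Commute τ (x i) := by
    intro i
    have h1 : π ((FreeGroup.lift x' Wb)⁻¹ * (x' (r * i))⁻¹ * FreeGroup.lift x' Wb * (x' i)⁻¹) = 1 := by
      simp only [map_mul, map_inv]
      rw [← hψ0w', hWb, ← hψ0x, ← hψ0x, ← hψ0.map_inv (hXm _), ← hBx,
        hψ0.map_conj hB (hXm i)]
      simp only [hX]; group
    have h2 := hπ _ h1
    simp only [Subgroup.coe_mul, Subgroup.coe_inv, hlift, x'] at h2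
    rw [← hbx, ← hwb] at h2
    have h3 : wb⁻¹ * (b * x i * b⁻¹) * wb * (x i)⁻¹ = τ * x i * τ⁻¹ * (x i)⁻¹ := by
      rw [hτ]; group
    rw [h3] at h2
    rcases h2 with h2 | h2
    · rw [commute_iff_eq]
      calc τ * x i = (τ * x i * τ⁻¹ * (x i)⁻¹) * x i * τ := by group
        _ = x i * τ := by rw [h2, one_mul]
    · have h4 : τ * x i * τ⁻¹ = c * x i := by rw [← h2]; group
      have h5 : (τ * x i * τ⁻¹) ^ 3 = (c * x i) ^ 3 := by rw [h4]
      rw [conj_pow, (hcx i).symm.mul_pow, hcube, hτc.eq, mul_inv_cancel_right, pow_succ c 2, hc2,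
        one_mul] at h5
      have h6 : c = 1 := mul_eq_right.1 h5.symm
      rw [h6, one_mul, mul_inv_eq_iff_eq_mul] at h4
      exact h4
  have hτw : ∀ w, Commute τ (FreeGroup.lift x w) := fun w =>
    (mem_centralizer_singleton_iff.1 (lift_mem_of_forall (x := x) (H := centralizer {τ})
      (fun i => mem_centralizer_singleton_iff.2 (hτx i).symm.eq) w)).symm
  -- Step 8
  have hModd : Odd M := by
    rw [← Nat.coprime_two_right]
    exact Nat.Coprime.coprime_dvd_right (by norm_num) hM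
  have hpw : ∀ w, FreeGroup.lift X w ^ M = 1 → (FreeGroup.lift x w ^ (M + 1)) ^ M = 1 := by
    intro w h
    obtain ⟨k, hk⟩ := hModd
    have : (M + 1) * M = (2 * M) * (k + 1) := by rw [hk]; ring
    rw [← pow_mul, this, pow_mul, hord w M h, one_pow]
  have e1 : c * τ ^ 3 = 1 := by
    have h1 : (y * (z * τ) * y⁻¹) ^ 3 = 1 := by
      rw [R5, ← pow_mul, show 4 * 3 = 2 * 3 * 2 by norm_num, pow_mul, hord V1 3 hV1, one_pow]
    rw [conj_pow, ← hx0, (hτx 0).symm.mul_pow, hcube] at h1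
    simpa using h1
  have e2 : τ ^ M = 1 := by
    have h1 : (y * (FreeGroup.lift x U2 ^ (M + 1) * τ) * y⁻¹) ^ M = 1 := by
      rw [R6, hpw V2 hV2]
    rw [conj_pow, ((hτw U2).symm.pow_left _).mul_pow, hpw U2 hU2] at h1
    simpa using h1
  have e3 : τ ^ 6 = 1 := by
    have h1 : τ ^ 3 = c⁻¹ := (eq_inv_of_mul_eq_one_right e1)
    rw [show 6 = 3 * 2 by norm_num, pow_mul, h1, inv_pow, hc2, inv_one]
  have hτ1 : τ = 1 := by
    have := pow_gcd_eq_one.2 ⟨e2, e3⟩
    rwa [hM.gcd_eq_one, pow_one] at this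
  have hc1 : c = 1 := by simpa [hτ1] using e1
  have hb : b = wb := (inv_mul_eq_one.1 hτ1).symm
  have hcarm' : Carm x Set.univ :=
    ⟨fun i _ => by rw [hcube, hc1], fun i _ j _ h => by rw [hij i j h, hcube, hc1]⟩
  obtain ⟨ψ, hψ, hψx, hψw⟩ := carmichael' e he hu hv huv _ hcarm'
  have hψB : ψ B = b := by rw [hb, ← hWb, hψw]
  refine ⟨ψ, hψ, hψw, ?_, hb, ?_, ?_⟩
  · set t := (ψ A)⁻¹ * a with ht
    have h1 : ∀ i, Commute t (x i) := by
      intro i
      have h2 : ψ A * x i * (ψ A)⁻¹ = a * x i * a⁻¹ := by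
        rw [hax, ← hψx, ← hψx, ← hψ.map_conj hA (hXm i), hAx]
      rw [commute_iff_eq, ht]
      calc (ψ A)⁻¹ * a * x i = (ψ A)⁻¹ * (a * x i * a⁻¹) * a := by group
        _ = _ := by rw [← h2]; group
    have h2 : Commute t (ψ A) := eq_of_centralizes_AltOn e huv x hψw h1 hA
    have h3 : Commute t b := hψB ▸ eq_of_centralizes_AltOn e huv x hψw h1 hB
    have h4 : Commute (ψ A)⁻¹ a := by
      have : a = ψ A * t := by rw [ht]; group
      rw [this]
      exact ((Commute.refl _).inv_left).mul_right h2.symm.inv_left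
    have h5 : t ^ p = 1 := by
      rw [ht, h4.mul_pow, hap, inv_pow, ← hψ.map_pow hA, hAp, hψ.map_one]; simp
    have h6 : t = t ^ r.val := by
      calc t = b * t * b⁻¹ := by rw [← h3.eq]; group
        _ = (b * ψ A * b⁻¹)⁻¹ * (b * a * b⁻¹) := by rw [ht]; group
        _ = t ^ r.val := by
          rw [hba, ← hψB, ← hψ.map_conj hB hA, hBA, hψ.map_pow hA, ht, h4.mul_pow, inv_pow]
    have h7 : t ^ (1 - r).val = 1 := by
      have h8 : t ^ (1 - r).val * t ^ r.val = t := by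
        rw [← pow_add]
        nth_rewrite 2 [← pow_one t]
        apply pow_eq_of_cast_eq h5
        simp
      rw [← h6] at h8
      exact mul_eq_right.1 h8
    have h8 : t = 1 := by
      have h9 : t = (t ^ (1 - r).val) ^ (s + 1) := by
        rw [← pow_mul]
        nth_rewrite 1 [← pow_one t]
        apply pow_eq_of_cast_eq h5
        rw [Nat.cast_mul, ZMod.natCast_zmod_val, mul_comm, hs, Nat.cast_one]
      rw [h9, h7, one_pow]
    exact (inv_mul_eq_one.1 h8)
  · rw [hψx, hx0, hψw]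
    rw [hτ1, mul_one, ← hψw, ← hψ.map_pow (lift_mem_of_forall hXm V1), pow_succ, hV1, one_mul,
      hψw] at R5
    exact R5
  · rw [hτ1, mul_one, ← hψw, ← hψw, ← hψ.map_pow (lift_mem_of_forall hXm U2),
      ← hψ.map_pow (lift_mem_of_forall hXm V2), pow_succ, pow_succ, hU2, hV2, one_mul,
      one_mul] at R6
    exact R6

end Cfsg.Agent.H3
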