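import Cfsg.Agent.H3.PresSmall
import Cfsg.Agent.H3.Bertrand2

set_option autoImplicit false

namespace Cfsg.Agent.H3

open Equiv Equiv.Perm Subgroup

/-- `G` has a presentation with `k` generators and at most `m` relators -/
def HasPres (G : Type*) [Group G] (k m : ℕ) : Prop :=
  ∃ f : Fin k → G, KerGen f m ∧ closure (Set.range f) = ⊤

theorem HasPres.mono {G : Type*} [Group G] {k m m' : ℕ} (h : HasPres G k m) (hm : m ≤ m') :
    HasPres G k m' := by
  obtain ⟨f, h1, h2⟩ := h
  exact ⟨f, h1.mono hm, h2⟩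

theorem HasPres.two_three {G : Type*} [Group G] {m : ℕ} (h : HasPres G 2 m) :
    HasPres G 3 (m + 2) := by
  obtain ⟨f, h1, h2⟩ := h
  have h3 : closure (Set.range ![f 0, f 1, 1]) = ⊤ := by
    rw [eq_top_iff, ← h2]
    apply Subgroup.closure_mono
    rintro _ ⟨i, rfl⟩
    fin_cases i
    exacts [⟨0, rfl⟩, ⟨1, rfl⟩]
  exact ⟨_, h1.change_one ![f 0, f 1, 1] (by rw [h2, h3]) 0 0 rfl, h3⟩

theorem HasPres.out {G : Type*} [Group G] {k m : ℕ} (h : HasPres G k m) :
    ∃ rels : Finset (FreeGroup (Fin k)), rels.card ≤ m ∧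
      Nonempty (PresentedGroup (↑rels : Set (FreeGroup (Fin k))) ≃* G) := by
  obtain ⟨f, h1, h2⟩ := h
  obtain ⟨R, h3, e, -⟩ := h1.equiv h2
  exact ⟨R, h3, ⟨e⟩⟩

theorem range_pair {G : Type*} (a b : G) : Set.range ![a, b] = {a, b} := by
  ext x; simp [eq_comm, or_comm]

theorem HasPres.pair {G : Type*} [Group G] {k m : ℕ} (h : HasPres G k m) (a b : G)
    (hab : closure ({a, b} : Set G) = ⊤) :
    ∃ rels : Finset (FreeGroup (Fin 2)), rels.card ≤ m + 2 ∧
      ∃ e : PresentedGroup (↑rels : Set (FreeGroup (Fin 2))) ≃* G,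
        e (PresentedGroup.of 0) = a ∧ e (PresentedGroup.of 1) = b := by
  obtain ⟨f, h1, h2⟩ := h
  rw [← range_pair] at hab
  obtain ⟨R, h3, e, he⟩ := (h1.change ![a, b] (by rw [h2, hab])).equiv hab
  exact ⟨R, h3, e, he 0, he 1⟩

theorem hasPres_of_subsingleton (G : Type*) [Group G] [Subsingleton G] : HasPres G 2 2 := by
  refine ⟨![1, 1], ?_, Subsingleton.elim _ _⟩
  have := kerGen_of_homOn (f := (![1, 1] : Fin 2 → G)) {FreeGroup.of 0, FreeGroup.of 1}
    (fun _ _ => Subsingleton.elim _ _) (B := ⊤) (Φ := fun _ => 1) (fun _ _ _ _ => by simp)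
    (fun _ => mem_top _) (fun i => by
      symm
      apply PresentedGroup.one_of_mem
      fin_cases i <;> simp)
  exact this.mono Finset.card_le_two

variable {α : Type*} [DecidableEq α] [Fintype α]

theorem kerGen_alt {ι : Type*} {f : ι → Perm α} {m : ℕ} (h : KerGen f m)
    (h1 : ∀ i, f i ∈ alternatingGroup α) (h2 : alternatingGroup α ≤ closure (Set.range f)) :
    KerGen (fun i => (⟨f i, h1 i⟩ : alternatingGroup α)) m ∧
      closure (Set.range (fun i => (⟨f i, h1 i⟩ : alternatingGroup α))) = ⊤ := by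
  refine ⟨(KerGen.of_hom (alternatingGroup α).subtype (subtype_injective _)).1 h, ?_⟩
  rw [eq_top_iff]
  intro g _
  obtain ⟨w, hw⟩ := exists_lift_eq (h2 g.2)
  have : g = FreeGroup.lift (fun i => (⟨f i, h1 i⟩ : alternatingGroup α)) w := by
    apply Subtype.ext
    rw [← hw]
    exact (map_lift (alternatingGroup α).subtype (fun i => ⟨f i, h1 i⟩) w).symm
  rw [this]
  exact lift_mem_of_forall (fun i => Subgroup.subset_closure (Set.mem_range_self i)) w

theorem eq_top_of_alt_le {H : Subgroup (Perm α)} (h : alternatingGroup α ≤ H) {Y : Perm α}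
    (hY : Y ∈ H) (hY' : Y ∉ alternatingGroup α) : H = ⊤ := by
  have hs := (Int.units_eq_one_or (sign Y)).resolve_left hY'
  rw [eq_top_iff]
  intro g _
  rcases Int.units_eq_one_or (sign g) with hg | hg
  · exact h hg
  · have : g = (g * Y⁻¹) * Y := by group
    rw [this]
    exact mul_mem (h (by simp [hg, hs])) hY

theorem exists_parity (Y : Perm α) {u v : α} (huv : u ≠ v) :
    (Y ∈ alternatingGroup α ∧ Y * swap u v ∉ alternatingGroup α) ∨
      (Y ∉ alternatingGroup α ∧ Y * swap u v ∈ alternatingGroup α) := by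
  rcases Int.units_eq_one_or (sign Y) with h | h <;> simp [h, sign_swap huv]

theorem hasPres_big (n : ℕ) (hn : 7 ≤ n) :
    (HasPres (Perm (Fin n)) 3 7 ∧ HasPres (Perm (Fin n)) 2 8) ∧
      HasPres (alternatingGroup (Fin n)) 3 7 ∧ HasPres (alternatingGroup (Fin n)) 2 8 := by
  obtain ⟨p, hp, h1, h2⟩ := exists_prime_glue n hn
  have : Fact p.Prime := ⟨hp⟩
  have hp2 : p ≠ 2 := by omega
  let e : ZMod p → Fin n := fun i => ⟨i.val + 2, by have := ZMod.val_lt i; omega⟩
  have he : Function.Injective e := fun i j h => ZMod.val_injective p (by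
    have := congrArg Fin.val h; simpa [e] using this)
  let u : Fin n := ⟨0, by omega⟩
  let v : Fin n := ⟨1, by omega⟩
  have hu : ∀ i, e i ≠ u := fun i h => by simpa [e, u] using congrArg Fin.val h
  have hv : ∀ i, e i ≠ v := fun i h => by simpa [e, v] using congrArg Fin.val h
  have huv : u ≠ v := fun h => by simpa [u, v] using congrArg Fin.val h
  have hM : ∀ x : Fin n, x ∈ Set.range e ∪ {u, v} ↔ x.val < p + 2 := by
    intro x
    constructor
    · rintro (⟨i, rfl⟩ | rfl | rfl)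
      · have := ZMod.val_lt i; simp only [e]; omega
      · simp [u]
      · simp [v]
    · intro hx
      by_cases h0 : x.val = 0
      · exact Or.inr (Or.inl (Fin.ext h0))
      by_cases h0' : x.val = 1
      · exact Or.inr (Or.inr (Fin.ext h0'))
      refine Or.inl ⟨((x.val - 2 : ℕ) : ZMod p), Fin.ext ?_⟩
      simp only [e]
      rw [ZMod.val_cast_of_lt (by omega)]; omega
  let K : Finset (Fin n) := Finset.univ.filter (fun x => x.val < 2 * p + 4 - n)
  have hK : ∀ x, x ∈ K ↔ x.val < 2 * p + 4 - n := fun x => by simp [K]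
  have hK6 : 6 ≤ K.card := by
    rw [Fin.card_filter_val_lt]; omega
  let y0 : Fin n → Fin n := fun x =>
    if x.val < 2 * p + 4 - n then x else if h : x.val < p + 2 then ⟨x.val + (n - (p + 2)), by omega⟩
      else ⟨x.val - (n - (p + 2)), by omega⟩
  have hy0 : ∀ x, (y0 x).val = if x.val < 2 * p + 4 - n then x.val else if x.val < p + 2 then
      x.val + (n - (p + 2)) else x.val - (n - (p + 2)) := by
    intro x; simp only [y0]; split_ifs <;> rfl
  have hinv : Function.Involutive y0 := by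
    intro x
    apply Fin.ext
    rw [hy0, hy0]
    have := x.2
    split_ifs <;> omega
  let Y0 : Perm (Fin n) := hinv.toPerm
  have hY0 : ∀ x, Y0 x = y0 x := fun _ => rfl
  have hY0' : ∀ x, Y0⁻¹ x = y0 x := fun _ => rfl
  have hsw : ∀ (x : Fin n) (c : ℕ), 2 ≤ c → ((swap u v x).val < c ↔ x.val < c) := by
    intro x c hc
    rw [swap_apply_def]
    split_ifs with h h'
    · simp [h, u, v]; omega
    · simp [h', u, v]; omega
    · rfl
  have main : ∀ Y : Perm (Fin n), Y = Y0 ∨ Y = Y0 * swap u v →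
      ∃ A ∈ alternatingGroup (Fin n), KerGen ![A, c3 (e 0) u v, Y] 7 ∧
        alternatingGroup (Fin n) ≤ closure (Set.range ![A, c3 (e 0) u v, Y]) := by
    intro Y hY
    have k1 : ∀ x, Y0 x ∈ K ↔ x ∈ K := by
      intro x; rw [hK, hK, hY0, hy0]; have := x.2; split_ifs <;> omega
    have k2 : ∀ x ∈ Set.range e ∪ {u, v}, x ∉ K → Y0 x ∉ Set.range e ∪ {u, v} := by
      intro x; rw [hK, hM, hM, hY0, hy0]; have := x.2; split_ifs <;> omega
    have k3 : ∀ x, x ∉ Set.range e ∪ {u, v} → Y0⁻¹ x ∈ Set.range e ∪ {u, v} := by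
      intro x; rw [hM, hM, hY0', hy0]; have := x.2; split_ifs <;> omega
    refine pres_main hp2 e he hu hv huv K hK6 (fun x hx => (hM x).2 ?_) ?_ ?_ ?_ Y ?_ ?_ ?_
    · have := (hK x).1 hx; omega
    · rw [hK]; simp [e]; omega
    · rw [hK]; simp [u]; omega
    · rw [hK]; simp [v]; omega
    · rcases hY with rfl | rfl
      · exact k1
      · intro x; rw [Perm.mul_apply, k1, hK, hK, hsw _ _ (by omega)]
    · rcases hY with rfl | rfl
      · exact k2
      · intro x hx hx'
        refine k2 _ ?_ ?_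
        · rwa [hM, hsw _ _ (by omega), ← hM]
        · rwa [hK, hsw _ _ (by omega), ← hK]
    · rcases hY with rfl | rfl
      · exact k3
      · intro x hx
        rw [mul_inv_rev, swap_inv, Perm.mul_apply, hM, hsw _ _ (by omega), ← hM]
        exact k3 x hx
  obtain ⟨Y1, Y2, hY1, hY2, hY1', hY2'⟩ : ∃ Y1 Y2 : Perm (Fin n), (Y1 = Y0 ∨ Y1 = Y0 * swap u v) ∧
      (Y2 = Y0 ∨ Y2 = Y0 * swap u v) ∧ Y1 ∈ alternatingGroup (Fin n) ∧
      Y2 ∉ alternatingGroup (Fin n) := by
    rcases exists_parity Y0 huv with h | h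
    · exact ⟨_, _, Or.inl rfl, Or.inr rfl, h.1, h.2⟩
    · exact ⟨_, _, Or.inr rfl, Or.inl rfl, h.2, h.1⟩
  constructor
  · obtain ⟨A, hA, h3, h4⟩ := main Y2 hY2
    have h5 := eq_top_of_alt_le h4 (subset_closure ⟨2, rfl⟩) hY2'
    refine ⟨⟨_, h3, h5⟩, ?_⟩
    obtain ⟨U, hU⟩ := exists_gen_sym (hu 0) (hv 0) huv
    rw [← range_pair] at hU
    exact ⟨_, h3.change_one ![c3 (e 0) u v, U] (by rw [h5, hU]) 1 0 rfl, hU⟩
  · obtain ⟨A, hA, h3, h4⟩ := main Y1 hY1
    have hZ : c3 (e 0) u v ∈ alternatingGroup (Fin n) := sign_c3 (hu 0) (hv 0)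
    obtain ⟨h5, h6⟩ := kerGen_alt h3 (fun i => by fin_cases i; exacts [hA, hZ, hY1']) h4
    refine ⟨⟨_, h5, h6⟩, ?_⟩
    obtain ⟨U, hU, M, -, -, hU'⟩ := exists_gen_coprime_six (Finset.univ : Finset (Fin n))
      (by simp; omega) (Finset.mem_univ _) (Finset.mem_univ _) (Finset.mem_univ _)
      (hu 0) (hv 0) huv
    rw [Finset.coe_univ, AltOn_univ] at hU hU'
    rw [← range_pair] at hU'
    have h7 : closure (Set.range ![(⟨_, hZ⟩ : alternatingGroup (Fin n)), ⟨U, hU⟩]) = ⊤ := by
      rw [eq_top_iff]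
      intro g _
      obtain ⟨w, hw⟩ := exists_lift_eq (hU' g.2)
      have : g = FreeGroup.lift ![(⟨_, hZ⟩ : alternatingGroup (Fin n)), ⟨U, hU⟩] w := by
        apply Subtype.ext
        rw [← hw]
        refine ((map_lift (alternatingGroup (Fin n)).subtype _ w).trans ?_).symm
        congr 2; funext i; fin_cases i <;> rfl
      rw [this]
      exact lift_mem_of_forall (fun i => Subgroup.subset_closure (Set.mem_range_self i)) w
    exact ⟨_, h5.change_one ![(⟨_, hZ⟩ : alternatingGroup (Fin n)), ⟨U, hU⟩] (by rw [h6, h7])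
      1 0 rfl, h7⟩

theorem hasPres_small (n : ℕ) [NeZero n] :
    HasPres (Perm (Fin (n + 2))) 2 (3 + n / 2) ∧
      HasPres (alternatingGroup (Fin (n + 2))) 2 (3 + n / 2) := by
  classical
  let e : ZMod n → Fin (n + 2) := fun i => ⟨i.val + 2, by have := ZMod.val_lt i; omega⟩
  have he : Function.Injective e := fun i j h => ZMod.val_injective n (by
    have := congrArg Fin.val h; simpa [e] using this)
  let u : Fin (n + 2) := ⟨0, by omega⟩
  let v : Fin (n + 2) := ⟨1, by omega⟩
  have hu : ∀ i, e i ≠ u := fun i h => by simpa [e, u] using congrArg Fin.val h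
  have hv : ∀ i, e i ≠ v := fun i h => by simpa [e, v] using congrArg Fin.val h
  have huv : u ≠ v := fun h => by simpa [u, v] using congrArg Fin.val h
  have hall : Set.range e ∪ {u, v} = Set.univ := by
    rw [Set.eq_univ_iff_forall]
    intro x
    by_cases h0 : x.val = 0
    · exact Or.inr (Or.inl (Fin.ext h0))
    by_cases h0' : x.val = 1
    · exact Or.inr (Or.inr (Fin.ext h0'))
    refine Or.inl ⟨((x.val - 2 : ℕ) : ZMod n), Fin.ext ?_⟩
    simp only [e]
    have := x.2
    rw [ZMod.val_cast_of_lt (by omega)]; omega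
  let T0 : Perm (Fin (n + 2)) := extendDomain (Equiv.addRight (1 : ZMod n)) (Equiv.ofInjective e he)
  have E1 : ∀ i, T0 (e i) = e (i + 1) := fun i =>
    extendDomain_apply_image _ (Equiv.ofInjective e he) i
  have E2 : ∀ x, x ∉ Set.range e → T0 x = x := fun x hx =>
    extendDomain_apply_not_subtype _ _ hx
  have hu' : u ∉ Set.range e := by rintro ⟨i, hi⟩; exact hu i hi
  have hv' : v ∉ Set.range e := by rintro ⟨i, hi⟩; exact hv i hi
  have m1 := pres_small e he hu hv huv hall T0 1 (Or.inl rfl) (fun i => by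
    rw [zpow_one, c3_conj, E1, E2 _ hu', E2 _ hv'])
  have m2 := pres_small e he hu hv huv hall (T0 * swap u v) (-1) (Or.inr rfl) (fun i => by
    rw [zpow_neg_one, c3_conj, c3_inv]
    simp only [Perm.mul_apply, swap_apply_left, swap_apply_right]
    rw [swap_apply_of_ne_of_ne (hu i) (hv i), E1, E2 _ hu', E2 _ hv'])
  have hZ : c3 (e 0) u v ∈ alternatingGroup (Fin (n + 2)) := sign_c3 (hu 0) (hv 0)
  rcases exists_parity T0 huv with h | h
  · exact ⟨⟨_, m2.1, eq_top_of_alt_le m2.2 (subset_closure ⟨0, rfl⟩) h.2⟩,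
      ⟨_, kerGen_alt m1.1 (fun i => by fin_cases i; exacts [h.1, hZ]) m1.2⟩⟩
  · exact ⟨⟨_, m1.1, eq_top_of_alt_le m1.2 (subset_closure ⟨0, rfl⟩) h.1⟩,
      ⟨_, kerGen_alt m2.1 (fun i => by fin_cases i; exacts [h.2, hZ]) m2.2⟩⟩

theorem hasPres_three (n : ℕ) (hn : 5 ≤ n) :
    HasPres (Perm (Fin n)) 3 7 ∧ HasPres (alternatingGroup (Fin n)) 3 7 := by
  by_cases h : 7 ≤ n
  · exact ⟨(hasPres_big n h).1.1, (hasPres_big n h).2.1⟩
  · have h' : n = 5 ∨ n = 6 := by omega
    rcases h' with rfl | rfl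
    · exact ⟨(hasPres_small 3).1.two_three.mono (by norm_num),
        (hasPres_small 3).2.two_three.mono (by norm_num)⟩
    · exact ⟨(hasPres_small 4).1.two_three.mono (by norm_num),
        (hasPres_small 4).2.two_three.mono (by norm_num)⟩

theorem hasPres_perm_two : HasPres (Perm (Fin 2)) 2 2 := by
  have hb : alternatingGroup (Fin 2) = ⊥ := alternatingGroup.eq_bot_of_card_le_two (by simp)
  have hs : swap (0 : Fin 2) 1 ∉ alternatingGroup (Fin 2) := by simp
  refine ⟨![swap 0 1, 1], ?_, eq_top_of_alt_le (by rw [hb]; exact bot_le)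
    (subset_closure ⟨0, rfl⟩) hs⟩
  have := finish_kerGen (![swap 0 1, 1] : Fin 2 → Perm (Fin 2))
    {FreeGroup.of 0 ^ 2, FreeGroup.of 1} (by simp [pow_two]) (Ψ := fun _ => 1)
    (fun _ _ _ _ => by simp) 0 (fun i hi => by
      fin_cases i
      · exact absurd rfl hi
      · exact ⟨one_mem _, (PresentedGroup.one_of_mem (by simp)).symm⟩) (fun h => absurd h hs)
    (fun _ => (PresentedGroup.one_of_mem (x := FreeGroup.of 0 ^ 2) (by simp)).symm) (by simp)
  exact this.mono Finset.card_le_two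

theorem hasPres_two (n : ℕ) :
    HasPres (Perm (Fin n)) 2 8 ∧ HasPres (alternatingGroup (Fin n)) 2 8 := by
  by_cases h : 7 ≤ n
  · exact ⟨(hasPres_big n h).1.2, (hasPres_big n h).2.2⟩
  · have h' : n = 0 ∨ n = 1 ∨ n = 2 ∨ n = 3 ∨ n = 4 ∨ n = 5 ∨ n = 6 := by omega
    rcases h' with rfl | rfl | rfl | rfl | rfl | rfl | rfl
    · exact ⟨(hasPres_of_subsingleton _).mono (by norm_num),
        (hasPres_of_subsingleton _).mono (by norm_num)⟩
    · exact ⟨(hasPres_of_subsingleton _).mono (by norm_num),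
        (hasPres_of_subsingleton _).mono (by norm_num)⟩
    · have : Subsingleton (alternatingGroup (Fin 2)) := by
        rw [alternatingGroup.eq_bot_of_card_le_two (by simp)]; infer_instance
      exact ⟨hasPres_perm_two.mono (by norm_num), (hasPres_of_subsingleton _).mono (by norm_num)⟩
    · exact ⟨(hasPres_small 1).1.mono (by norm_num), (hasPres_small 1).2.mono (by norm_num)⟩
    · exact ⟨(hasPres_small 2).1.mono (by norm_num), (hasPres_small 2).2.mono (by norm_num)⟩
    · exact ⟨(hasPres_small 3).1.mono (by norm_num), (hasPres_small 3).2.mono (by norm_num)⟩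
    · exact ⟨(hasPres_small 4).1.mono (by norm_num), (hasPres_small 4).2.mono (by norm_num)⟩

end Cfsg.Agent.H3
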