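import Cfsg.Agent.H3.PresCore

set_option autoImplicit false

namespace Cfsg.Agent.H3

open Equiv Equiv.Perm Subgroup

/-- The relations among the elements `f i` follow from at most `m` of them. -/
def KerGen {ι G : Type*} [Group G] (f : ι → G) (m : ℕ) : Prop :=
  ∃ R : Finset (FreeGroup ι), R.card ≤ m ∧
    normalClosure (R : Set (FreeGroup ι)) = (FreeGroup.lift f).ker

section
variable {ι κ G G' : Type*} [Group G] [Group G']

theorem KerGen.mono {f : ι → G} {m n : ℕ} (h : KerGen f m) (hmn : m ≤ n) : KerGen f n := by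
  obtain ⟨R, h1, h2⟩ := h
  exact ⟨R, h1.trans hmn, h2⟩

theorem KerGen.of_hom {f : ι → G} {m : ℕ} (φ : G →* G') (hφ : Function.Injective φ) :
    KerGen (fun i => φ (f i)) m ↔ KerGen f m := by
  have : (FreeGroup.lift (fun i => φ (f i))).ker = (FreeGroup.lift f).ker := by
    ext w
    rw [MonoidHom.mem_ker, MonoidHom.mem_ker, ← map_lift, map_eq_one_iff φ hφ]
  simp only [KerGen, this]

theorem KerGen.equiv {f : ι → G} {m : ℕ} (h : KerGen f m) (hf : closure (Set.range f) = ⊤) :
    ∃ R : Finset (FreeGroup ι), R.card ≤ m ∧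
      ∃ e : PresentedGroup (R : Set (FreeGroup ι)) ≃* G, ∀ i, e (PresentedGroup.of i) = f i := by
  obtain ⟨R, h1, h2⟩ := h
  have hs : Function.Surjective (FreeGroup.lift f) := by
    rw [← MonoidHom.range_eq_top, FreeGroup.range_lift_eq_closure, hf]
  refine ⟨R, h1, (QuotientGroup.quotientMulEquivOfEq h2).trans
    (QuotientGroup.quotientKerEquivOfSurjective _ hs), fun i => ?_⟩
  change FreeGroup.lift f (FreeGroup.of i) = f i
  simp

theorem kerGen_of_homOn {f : ι → G} (R : Finset (FreeGroup ι))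
    (hR : ∀ r ∈ R, FreeGroup.lift f r = 1) {B : Subgroup G}
    {Φ : G → PresentedGroup (R : Set (FreeGroup ι))} (hΦ : HomOn B Φ) (hf : ∀ i, f i ∈ B)
    (hΦf : ∀ i, Φ (f i) = PresentedGroup.of i) : KerGen f R.card := by
  refine ⟨R, le_rfl, le_antisymm (normalClosure_le_normal fun r hr => hR r hr) fun w hw => ?_⟩
  rw [← PresentedGroup.mk_eq_one_iff]
  have h1 := hΦ.lift_eq f hf w
  rw [MonoidHom.mem_ker.1 hw, hΦ.map_one] at h1
  have h2 : FreeGroup.lift (fun i => Φ (f i)) = PresentedGroup.mk (R : Set (FreeGroup ι)) := by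
    ext i; simp [hΦf]; rfl
  rw [← h2, ← h1]

theorem lift_of_eq_mk (R : Set (FreeGroup ι)) :
    FreeGroup.lift (fun i => (PresentedGroup.of i : PresentedGroup R)) = PresentedGroup.mk R := by
  ext i; simp; rfl

theorem KerGen.change_aux {f : ι → G} {m : ℕ} (h : KerGen f m) (g : κ → G)
    (w : ι → FreeGroup κ) (v : κ → FreeGroup ι) (hw : ∀ i, FreeGroup.lift g (w i) = f i)
    (hv : ∀ k, FreeGroup.lift f (v k) = g k) (T : Finset κ)
    (hT : ∀ k, k ∉ T → FreeGroup.lift w (v k) = FreeGroup.of k) : KerGen g (m + T.card) := by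
  classical
  obtain ⟨R, h1, h2⟩ := h
  have hgw : ∀ x, FreeGroup.lift g (FreeGroup.lift w x) = FreeGroup.lift f x := fun x => by
    rw [map_lift]; simp only [hw]
  have hfv : ∀ x, FreeGroup.lift f (FreeGroup.lift v x) = FreeGroup.lift g x := fun x => by
    rw [map_lift]; simp only [hv]
  let R' : Finset (FreeGroup κ) := R.image (FreeGroup.lift w) ∪
    T.image (fun k => (FreeGroup.of k)⁻¹ * FreeGroup.lift w (v k))
  refine ⟨R', (Finset.card_union_le _ _).trans (add_le_add (Finset.card_image_le.trans h1)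
    Finset.card_image_le), le_antisymm (normalClosure_le_normal fun r hr => ?_) fun x hx => ?_⟩
  · simp only [R', Finset.coe_union, Finset.coe_image, Set.mem_union, Set.mem_image] at hr
    rcases hr with ⟨r, hr, rfl⟩ | ⟨k, -, rfl⟩
    · change FreeGroup.lift g _ = 1
      rw [hgw, ← MonoidHom.mem_ker, ← h2]
      exact subset_normalClosure hr
    · change FreeGroup.lift g _ = 1
      rw [map_mul, hgw, hv]; simp
  · let π := PresentedGroup.mk (R' : Set (FreeGroup κ))
    rw [← PresentedGroup.mk_eq_one_iff]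
    have h3 : π = (π.comp (FreeGroup.lift w)).comp (FreeGroup.lift v) := by
      ext k
      simp only [MonoidHom.comp_apply, FreeGroup.lift_apply_of]
      by_cases hk : k ∈ T
      · apply PresentedGroup.mk_eq_mk_of_inv_mul_mem
        simp only [R', Finset.coe_union, Finset.coe_image, Set.mem_union, Set.mem_image]
        exact Or.inr ⟨k, hk, rfl⟩
      · rw [hT k hk]
    have h4 : normalClosure (R : Set (FreeGroup ι)) ≤ (π.comp (FreeGroup.lift w)).ker := by
      apply normalClosure_le_normal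
      intro r hr
      apply PresentedGroup.one_of_mem
      simp only [R', Finset.coe_union, Finset.coe_image, Set.mem_union, Set.mem_image]
      exact Or.inl ⟨r, hr, rfl⟩
    change π x = 1
    rw [h3]
    apply h4
    rw [h2, MonoidHom.mem_ker, hfv]
    exact hx

theorem exists_lift_eq {f : ι → G} {g : G} (hg : g ∈ closure (Set.range f)) :
    ∃ w, FreeGroup.lift f w = g := by
  rwa [← FreeGroup.range_lift_eq_closure] at hg

theorem KerGen.change [Fintype κ] {f : ι → G} {m : ℕ} (h : KerGen f m) (g : κ → G)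
    (hfg : closure (Set.range f) = closure (Set.range g)) : KerGen g (m + Fintype.card κ) := by
  choose w hw using fun i => exists_lift_eq (f := g) (g := f i)
    (hfg ▸ subset_closure ⟨i, rfl⟩)
  choose v hv using fun k => exists_lift_eq (f := f) (g := g k)
    (hfg ▸ subset_closure ⟨k, rfl⟩)
  exact h.change_aux g w v hw hv Finset.univ (fun k hk => absurd (Finset.mem_univ k) hk)

theorem KerGen.change_one [Fintype κ] {f : ι → G} {m : ℕ} (h : KerGen f m) (g : κ → G)
    (hfg : closure (Set.range f) = closure (Set.range g)) (i0 : ι) (k0 : κ) (h0 : f i0 = g k0) :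
    KerGen g (m + (Fintype.card κ - 1)) := by
  classical
  choose w hw using fun i => exists_lift_eq (f := g) (g := f i)
    (hfg ▸ subset_closure ⟨i, rfl⟩)
  choose v hv using fun k => exists_lift_eq (f := f) (g := g k)
    (hfg ▸ subset_closure ⟨k, rfl⟩)
  have := h.change_aux g (Function.update w i0 (FreeGroup.of k0))
    (Function.update v k0 (FreeGroup.of i0)) (fun i => by
      by_cases hi : i = i0
      · subst hi; simp [h0]
      · simp [hi, hw]) (fun k => by
      by_cases hk : k = k0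
      · subst hk; simp [h0]
      · simp [hk, hv]) (Finset.univ.erase k0) (fun k hk => by
      have : k = k0 := by simpa using hk
      subst this; simp)
  rwa [Finset.card_erase_of_mem (Finset.mem_univ _), Finset.card_univ] at this

end

variable {α : Type*} [DecidableEq α] [Fintype α] {J : Type*} [Group J]

theorem HomOn.extend_odd {Ψ : Perm α → J} (h : HomOn (alternatingGroup α) Ψ) {Y : Perm α}
    (hY : Y ∉ alternatingGroup α) {y : J}
    (hc : ∀ g ∈ alternatingGroup α, Ψ (Y * g * Y⁻¹) = y * Ψ g * y⁻¹) (h2 : Ψ (Y ^ 2) = y ^ 2) :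
    ∃ Φ : Perm α → J, HomOn ⊤ Φ ∧ (∀ g ∈ alternatingGroup α, Φ g = Ψ g) ∧ Φ Y = y := by
  classical
  have hs : ∀ g : Perm α, g ∉ alternatingGroup α → sign g = -1 := fun g hg =>
    (Int.units_eq_one_or (sign g)).resolve_left hg
  have hY' := hs Y hY
  let Φ : Perm α → J := fun g => if g ∈ alternatingGroup α then Ψ g else Ψ (g * Y⁻¹) * y
  have e1 : ∀ g ∈ alternatingGroup α, Φ g = Ψ g := fun g hg => if_pos hg
  have e2 : ∀ g ∈ alternatingGroup α, Φ (g * Y) = Ψ g * y := fun g hg => by
    have : g * Y ∉ alternatingGroup α := by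
      rw [mem_alternatingGroup] at hg ⊢; simp [hg, hY']
    simp only [Φ, if_neg this, mul_inv_cancel_right]
  have e3 : ∀ g : Perm α, g ∈ alternatingGroup α ∨ ∃ k ∈ alternatingGroup α, g = k * Y := by
    intro g
    by_cases hg : g ∈ alternatingGroup α
    · exact Or.inl hg
    · exact Or.inr ⟨g * Y⁻¹, by simp [hs g hg, hY'], by group⟩
  have hn : ∀ g ∈ alternatingGroup α, Y * g * Y⁻¹ ∈ alternatingGroup α := fun g hg =>
    Normal.conj_mem inferInstance g hg Y
  refine ⟨Φ, fun g _ k _ => ?_, e1, by simpa [h.map_one] using e2 1 (one_mem _)⟩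
  rcases e3 g with hg | ⟨g, hg, rfl⟩ <;> rcases e3 k with hk | ⟨k, hk, rfl⟩
  · rw [e1 _ hg, e1 _ hk, e1 _ (mul_mem hg hk), h _ hg _ hk]
  · rw [← mul_assoc, e2 _ (mul_mem hg hk), e1 _ hg, e2 _ hk, h _ hg _ hk, mul_assoc]
  · have : g * Y * k = g * (Y * k * Y⁻¹) * Y := by group
    rw [this, e2 _ (mul_mem hg (hn k hk)), e2 _ hg, e1 _ hk, h _ hg _ (hn k hk), hc k hk]; group
  · have : g * Y * (k * Y) = g * (Y * k * Y⁻¹) * Y ^ 2 := by rw [pow_two]; group
    have hY2 : Y ^ 2 ∈ alternatingGroup α := by simp [hY']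
    rw [this, e1 _ (mul_mem (mul_mem hg (hn k hk)) hY2), e2 _ hg, e2 _ hk,
      h _ (mul_mem hg (hn k hk)) _ hY2, h _ hg _ (hn k hk), hc k hk, h2, pow_two]
    group

end Cfsg.Agent.H3
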