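import Cfsg.Agent.H3.PresFrame
import Cfsg.Agent.H3.Gen

set_option autoImplicit false

namespace Cfsg.Agent.H3

open Equiv Equiv.Perm Subgroup

variable {α : Type*} [DecidableEq α] [Fintype α]

theorem exists_affine {p : ℕ} [Fact p.Prime] (hp2 : p ≠ 2) (r : ZMod p) (hr0 : r ≠ 0) (hr1 : r ≠ 1)
    (hr : ∀ j : ZMod p, j ≠ 0 → ∃ k : ℕ, r ^ k = j)
    (e : ZMod p → α) (he : Function.Injective e) {u v : α}
    (hu : ∀ i, e i ≠ u) (hv : ∀ i, e i ≠ v) (huv : u ≠ v) :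
    ∃ A B : Perm α, A ∈ AltOn (Set.range e ∪ {u, v}) ∧ B ∈ AltOn (Set.range e ∪ {u, v}) ∧
      (∀ i, A * c3 (e i) u v * A⁻¹ = c3 (e (i + 1)) u v) ∧
      (∀ i, B * c3 (e i) u v * B⁻¹ = (c3 (e (r * i)) u v)⁻¹) ∧ A ^ p = 1 ∧ B ^ (p - 1) = 1 ∧
      B * A * B⁻¹ = A ^ r.val := by
  classical
  have hpp : p.Prime := Fact.out
  have hodd : Odd p := hpp.odd_of_ne_two hp2
  let E : Perm (ZMod p) →* Perm α := extendDomainHom (Equiv.ofInjective e he)
  have E1 : ∀ σ i, E σ (e i) = e (σ i) := fun σ i =>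
    extendDomain_apply_image σ (Equiv.ofInjective e he) i
  have E2 : ∀ σ x, x ∉ Set.range e → E σ x = x := fun σ x hx =>
    extendDomain_apply_not_subtype σ _ hx
  have E3 : ∀ σ, sign (E σ) = sign σ := fun σ => sign_extendDomain σ _
  have hu' : u ∉ Set.range e := by rintro ⟨i, hi⟩; exact hu i hi
  have hv' : v ∉ Set.range e := by rintro ⟨i, hi⟩; exact hv i hi
  let a : Perm (ZMod p) := Equiv.addRight 1
  let m : Perm (ZMod p) := Equiv.mulLeft₀ r hr0
  have ha : ∀ (n : ℕ) x, (a ^ n) x = x + n := by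
    intro n x
    induction n with
    | zero => simp
    | succ n ih => rw [pow_succ', Perm.mul_apply, ih]; simp [a, add_assoc]
  have hm : ∀ (n : ℕ) x, (m ^ n) x = r ^ n * x := by
    intro n x
    induction n with
    | zero => simp
    | succ n ih => rw [pow_succ', Perm.mul_apply, ih, pow_succ']; simp [m, mul_assoc]
  have hap : a ^ p = 1 := by ext x; simp [ha]
  have hmp : m ^ (p - 1) = 1 := by ext x; simp [hm, ZMod.pow_card_sub_one_eq_one hr0]
  have hsa : sign a = 1 := by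
    have := congrArg sign hap
    rcases Int.units_eq_one_or (sign a) with h | h
    · exact h
    · rw [map_pow, h, hodd.neg_one_pow, map_one] at this
      exact absurd this (by decide)
  have hsm : sign m = -1 := by
    have h1 : IsCycle m := by
      refine ⟨1, by simpa [m] using hr1, fun y hy => ?_⟩
      have hy0 : y ≠ 0 := by rintro rfl; simp [m] at hy
      obtain ⟨k, hk⟩ := hr y hy0
      exact ⟨k, by rw [zpow_natCast, hm, mul_one, hk]⟩
    have h2 : m.support = Finset.univ.erase 0 := by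
      ext y
      simp only [mem_support, m, mulLeft₀_apply, Finset.mem_erase, Finset.mem_univ, and_true]
      constructor
      · rintro h rfl; simp at h
      · intro h h'
        exact hr1 (mul_right_cancel₀ h (by rw [h', one_mul]))
    rw [h1.sign, h2, Finset.card_erase_of_mem (Finset.mem_univ _), Finset.card_univ, ZMod.card,
      Even.neg_one_pow (Nat.Odd.sub_odd hodd odd_one)]
  have hc : ∀ σ, Commute (E σ) (swap u v) := fun σ => by
    rw [commute_iff_eq, mul_swap_eq_swap_mul, E2 σ u hu', E2 σ v hv']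
  refine ⟨E a, E m * swap u v, ⟨by rw [E3, hsa], fun x hx => E2 _ _ (fun h => hx (Or.inl h))⟩,
    ⟨by rw [map_mul, E3, hsm, sign_swap huv]; simp, fun x hx => ?_⟩, fun i => ?_, fun i => ?_,
    ?_, ?_, ?_⟩
  · simp only [Set.mem_union, Set.mem_insert_iff, Set.mem_singleton_iff, not_or] at hx
    rw [Perm.mul_apply, swap_apply_of_ne_of_ne hx.2.1 hx.2.2, E2 _ _ hx.1]
  · rw [c3_conj, E1, E2 _ _ hu', E2 _ _ hv']; rfl
  · rw [c3_conj, c3_inv]
    simp only [Perm.mul_apply, swap_apply_left, swap_apply_right]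
    rw [swap_apply_of_ne_of_ne (hu i) (hv i), E1, E2 _ _ hu', E2 _ _ hv']; rfl
  · rw [← map_pow, hap, map_one]
  · obtain ⟨k, hk⟩ := hodd
    rw [(hc m).mul_pow, ← map_pow, hmp, map_one, one_mul, show p - 1 = 2 * k by omega, pow_mul,
      pow_two, swap_mul_self, one_pow]
  · have : E m * swap u v * E a * (E m * swap u v)⁻¹ = E m * E a * (E m)⁻¹ := by
      rw [mul_assoc (E m), ← (hc a).eq]; group
    rw [this, ← map_inv, ← map_mul, ← map_mul, ← map_pow]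
    congr 1
    ext x
    rw [ha]
    simp [a, m, mul_add, hr0]

/-- the seven relators -/
def presRels {J : Type*} [Group J] (p s M ε : ℕ) (Wb V1 U2 V2 D D' : FreeGroup (ZMod p))
    (Wy : FreeGroup (ZMod p ⊕ ZMod p)) (a z y : J) : Fin 7 → J :=
  let x := xs p a z
  let b := FreeGroup.lift x Wb *
    ((y ^ ε)⁻¹ * FreeGroup.lift (Sum.elim x (fun i => y * x i * y⁻¹)) Wy)
  ![a ^ p * (b ^ (p - 1))⁻¹, b * a ^ (s + 1) * b⁻¹ * (a ^ s)⁻¹, b * z * b⁻¹ * z⁻¹⁻¹,
    (z * (a * z * a⁻¹)) ^ 2 * (z ^ 3)⁻¹,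
    y * (z * ((FreeGroup.lift x Wb)⁻¹ * b)) * y⁻¹ * (FreeGroup.lift x V1 ^ 4)⁻¹,
    y * (FreeGroup.lift x U2 ^ (M + 1) * ((FreeGroup.lift x Wb)⁻¹ * b)) * y⁻¹ *
      (FreeGroup.lift x V2 ^ (M + 1))⁻¹,
    FreeGroup.lift x D * (y * FreeGroup.lift x D' * y⁻¹) *
      ((y * FreeGroup.lift x D' * y⁻¹) * FreeGroup.lift x D)⁻¹]

theorem map_xs {J J' : Type*} [Group J] [Group J'] (φ : J →* J') (p : ℕ) (a z : J) (i : ZMod p) :
    φ (xs p a z i) = xs p (φ a) (φ z) i := by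
  simp [xs]

theorem map_presRels {J J' : Type*} [Group J] [Group J'] (φ : J →* J') (p s M ε : ℕ)
    (Wb V1 U2 V2 D D' : FreeGroup (ZMod p)) (Wy : FreeGroup (ZMod p ⊕ ZMod p)) (a z y : J)
    (i : Fin 7) : φ (presRels p s M ε Wb V1 U2 V2 D D' Wy a z y i) =
      presRels p s M ε Wb V1 U2 V2 D D' Wy (φ a) (φ z) (φ y) i := by
  have h1 : ∀ w, φ (FreeGroup.lift (xs p a z) w) = FreeGroup.lift (xs p (φ a) (φ z)) w := by
    intro w; rw [map_lift]; simp only [map_xs]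
  have h2 : φ (FreeGroup.lift (Sum.elim (xs p a z) (fun i => y * xs p a z i * y⁻¹)) Wy) =
      FreeGroup.lift (Sum.elim (xs p (φ a) (φ z))
        (fun i => φ y * xs p (φ a) (φ z) i * (φ y)⁻¹)) Wy := by
    rw [map_lift]; congr 2; funext i; cases i <;> simp [map_xs]
  fin_cases i <;> simp [presRels, h1, h2, -mul_inv_rev]

theorem pres_main {p : ℕ} [Fact p.Prime] (hp2 : p ≠ 2)
    (e : ZMod p → α) (he : Function.Injective e) {u v : α}
    (hu : ∀ i, e i ≠ u) (hv : ∀ i, e i ≠ v) (huv : u ≠ v) (K : Finset α) (hK6 : 6 ≤ K.card)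
    (hKM : (K : Set α) ⊆ Set.range e ∪ {u, v}) (h0K : e 0 ∈ K) (huK : u ∈ K) (hvK : v ∈ K)
    (Y : Perm α) (hYK : ∀ x, Y x ∈ K ↔ x ∈ K)
    (hYL : ∀ x ∈ Set.range e ∪ {u, v}, x ∉ K → Y x ∉ Set.range e ∪ {u, v})
    (hYR : ∀ x, x ∉ Set.range e ∪ {u, v} → Y⁻¹ x ∈ Set.range e ∪ {u, v}) :
    ∃ A ∈ alternatingGroup α, KerGen ![A, c3 (e 0) u v, Y] 7 ∧
      alternatingGroup α ≤ closure (Set.range ![A, c3 (e 0) u v, Y]) := by
  classical
  have hpp : p.Prime := Fact.out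
  obtain ⟨r, hr0, hr1, hr⟩ : ∃ r : ZMod p, r ≠ 0 ∧ r ≠ 1 ∧ ∀ j : ZMod p, j ≠ 0 → ∃ k : ℕ, r ^ k = j := by
    obtain ⟨g, hg⟩ := IsCyclic.exists_monoid_generator (α := (ZMod p)ˣ)
    have h1 : ∀ j : ZMod p, j ≠ 0 → ∃ k : ℕ, (g : ZMod p) ^ k = j := by
      intro j hj
      obtain ⟨k, hk⟩ := hg (Units.mk0 j hj)
      exact ⟨k, by simpa using congrArg Units.val hk⟩
    refine ⟨g, g.ne_zero, fun h => ?_, h1⟩
    obtain ⟨k, hk⟩ := h1 (-1) (by simp)
    rw [h, one_pow] at hk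
    have : Fact (2 < p) := ⟨lt_of_le_of_ne hpp.two_le (Ne.symm hp2)⟩
    exact ZMod.neg_one_ne_one hk.symm
  obtain ⟨s, hs⟩ : ∃ s : ℕ, ((s + 1 : ℕ) : ZMod p) * (1 - r) = 1 := by
    refine ⟨((1 - r)⁻¹ - 1).val, ?_⟩
    push_cast
    rw [ZMod.natCast_zmod_val, sub_add_cancel, inv_mul_cancel₀ (sub_ne_zero.2 hr1.symm)]
  obtain ⟨A, B, hA, hB, hAx, hBx, hAp, hBp, hBA⟩ := exists_affine hp2 r hr0 hr1 hr e he hu hv huv
  set M₁ : Set α := Set.range e ∪ {u, v} with hM₁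
  set M₂ : Set α := Y '' M₁ with hM₂
  set X : ZMod p → Perm α := fun i => c3 (e i) u v with hX
  have hXm : ∀ i, X i ∈ AltOn M₁ := fun i =>
    c3_mem_AltOn (Or.inl ⟨i, rfl⟩) (by simp [hM₁]) (by simp [hM₁]) (hu i) (hv i)
  have hYK' : ∀ x, Y⁻¹ x ∈ K ↔ x ∈ K := fun x => by rw [← hYK]; simp
  have hKM₂ : (K : Set α) ⊆ M₂ := fun x hx => ⟨Y⁻¹ x, hKM ((hYK' x).2 hx), by simp⟩
  have hint : M₁ ∩ M₂ = K := by
    apply le_antisymm
    · rintro _ ⟨h1, x, hx, rfl⟩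
      by_contra h
      exact hYL x hx (fun h' => h ((hYK x).2 h')) h1
    · exact fun x hx => ⟨hKM hx, hKM₂ hx⟩
  have huni : M₁ ∪ M₂ = Set.univ := by
    rw [Set.eq_univ_iff_forall]
    intro x
    by_cases hx : x ∈ M₁
    · exact Or.inl hx
    · exact Or.inr ⟨Y⁻¹ x, hYR x hx, by simp⟩
  have conjK : ∀ g ∈ AltOn (K : Set α), Y * g * Y⁻¹ ∈ AltOn (K : Set α) := fun g hg =>
    conj_mem_AltOn hg (fun x hx => (hYK x).2 hx)
  have conjK' : ∀ g ∈ AltOn (K : Set α), Y⁻¹ * g * Y ∈ AltOn (K : Set α) := fun g hg => by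
    simpa using conj_mem_AltOn (g := Y⁻¹) (t := K) hg (fun x hx => (hYK' x).2 hx)
  have conj1 : ∀ g ∈ AltOn M₁, Y * g * Y⁻¹ ∈ AltOn M₂ := fun g hg =>
    conj_mem_AltOn hg (fun x hx => ⟨x, hx, rfl⟩)
  have conj2 : ∀ g ∈ AltOn M₂, Y⁻¹ * g * Y ∈ AltOn M₁ := fun g hg => by
    simpa using conj_mem_AltOn (g := Y⁻¹) (t := M₁) hg (by rintro _ ⟨x, hx, rfl⟩; simpa using hx)
  have hKA : AltOn (K : Set α) ≤ AltOn M₁ := AltOn_mono hKM
  have hZK : X 0 ∈ AltOn (K : Set α) := c3_mem_AltOn h0K huK hvK (hu 0) (hv 0)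
  obtain ⟨U, hU, M, hM, hUM, hgen⟩ := exists_gen_coprime_six K hK6 h0K huK hvK (hu 0) (hv 0) huv
  -- six points
  obtain ⟨p1, p2, p3, p4, p5, p6, hnd, hpK⟩ : ∃ p1 p2 p3 p4 p5 p6 : α,
      [p1, p2, p3, p4, p5, p6].Nodup ∧ ∀ q ∈ [p1, p2, p3, p4, p5, p6], q ∈ M₁ ∩ M₂ := by
    have h1 := K.nodup_toList
    have h2 : 6 ≤ K.toList.length := by rwa [Finset.length_toList]
    have h3 : ∀ q ∈ K.toList, q ∈ M₁ ∩ M₂ := fun q hq => by
      rw [hint]; exact Finset.mem_toList.1 hq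
    generalize K.toList = l at h1 h2 h3
    match l, h2 with
    | p1 :: p2 :: p3 :: p4 :: p5 :: p6 :: t, _ =>
      refine ⟨p1, p2, p3, p4, p5, p6, ?_, fun q hq => h3 q ?_⟩
      · exact (List.nodup_append.1 (show ([p1, p2, p3, p4, p5, p6] ++ t).Nodup from h1)).1
      · exact (show q ∈ [p1, p2, p3, p4, p5, p6] ++ t from List.mem_append_left _ hq)
  have hnd' := hnd
  have hpK' := hpK
  simp only [List.nodup_cons, List.mem_cons, List.not_mem_nil, or_false, not_or,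
    forall_eq_or_imp, forall_eq, Set.mem_inter_iff] at hnd' hpK'
  obtain ⟨d, hd, hdo⟩ := exists_even_cover (M₁ \ M₂).toFinset (p := p1) (q := p3)
    (by simp [hpK'.1.2]) (by simp [hpK'.2.2.1.2]) hnd'.1.2.1
  obtain ⟨d₂, hd₂, hdo₂⟩ := exists_even_cover (M₂ \ M₁).toFinset (p := p2) (q := p4)
    (by simp [hpK'.2.1.1]) (by simp [hpK'.2.2.2.1.1]) hnd'.2.1.2.1
  rw [Set.coe_toFinset] at hd hd₂
  simp only [Set.mem_toFinset] at hdo hdo₂
  have hd1 : d ∈ AltOn M₁ := AltOn_mono (by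
    rintro x (hx | rfl | rfl); exacts [hx.1, hpK'.1.1, hpK'.2.2.1.1]) hd
  have hd2 : d₂ ∈ AltOn M₂ := AltOn_mono (by
    rintro x (hx | rfl | rfl); exacts [hx.1, hpK'.2.1.2, hpK'.2.2.2.1.2]) hd₂
  have hdd : Commute d d₂ := by
    refine commute_of_AltOn_disjoint hd hd₂ ?_
    rw [Set.disjoint_left]
    simp only [Set.mem_union, Set.mem_sdiff, Set.mem_insert_iff, Set.mem_singleton_iff]
    grind
  -- words
  obtain ⟨Wb, hWb⟩ := exists_word e huv hB
  obtain ⟨V1, hV1⟩ := exists_word e huv (hKA (conjK _ hZK))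
  obtain ⟨U2, hU2⟩ := exists_word e huv (hKA hU)
  obtain ⟨V2, hV2⟩ := exists_word e huv (hKA (conjK _ hU))
  obtain ⟨D, hD⟩ := exists_word e huv hd1
  obtain ⟨D', hD'⟩ := exists_word e huv (conj2 _ hd2)
  rw [← hX] at hWb hV1 hU2 hV2 hD hD'
  let X2 : ZMod p ⊕ ZMod p → Perm α := Sum.elim X (fun i => Y * X i * Y⁻¹)
  have hgen2 : alternatingGroup α ≤ (FreeGroup.lift X2).range := by
    apply Full.alternatingGroup_le
    rw [← huni]
    have f1 : Full (FreeGroup.lift X2).range M₁ := by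
      refine (full_AltOn M₁).mono_left fun g hg => ?_
      obtain ⟨w, rfl⟩ := exists_word e huv hg
      refine lift_mem_of_forall (fun i => ?_) w
      exact ⟨FreeGroup.of (Sum.inl i), by simp [X2, hX]⟩
    have f2 : Full (FreeGroup.lift X2).range M₂ := by
      refine (full_AltOn M₂).mono_left fun g hg => ?_
      obtain ⟨w, hw⟩ := exists_word e huv (conj2 g hg)
      have : g = (MulAut.conj Y).toMonoidHom (FreeGroup.lift (fun i => c3 (e i) u v) w) := by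
        rw [hw]; simp [mul_assoc]
      rw [this, map_lift]
      refine lift_mem_of_forall (fun i => ?_) w
      exact ⟨FreeGroup.of (Sum.inr i), by simp [X2, hX]⟩
    exact f1.union f2 (hKM h0K) (hKM huK) (hKM hvK) (hu 0) (hv 0) huv (hKM₂ h0K) (hKM₂ huK)
      (hKM₂ hvK) (hu 0) (hv 0) huv
  let ε : ℕ := if Y ∈ alternatingGroup α then 1 else 2
  have hYε : Y ^ ε ∈ alternatingGroup α := by
    by_cases h : Y ∈ alternatingGroup α
    · simp [ε, h]
    · simp only [ε, if_neg h]; simp [pow_two]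
  obtain ⟨Wy, hWy⟩ := hgen2 hYε
  have hxs : xs p A (c3 (e 0) u v) = X := by
    have : ∀ n : ℕ, A ^ n * c3 (e 0) u v * (A ^ n)⁻¹ = c3 (e n) u v := by
      intro n
      induction n with
      | zero => simp
      | succ n ih => rw [Nat.cast_succ, ← hAx, ← ih, pow_succ']; group
    funext i
    rw [xs, this, ZMod.natCast_zmod_val]
  let R : Finset (FreeGroup (Fin 3)) := Finset.univ.image
    (presRels p s M ε Wb V1 U2 V2 D D' Wy (FreeGroup.of 0) (FreeGroup.of 1) (FreeGroup.of 2))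
  have hR7 : R.card ≤ 7 := Finset.card_image_le.trans (by simp)
  have hZ3 : X 0 ^ 3 = 1 := c3_pow_three (hu 0) (hv 0) huv
  have hRt : ∀ w ∈ R, FreeGroup.lift ![A, c3 (e 0) u v, Y] w = 1 := by
    intro w hw
    obtain ⟨i, -, rfl⟩ := Finset.mem_image.1 hw
    rw [map_presRels]
    simp only [FreeGroup.lift_apply_of, Matrix.cons_val_zero, Matrix.cons_val_one,
      Matrix.cons_val, presRels, hxs]
    have hb : FreeGroup.lift X Wb * ((Y ^ ε)⁻¹ *
        FreeGroup.lift (Sum.elim X (fun i => Y * X i * Y⁻¹)) Wy) = B := by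
      rw [hWb, hWy]; simp
    rw [hb, hWb, hV1, hU2, hV2, hD, hD']
    fin_cases i <;> simp only [Matrix.cons_val_zero', Matrix.cons_val_succ', mul_inv_eq_one,
      Fin.zero_eta, Fin.mk_one, Fin.reduceFinMk, Matrix.cons_val_zero, Matrix.cons_val_one,
      Matrix.cons_val]
    · rw [hAp, hBp]
    · rw [← conj_pow, hBA, ← pow_mul]
      apply pow_eq_of_cast_eq hAp
      push_cast at hs ⊢
      rw [ZMod.natCast_zmod_val]
      linear_combination (-1 : ZMod p) * hs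
    · rw [hBx, mul_zero]
    · rw [hAx, c3_mul_c3_sq (hu 0) (hv 0) (hu _) (hv _) huv (he.ne (by simp)),
        c3_pow_three (hu 0) (hv 0) huv]
    · rw [conj_pow, pow_succ, hZ3]; simp [hX]
    · rw [conj_pow, pow_succ, hUM]; simp
    · have : Y * (Y⁻¹ * d₂ * Y) * Y⁻¹ = d₂ := by group
      rw [this, hdd.eq]
  let J := PresentedGroup (R : Set (FreeGroup (Fin 3)))
  let a : J := PresentedGroup.of 0
  let z : J := PresentedGroup.of 1
  let y : J := PresentedGroup.of 2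
  have hRJ : ∀ i, presRels p s M ε Wb V1 U2 V2 D D' Wy a z y i = 1 := by
    intro i
    have h1 : PresentedGroup.mk (R : Set (FreeGroup (Fin 3)))
        (presRels p s M ε Wb V1 U2 V2 D D' Wy (FreeGroup.of 0) (FreeGroup.of 1) (FreeGroup.of 2) i)
        = 1 := PresentedGroup.one_of_mem (Finset.mem_coe.2 (Finset.mem_image_of_mem _
          (Finset.mem_univ i)))
    rw [map_presRels] at h1
    exact h1
  have R1 := mul_inv_eq_one.1 (hRJ 0)
  have R2 := mul_inv_eq_one.1 (hRJ 1)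
  have R3 := mul_inv_eq_one.1 (hRJ 2)
  have R4 := mul_inv_eq_one.1 (hRJ 3)
  have R5 := mul_inv_eq_one.1 (hRJ 4)
  have R6 := mul_inv_eq_one.1 (hRJ 5)
  have R7 := mul_inv_eq_one.1 (hRJ 6)
  obtain ⟨ψ, hψ, hψw, hψA, hb, hy1, hy2⟩ := pres_core r hr1 hr s hs e he hu hv huv hA hAx hBx hAp
    hBA Wb V1 U2 V2 M hM hWb (by rw [hV1, conj_pow, hZ3]; simp) (by rw [hU2, hUM])
    (by rw [hV2, conj_pow, hUM]; simp) R1 R2 R3 R4 R5 R6
  rw [← hX] at hψw hy1 hy2
  have hκ := inv_mul_eq_one.1 (mul_eq_left.1 hb)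
  rw [hV1] at hy1
  rw [hU2, hV2] at hy2
  have hψx : ∀ i, ψ (X i) = xs p a z i := fun i => by simpa using hψw (FreeGroup.of i)
  let ψ₂ : Perm α → J := fun g => y * ψ (Y⁻¹ * g * Y) * y⁻¹
  have hψ₂ : HomOn (AltOn M₂) ψ₂ := by
    intro g hg k hk
    have : Y⁻¹ * (g * k) * Y = (Y⁻¹ * g * Y) * (Y⁻¹ * k * Y) := by group
    simp only [ψ₂]
    rw [this, hψ _ (conj2 g hg) _ (conj2 k hk)]; group
  have hagree : ∀ g ∈ AltOn (K : Set α), ψ (Y * g * Y⁻¹) = y * ψ g * y⁻¹ := by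
    intro g hg
    have h1 : HomOn (AltOn (K : Set α)) (fun g => ψ (Y * g * Y⁻¹)) := by
      intro g hg k hk
      have : Y * (g * k) * Y⁻¹ = (Y * g * Y⁻¹) * (Y * k * Y⁻¹) := by group
      simp only
      rw [this, hψ _ (hKA (conjK g hg)) _ (hKA (conjK k hk))]
    have h2 : HomOn (AltOn (K : Set α)) (fun g => y * ψ g * y⁻¹) := by
      intro g hg k hk
      simp only
      rw [hψ _ (hKA hg) _ (hKA hk)]; group
    refine h1.eq_of_le_closure h2 ?_ ?_ (hgen hg)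
    · rintro _ (rfl | rfl); exacts [hZK, hU]
    · rintro _ (rfl | rfl); exacts [hy1.symm, hy2.symm]
  obtain ⟨Ψ, hΨ, hΨ1, hΨ2⟩ := glue hψ hψ₂ (fun g hg => by
      rw [hint] at hg
      simp only [ψ₂]
      rw [← hagree _ (conjK' g hg)]; congr 1; group) hnd hpK hd hd₂ hdo hdo₂ (by
      simp only [ψ₂]
      rw [← hD, ← hD', hψw, hψw]
      exact R7)
  rw [huni, AltOn_univ] at hΨ
  have hA1 : ∀ {s : Set α}, AltOn s ≤ alternatingGroup α := fun {_} _ h => h.1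
  have hX2 : ∀ i, X2 i ∈ alternatingGroup α := by
    rintro (i | i)
    · exact hA1 (hXm i)
    · exact hA1 (conj1 _ (hXm i))
  have hΨY : ∀ g ∈ AltOn M₁, Ψ (Y * g * Y⁻¹) = y * Ψ g * y⁻¹ := fun g hg => by
    rw [hΨ2 _ (conj1 g hg), hΨ1 g hg]
    simp only [ψ₂]; congr 3; group
  have hΨε : Ψ (Y ^ ε) = y ^ ε := by
    rw [← hWy, hΨ.lift_eq _ hX2, hκ]
    congr 2
    funext i
    rcases i with i | i
    · simp only [X2, Sum.elim_inl]; rw [hΨ1 _ (hXm i), hψx]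
    · simp only [X2, Sum.elim_inr]; rw [hΨY _ (hXm i), hΨ1 _ (hXm i), hψx]
  have hΨA : Ψ A = a := by rw [hΨ1 _ hA, hψA]
  have hΨZ : Ψ (c3 (e 0) u v) = z := by
    rw [hΨ1 _ (hXm 0), hψx]; simp [xs]
  refine ⟨A, hA1 hA, KerGen.mono ?_ hR7, hgen2.trans ?_⟩
  · by_cases hY : Y ∈ alternatingGroup α
    · refine kerGen_of_homOn R hRt hΨ (fun i => ?_) (fun i => ?_)
      · fin_cases i; exacts [hA1 hA, hA1 (hXm 0), hY]
      · fin_cases i
        · exact hΨA
        · exact hΨZ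
        · simpa [ε, hY] using hΨε
    · have h2 : Ψ (Y ^ 2) = y ^ 2 := by simpa only [ε, if_neg hY] using hΨε
      have hY2 : Y ^ 2 ∈ alternatingGroup α := by simp [pow_two]
      have hn : ∀ g ∈ alternatingGroup α, Y * g * Y⁻¹ ∈ alternatingGroup α := fun g hg =>
        Normal.conj_mem inferInstance g hg Y
      have h3 : ∀ g ∈ alternatingGroup α, Ψ (Y * g * Y⁻¹) = y * Ψ g * y⁻¹ := by
        intro g hg
        have h1 : HomOn (alternatingGroup α) (fun g => Ψ (Y * g * Y⁻¹)) := by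
          intro g hg k hk
          have : Y * (g * k) * Y⁻¹ = (Y * g * Y⁻¹) * (Y * k * Y⁻¹) := by group
          simp only
          rw [this, hΨ _ (hn g hg) _ (hn k hk)]
        have h2' : HomOn (alternatingGroup α) (fun g => y * Ψ g * y⁻¹) := by
          intro g hg k hk
          simp only
          rw [hΨ _ hg _ hk]; group
        have hg' := hgen2 hg
        rw [FreeGroup.range_lift_eq_closure] at hg'
        refine h1.eq_of_le_closure h2' ?_ ?_ hg'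
        · rintro _ ⟨i, rfl⟩; exact hX2 i
        · rintro _ ⟨i | i, rfl⟩
          · exact hΨY _ (hXm i)
          · simp only [X2, Sum.elim_inr]
            have : Y * (Y * X i * Y⁻¹) * Y⁻¹ = Y ^ 2 * X i * (Y ^ 2)⁻¹ := by rw [pow_two]; group
            rw [this, hΨ.map_conj hY2 (hA1 (hXm i)), h2, hΨY _ (hXm i), pow_two]; group
      obtain ⟨Φ, hΦ, hΦ1, hΦY⟩ := hΨ.extend_odd hY h3 h2
      refine kerGen_of_homOn R hRt hΦ (fun i => mem_top _) (fun i => ?_)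
      fin_cases i
      · exact (hΦ1 _ (hA1 hA)).trans hΨA
      · exact (hΦ1 _ (hA1 (hXm 0))).trans hΨZ
      · exact hΦY
  · rw [FreeGroup.range_lift_eq_closure, closure_le]
    have hA' : A ∈ closure (Set.range ![A, c3 (e 0) u v, Y]) := subset_closure ⟨0, rfl⟩
    have hZ' : c3 (e 0) u v ∈ closure (Set.range ![A, c3 (e 0) u v, Y]) := subset_closure ⟨1, rfl⟩
    have hY' : Y ∈ closure (Set.range ![A, c3 (e 0) u v, Y]) := subset_closure ⟨2, rfl⟩
    have hX' : ∀ i, X i ∈ closure (Set.range ![A, c3 (e 0) u v, Y]) := fun i => by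
      rw [← hxs, xs]
      exact mul_mem (mul_mem (pow_mem hA' _) hZ') (inv_mem (pow_mem hA' _))
    rintro _ ⟨i | i, rfl⟩
    · exact hX' i
    · exact mul_mem (mul_mem hY' (hX' i)) (inv_mem hY')

end Cfsg.Agent.H3
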