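import Cfsg.Agent.H3.PresMain

set_option autoImplicit false

namespace Cfsg.Agent.H3

open Equiv Equiv.Perm Subgroup

variable {α : Type*} [DecidableEq α] [Fintype α]

/-- iterated twisted conjugates -/
def xt {J : Type*} [Group J] (η : ℤ) (t z : J) : ℕ → J
  | 0 => z
  | i + 1 => (t * xt η t z i * t⁻¹) ^ η

theorem map_xt {J J' : Type*} [Group J] [Group J'] (φ : J →* J') (η : ℤ) (t z : J) (i : ℕ) :
    φ (xt η t z i) = xt η (φ t) (φ z) i := by
  induction i with
  | zero => rfl
  | succ i ih => simp [xt, ih]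

theorem finish_kerGen {ι : Type*} (f : ι → Perm α) (R : Finset (FreeGroup ι))
    (hR : ∀ r ∈ R, FreeGroup.lift f r = 1) {Ψ : Perm α → PresentedGroup (R : Set (FreeGroup ι))}
    (hΨ : HomOn (alternatingGroup α) Ψ) (i0 : ι)
    (hf : ∀ i, i ≠ i0 → f i ∈ alternatingGroup α ∧ Ψ (f i) = PresentedGroup.of i)
    (h1 : f i0 ∈ alternatingGroup α → Ψ (f i0) = PresentedGroup.of i0)
    (h2 : f i0 ∉ alternatingGroup α → Ψ (f i0 ^ 2) = PresentedGroup.of i0 ^ 2)
    (h3 : ∀ g ∈ alternatingGroup α,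
      Ψ (f i0 * g * (f i0)⁻¹) = PresentedGroup.of i0 * Ψ g * (PresentedGroup.of i0)⁻¹) :
    KerGen f R.card := by
  by_cases hY : f i0 ∈ alternatingGroup α
  · refine kerGen_of_homOn R hR hΨ (fun i => ?_) (fun i => ?_)
    · by_cases h : i = i0
      · rwa [h]
      · exact (hf i h).1
    · by_cases h : i = i0
      · rw [h]; exact h1 hY
      · exact (hf i h).2
  · obtain ⟨Φ, hΦ, hΦ1, hΦY⟩ := hΨ.extend_odd hY h3 (h2 hY)
    refine kerGen_of_homOn R hR hΦ (fun i => mem_top _) (fun i => ?_)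
    by_cases h : i = i0
    · rw [h]; exact hΦY
    · rw [hΦ1 _ (hf i h).1, (hf i h).2]

theorem pres_small {n : ℕ} [NeZero n] (e : ZMod n → α) (he : Function.Injective e) {u v : α}
    (hu : ∀ i, e i ≠ u) (hv : ∀ i, e i ≠ v) (huv : u ≠ v)
    (hall : Set.range e ∪ {u, v} = Set.univ) (T : Perm α) (η : ℤ) (hη : η = 1 ∨ η = -1)
    (hT : ∀ i, (T * c3 (e i) u v * T⁻¹) ^ η = c3 (e (i + 1)) u v) :
    KerGen ![T, c3 (e 0) u v] (3 + n / 2) ∧
      alternatingGroup α ≤ closure (Set.range ![T, c3 (e 0) u v]) := by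
  classical
  set X : ZMod n → Perm α := fun i => c3 (e i) u v with hX
  have hXm : ∀ i, X i ∈ alternatingGroup α := fun i => sign_c3 (hu i) (hv i)
  have hxt : ∀ i : ℕ, xt η T (c3 (e 0) u v) i = X i := by
    intro i
    induction i with
    | zero => simp [xt, hX]
    | succ i ih => rw [xt, ih, hT, Nat.cast_succ]
  let ε : ℕ := if T ∈ alternatingGroup α then 1 else 2
  have hTε : T ^ ε ∈ alternatingGroup α := by
    by_cases h : T ∈ alternatingGroup α
    · simp [ε, h]
    · simp only [ε, if_neg h]; simp [pow_two]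
  have hword : ∀ g ∈ alternatingGroup α, ∃ w, FreeGroup.lift X w = g := fun g hg =>
    exists_word e huv (by rwa [hall, AltOn_univ])
  obtain ⟨W, hW⟩ := hword _ hTε
  let t0 : FreeGroup (Fin 2) := FreeGroup.of 0
  let z0 : FreeGroup (Fin 2) := FreeGroup.of 1
  let R : Finset (FreeGroup (Fin 2)) := insert (xt η t0 z0 n * z0⁻¹) (insert (z0 ^ 3)
    (insert ((t0 ^ ε)⁻¹ * FreeGroup.lift (fun i : ZMod n => xt η t0 z0 i.val) W)
      ((Finset.Icc 1 (n / 2)).image (fun j => (z0 * xt η t0 z0 j) ^ 2))))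
  have hRc : R.card ≤ 3 + n / 2 := by
    refine (Finset.card_insert_le _ _).trans ?_
    have h1 := Finset.card_image_le (s := Finset.Icc 1 (n / 2)) (f := fun j => (z0 * xt η t0 z0 j) ^ 2)
    have h2 := Finset.card_insert_le ((t0 ^ ε)⁻¹ * FreeGroup.lift (fun i : ZMod n => xt η t0 z0 i.val) W)
      ((Finset.Icc 1 (n / 2)).image (fun j => (z0 * xt η t0 z0 j) ^ 2))
    have h3 := Finset.card_insert_le (z0 ^ 3) (insert ((t0 ^ ε)⁻¹ * FreeGroup.lift (fun i : ZMod n => xt η t0 z0 i.val) W)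
      ((Finset.Icc 1 (n / 2)).image (fun j => (z0 * xt η t0 z0 j) ^ 2)))
    simp only [Nat.card_Icc] at h1
    omega
  have hRt : ∀ w ∈ R, FreeGroup.lift ![T, c3 (e 0) u v] w = 1 := by
    intro w hw
    simp only [R, Finset.mem_insert, Finset.mem_image, Finset.mem_Icc] at hw
    rcases hw with rfl | rfl | rfl | ⟨j, hj, rfl⟩
    · simp [map_xt, t0, z0, hxt, hX]
    · simp [z0, c3_pow_three (hu 0) (hv 0) huv]
    · rw [map_mul, map_lift]
      simp [map_xt, t0, z0, hxt, hW]
    · simp only [map_pow, map_mul, map_xt, t0, z0, FreeGroup.lift_apply_of, Matrix.cons_val_zero,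
        Matrix.cons_val_one, hxt]
      refine c3_mul_c3_sq (hu 0) (hv 0) (hu _) (hv _) huv (he.ne ?_)
      intro h
      have h1 := (ZMod.natCast_eq_zero_iff j n).1 h.symm
      have h2 := Nat.le_of_dvd (by omega) h1
      omega
  let J := PresentedGroup (R : Set (FreeGroup (Fin 2)))
  let t : J := PresentedGroup.of 0
  let z : J := PresentedGroup.of 1
  let π := PresentedGroup.mk (R : Set (FreeGroup (Fin 2)))
  have hπ : ∀ w ∈ R, π w = 1 := fun w hw => PresentedGroup.one_of_mem hw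
  have hπx : ∀ i, π (xt η t0 z0 i) = xt η t z i := fun i => map_xt _ _ _ _ _
  have r1 : xt η t z n = xt η t z 0 := by
    have := hπ (xt η t0 z0 n * z0⁻¹) (by simp [R])
    rwa [map_mul, map_inv, hπx, mul_inv_eq_one] at this
  have r2 : z ^ 3 = 1 := by
    have := hπ (z0 ^ 3) (by simp [R])
    rwa [map_pow] at this
  have r3 : t ^ ε = FreeGroup.lift (fun i : ZMod n => xt η t z i.val) W := by
    have := hπ ((t0 ^ ε)⁻¹ * FreeGroup.lift (fun i : ZMod n => xt η t0 z0 i.val) W) (by simp [R])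
    rw [map_mul, map_inv, map_pow, map_lift, inv_mul_eq_one] at this
    simp only [hπx] at this
    exact this
  have r4 : ∀ j, 1 ≤ j → j ≤ n / 2 → (xt η t z 0 * xt η t z j) ^ 2 = 1 := by
    intro j h1 h2
    have := hπ ((z0 * xt η t0 z0 j) ^ 2) (by
      simp only [R, Finset.mem_insert, Finset.mem_image, Finset.mem_Icc]
      exact Or.inr (Or.inr (Or.inr ⟨j, ⟨h1, h2⟩, rfl⟩)))
    rwa [map_pow, map_mul, hπx] at this
  have per : ∀ i, xt η t z (i + n) = xt η t z i := by
    intro i
    induction i with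
    | zero => rw [zero_add, r1]
    | succ i ih => rw [show i + 1 + n = (i + n) + 1 by ring, xt, xt, ih]
  have cube : ∀ i, xt η t z i ^ 3 = 1 := by
    intro i
    induction i with
    | zero => exact r2
    | succ i ih => rw [xt, ← zpow_natCast, ← zpow_mul, mul_comm η, zpow_mul, zpow_natCast,
        conj_pow, ih]; simp
  have shift : ∀ i j k, (xt η t z i * xt η t z j) ^ 2 = 1 →
      (xt η t z (i + k) * xt η t z (j + k)) ^ 2 = 1 := by
    intro i j k h
    induction k with
    | zero => exact h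
    | succ k ih =>
      rw [← add_assoc, ← add_assoc, xt, xt]
      rcases hη with rfl | rfl
      · have : (t * xt 1 t z (i + k) * t⁻¹) ^ (1 : ℤ) * (t * xt 1 t z (j + k) * t⁻¹) ^ (1 : ℤ) =
            t * (xt 1 t z (i + k) * xt 1 t z (j + k)) * t⁻¹ := by group
        rw [this, conj_pow, ih]; simp
      · have : (t * xt (-1) t z (i + k) * t⁻¹) ^ (-1 : ℤ) *
            (t * xt (-1) t z (j + k) * t⁻¹) ^ (-1 : ℤ) =
            (t * (xt (-1) t z (j + k) * xt (-1) t z (i + k)) * t⁻¹)⁻¹ := by group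
        rw [this, inv_pow, conj_pow, sq_comm ih]; simp
  have sq : ∀ i j, i < j → j < n → (xt η t z i * xt η t z j) ^ 2 = 1 := by
    intro i j hij hj
    by_cases h : j - i ≤ n / 2
    · have := shift 0 (j - i) i (r4 _ (by omega) h)
      rwa [zero_add, Nat.sub_add_cancel hij.le] at this
    · have := shift 0 (n - (j - i)) j (r4 _ (by omega) (by omega))
      rw [zero_add, show n - (j - i) + j = i + n by omega, per] at this
      exact sq_comm this
  have hcarm : Carm (fun i : ZMod n => xt η t z i.val) Set.univ := by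
    refine ⟨fun i _ => cube _, fun i _ j _ hij => ?_⟩
    rcases lt_trichotomy i.val j.val with h | h | h
    · exact sq _ _ h (ZMod.val_lt j)
    · exact absurd (ZMod.val_injective n h) hij
    · exact sq_comm (sq _ _ h (ZMod.val_lt i))
  obtain ⟨Ψ, hΨ, hΨx, hΨw⟩ := carmichael' e he hu hv huv _ hcarm
  rw [hall, AltOn_univ] at hΨ
  have hΨn : ∀ i : ℕ, Ψ (X i) = xt η t z i := by
    intro i
    rw [hX]; simp only; rw [hΨx, ZMod.val_natCast]
    conv_rhs => rw [← Nat.mod_add_div i n]
    generalize i / n = k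
    induction k with
    | zero => simp
    | succ k ih => rw [mul_add, mul_one, ← add_assoc, per, ih]
  have hΨε : Ψ (T ^ ε) = t ^ ε := by rw [← hW, hΨw, r3]
  have hn : ∀ g ∈ alternatingGroup α, T * g * T⁻¹ ∈ alternatingGroup α := fun g hg =>
    Normal.conj_mem inferInstance g hg T
  refine ⟨KerGen.mono (finish_kerGen _ R hRt hΨ 0 (fun i hi => ?_) (fun h => ?_) (fun h => ?_)
    (fun g hg => ?_)) hRc, fun g hg => ?_⟩
  · fin_cases i
    · exact absurd rfl hi
    · exact ⟨hXm 0, by simpa [xt, hX] using hΨn 0⟩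
  · simp only [ε, if_pos (show T ∈ _ from h), pow_one] at hΨε
    exact hΨε
  · simp only [ε, if_neg (show T ∉ _ from h)] at hΨε
    exact hΨε
  · change Ψ (T * g * T⁻¹) = t * Ψ g * t⁻¹
    have h1 : HomOn (alternatingGroup α) (fun g => Ψ (T * g * T⁻¹)) := by
      intro g hg k hk
      have : T * (g * k) * T⁻¹ = (T * g * T⁻¹) * (T * k * T⁻¹) := by group
      simp only
      rw [this, hΨ _ (hn g hg) _ (hn k hk)]
    have h2' : HomOn (alternatingGroup α) (fun g => t * Ψ g * t⁻¹) := by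
      intro g hg k hk
      simp only
      rw [hΨ _ hg _ hk]; group
    have hg' : g ∈ (FreeGroup.lift X).range := hword g hg
    rw [FreeGroup.range_lift_eq_closure] at hg'
    refine h1.eq_of_le_closure h2' ?_ ?_ hg'
    · rintro _ ⟨i, rfl⟩; exact hXm i
    · rintro _ ⟨i, rfl⟩
      have h3 := hΨn (i.val + 1)
      have h4 := hΨn i.val
      rw [ZMod.natCast_zmod_val] at h4
      rw [xt, Nat.cast_succ, ZMod.natCast_zmod_val, ← h4] at h3
      have h5 := hT i
      rcases hη with rfl | rfl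
      · rw [zpow_one] at h3 h5
        rw [← h3]; exact congrArg Ψ h5
      · rw [zpow_neg_one] at h3 h5
        rw [← inv_inj, ← h3, ← hΨ.map_inv (hn _ (hXm i))]; exact congrArg Ψ h5
  · obtain ⟨w, rfl⟩ := hword g hg
    refine lift_mem_of_forall (fun i => ?_) w
    have hT' : T ∈ closure (Set.range ![T, c3 (e 0) u v]) := subset_closure ⟨0, rfl⟩
    have hZ' : c3 (e 0) u v ∈ closure (Set.range ![T, c3 (e 0) u v]) := subset_closure ⟨1, rfl⟩
    rw [← ZMod.natCast_zmod_val i, ← hxt]
    generalize i.val = k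
    induction k with
    | zero => exact hZ'
    | succ k ih => exact zpow_mem (mul_mem (mul_mem hT' ih) (inv_mem hT')) _

end Cfsg.Agent.H3
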