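import Cfsg.Agent.H3.Syl2b

set_option autoImplicit false
set_option linter.unusedSectionVars false

namespace Cfsg.Agent.H3

open Equiv Equiv.Perm Subgroup MulAction

theorem existsUnique_coatom_of {G : Type*} [Group G] {R M0 : Subgroup G} (h0 : R ≤ M0)
    (h1 : M0 ≠ ⊤) (h : ∀ H, R ≤ H → H ≤ M0 ∨ H = ⊤) : ∃! M, IsCoatom M ∧ R ≤ M := by
  refine ⟨M0, ⟨⟨h1, fun H hH => ?_⟩, h0⟩, fun M hM => ?_⟩
  · rcases h H (h0.trans hH.le) with e | e
    · exact absurd e (not_le_of_gt hH)
    · exact e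
  · rcases h M hM.2 with e | e
    · rcases e.eq_or_lt with f | f
      · exact f
      · exact absurd (hM.1.2 _ f) h1
    · exact absurd e hM.1.1

theorem not_existsUnique_coatom_of {G : Type*} [Group G] [Finite G] {R A B : Subgroup G}
    (hA : R ≤ A) (hB : R ≤ B) (hA' : A ≠ ⊤) (hB' : B ≠ ⊤) (h : ∀ H, A ≤ H → B ≤ H → H = ⊤) :
    ¬ ∃! M, IsCoatom M ∧ R ≤ M := by
  rintro ⟨M, hM, hu⟩
  obtain ⟨MA, h1, h2⟩ := (eq_top_or_exists_le_coatom A).resolve_left hA'
  obtain ⟨MB, h3, h4⟩ := (eq_top_or_exists_le_coatom B).resolve_left hB'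
  rw [hu MA ⟨h1, hA.trans h2⟩] at h2
  rw [hu MB ⟨h3, hB.trans h4⟩] at h4
  exact hM.1.1 (h M h2 h4)

theorem isPronormal_of_sylow {G : Type*} [Group G] [Finite G] {p : ℕ} [Fact p.Prime]
    (S : Sylow p G) (H : Subgroup G) (hS : (S : Subgroup G) ≤ H)
    (hN : normalizer ((S : Subgroup G) : Set G) ≤ normalizer (H : Set G)) (g : G) :
    ∃ x ∈ H ⊔ H.map (MulAut.conj g).toMonoidHom,
      H.map (MulAut.conj g).toMonoidHom = H.map (MulAut.conj x).toMonoidHom := by
  obtain ⟨x, hx, e⟩ := sylow_conj_in S (g • S) (H ⊔ H.map (MulAut.conj g).toMonoidHom)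
    (hS.trans le_sup_left) (by
      refine le_trans ?_ le_sup_right
      intro y hy
      rw [mem_sylow_smul] at hy
      exact ⟨_, hS hy, by simp [mul_assoc]⟩)
  refine ⟨x, hx, ?_⟩
  have h1 : x⁻¹ * g ∈ normalizer (H : Set G) := by
    apply hN
    rw [Sylow.coe_coe, ← Sylow.smul_eq_iff_mem_normalizer, mul_smul, ← e, inv_smul_smul]
  ext y
  simp only [mem_map, MulEquiv.coe_toMonoidHom, MulAut.conj_apply]
  constructor
  · rintro ⟨z, hz, rfl⟩
    exact ⟨_, (mem_normalizer_iff.1 h1 z).1 hz, by group⟩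
  · rintro ⟨z, hz, rfl⟩
    exact ⟨_, (mem_normalizer_iff.1 (inv_mem h1) z).1 hz, by group⟩

variable {α : Type*} [DecidableEq α] [Fintype α]

/-- the stabiliser of the partition `{X, Xᶜ}` -/
def Part (X : Set α) : Subgroup (Perm α) where
  carrier := {g | (∀ x, g x ∈ X ↔ x ∈ X) ∨ (∀ x, g x ∈ X ↔ x ∉ X)}
  one_mem' := Or.inl fun _ => Iff.rfl
  mul_mem' := fun {g h} hg hh => by
    rcases hg with hg | hg <;> rcases hh with hh | hh
    · left; intro x; rw [Perm.mul_apply, hg, hh]
    · right; intro x; rw [Perm.mul_apply, hg, hh]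
    · right; intro x; rw [Perm.mul_apply, hg, hh]
    · left; intro x; rw [Perm.mul_apply, hg, hh, not_not]
  inv_mem' := fun {g} hg => by
    rcases hg with hg | hg
    · left; intro x; rw [← hg]; simp
    · right; intro x
      have := hg (g⁻¹ x)
      simp only [Perm.coe_inv, apply_symm_apply] at this ⊢
      tauto

theorem mem_Part {X : Set α} {g : Perm α} :
    g ∈ Part X ↔ (∀ x, g x ∈ X ↔ x ∈ X) ∨ (∀ x, g x ∈ X ↔ x ∉ X) := Iff.rfl

theorem Part_compl (X : Set α) : Part Xᶜ = Part X := by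
  ext g
  simp only [mem_Part, Set.mem_compl_iff, not_iff_not]

theorem AltOn_le_Part (X : Set α) : AltOn X ≤ Part X := by
  intro g hg
  left; intro x
  by_cases hx : x ∈ X
  · simp [hx, AltOn_apply_mem hg hx]
  · rw [hg.2 x hx]

theorem not_alt_le_Part {X : Set α} {x z y : α} (hx : x ∈ X) (hz : z ∈ X) (hxz : x ≠ z)
    (hy : y ∉ X) : ¬ alternatingGroup α ≤ Part X := by
  intro h
  have hxy : x ≠ y := fun e => hy (e ▸ hx)
  have hyz : y ≠ z := fun e => hy (e ▸ hz)
  rcases h (mem_alternatingGroup.2 (sign_c3 hxy hxz)) with e | e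
  · have := e x
    rw [c3_apply_left hxy hyz] at this
    exact hy (this.2 hx)
  · have := e z
    rw [c3_apply_right hxz hyz] at this
    exact this.1 hx hz

theorem exists_Part {P : Subgroup (Perm α)} (hP : IsPGroup 2 P) {x y : α} (hxy : x ≠ y) :
    ∃ X : Set α, X.Nonempty ∧ Xᶜ.Nonempty ∧ P ≤ Part X := by
  by_cases htr : ∀ z, z ∈ orbFin P x
  · obtain ⟨N, hN⟩ := IsPGroup.iff_card.1 hP
    obtain ⟨a, ha⟩ := IsPGroup.iff_card.1 (hP.to_subgroup (stabilizer P x))
    have hlt : a < N := by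
      obtain ⟨g, hg, e⟩ := mem_orbFin.1 (htr y)
      have h1 : stabilizer P x ≠ ⊤ := by
        intro h
        have : (⟨g, hg⟩ : P) ∈ stabilizer P x := h ▸ mem_top _
        exact hxy (this.symm.trans e)
      have h2 := (stabilizer P x).card_le_card_group
      have h3 : Nat.card (stabilizer P x) ≠ Nat.card P := fun e => h1 (eq_top_of_card_eq _ e)
      rw [ha, hN] at h2 h3
      exact (Nat.pow_lt_pow_iff_right (by norm_num)).1 (lt_of_le_of_ne h2 h3)
    obtain ⟨Q, hQ, hle⟩ := Sylow.exists_subgroup_card_pow_prime_le 2 (G := P) (m := N - 1)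
      (by rw [hN]; exact pow_dvd_pow _ (by omega)) _ ha (by omega)
    have hidx : Q.index = 2 := by
      have := Q.card_mul_index
      rw [hQ, hN, show N = N - 1 + 1 by omega, pow_succ] at this
      exact Nat.eq_of_mul_eq_mul_left (by positivity) this
    have key : ∀ p : P, (∃ q ∈ Q, (q : Perm α) x = (p : Perm α) x) ↔ p ∈ Q := by
      intro p
      refine ⟨fun ⟨q, hq, e⟩ => ?_, fun hp => ⟨p, hp, rfl⟩⟩
      have : q⁻¹ * p ∈ Q := hle (by
        change ((q : Perm α)⁻¹ * p) x = x
        rw [Perm.mul_apply, ← e]; simp)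
      simpa using mul_mem hq this
    refine ⟨{z | ∃ q ∈ Q, (q : Perm α) x = z}, ⟨x, 1, one_mem _, rfl⟩, ?_, fun g hg => ?_⟩
    · have : Q ≠ ⊤ := by
        intro h; rw [h, index_top] at hidx; exact absurd hidx (by norm_num)
      obtain ⟨p, hp⟩ : ∃ p, p ∉ Q := by
        by_contra h; push Not at h; exact this (eq_top_iff.2 fun p _ => h p)
      exact ⟨(p : Perm α) x, fun h => hp ((key p).1 h)⟩
    · have h1 : ∀ z, (∃ q ∈ Q, (q : Perm α) x = g z) ↔
          ((⟨g, hg⟩ : P) ∈ Q ↔ ∃ q ∈ Q, (q : Perm α) x = z) := by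
        intro z
        obtain ⟨p, hp, rfl⟩ := mem_orbFin.1 (htr z)
        have k1 := key (⟨g, hg⟩ * ⟨p, hp⟩)
        have k2 := key ⟨p, hp⟩
        rw [mul_mem_iff_of_index_two hidx, ← k2] at k1
        exact k1
      by_cases hgQ : (⟨g, hg⟩ : P) ∈ Q
      · left; intro z
        simpa [hgQ] using h1 z
      · right; intro z
        simpa [hgQ] using h1 z
  · push Not at htr
    obtain ⟨z, hz⟩ := htr
    exact ⟨orbFin P x, ⟨x, self_mem_orbFin P x⟩, ⟨z, hz⟩,
      fun g hg => Or.inl fun w => apply_mem_orbFin_iff hg⟩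

theorem Match.t_mem_iff {P : Subgroup (Perm α)} {t : Perm α} (h : Match P t)
    (hn : 3 ≤ Fintype.card α) {X : Set α} (hX : P ≤ Part X) (y : α) : t y ∈ X ↔ y ∈ X := by
  rcases hX (h.swap_mem y) with e | e
  · simpa using e y
  · obtain ⟨w, hw⟩ := exists_not_mem_of_card_lt ({y, t y} : Finset α) (by
      have := Finset.card_le_two (a := y) (b := t y); omega)
    simp only [Finset.mem_insert, Finset.mem_singleton, not_or] at hw
    have := e w
    rw [swap_apply_of_ne_of_ne hw.1 hw.2] at this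
    tauto

theorem two_overgroups (P : Sylow 2 (Perm α)) (h5 : 5 ≤ Fintype.card α)
    (h6 : Fintype.card α ≠ 6) (hk : ¬ ∃ k : ℕ, 2 ≤ k ∧ Fintype.card α = 2 ^ k + 1) :
    ∃ A B : Subgroup (Perm α), (P : Subgroup (Perm α)) ≤ A ∧ (P : Subgroup (Perm α)) ≤ B ∧
      ¬ alternatingGroup α ≤ A ∧ ¬ alternatingGroup α ≤ B ∧
      ∀ H : Subgroup (Perm α), (∀ g ∈ A, sign g = 1 → g ∈ H) → (∀ g ∈ B, sign g = 1 → g ∈ H) →
        alternatingGroup α ≤ H := by
  obtain ⟨t, ht⟩ := exists_match P
  rcases Nat.even_or_odd (Fintype.card α) with hn | hn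
  · have h8 : 8 ≤ Fintype.card α := by obtain ⟨m, hm⟩ := hn; omega
    have mv := ht.ne_of_even hn
    obtain ⟨x⟩ : Nonempty α := Fintype.card_pos_iff.1 (by omega)
    obtain ⟨X, hX1, hX2, hX3, hX4⟩ : ∃ X : Set α, X.Nonempty ∧ Xᶜ.Nonempty ∧
        (P : Subgroup (Perm α)) ≤ Part X ∧ 3 ≤ X.ncard := by
      obtain ⟨X, h1, h2, h3⟩ := exists_Part P.isPGroup' (mv x).symm
      by_cases h4 : 3 ≤ X.ncard
      · exact ⟨X, h1, h2, h3, h4⟩
      · refine ⟨Xᶜ, h2, by rwa [compl_compl], by rwa [Part_compl], ?_⟩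
        have := Set.ncard_add_ncard_compl X
        rw [Nat.card_eq_fintype_card] at this
        omega
    have hinv := ht.t_mem_iff (by omega) hX3
    obtain ⟨a, ha⟩ := hX1
    obtain ⟨y0, hy0⟩ := hX2
    obtain ⟨z, hz, hz'⟩ : ∃ z ∈ X, z ∉ ({a, t a} : Set α) := by
      refine Set.exists_mem_notMem_of_ncard_lt_ncard ?_ (Set.toFinite _)
      rw [Set.ncard_pair (mv a).symm]; omega
    simp only [Set.mem_insert_iff, Set.mem_singleton_iff, not_or] at hz'
    have hz3 : t z ≠ a := fun e => hz'.2 (by rw [← e, ht.sq])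
    have hz4 : t z ≠ t a := fun e => hz'.1 (t.injective e)
    refine ⟨centralizer {t}, Part X, fun g hg => ?_, hX3, fun hle => ?_,
      not_alt_le_Part ha hz (Ne.symm hz'.1) hy0, fun H hA hB => ?_⟩
    · rw [mem_centralizer_singleton_iff]; ext w; simp [ht.comm g hg]
    · have := mem_centralizer_singleton_iff.1
        (hle (mem_alternatingGroup.2 (sign_c3 (mv a).symm (Ne.symm hz'.1))))
      have := congrArg (fun u : Perm α => u a) this
      simp only [Perm.mul_apply, c3_apply_mid, c3_apply_left (mv a).symm (Ne.symm hz'.2),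
        ht.sq] at this
      exact hz'.1 this
    · have hF : Full H X := (full_AltOn X).mono_left fun g hg => hB g (AltOn_le_Part X hg) hg.1
      apply Full.alternatingGroup_le
      refine full_of_star (mv z).symm fun i _ h1 h2 => ?_
      by_cases hi : i ∈ X
      · exact hF i hi z hz (t z) ((hinv z).2 hz) h1 h2 (mv z).symm
      · have hti : t i ∉ X := fun e => hi ((hinv i).1 e)
        have n1 : a ≠ i := fun e => hi (e ▸ ha)
        have n2 : t a ≠ t i := fun e => n1 (t.injective e)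
        have n3 : a ≠ t i := fun e => hti (e ▸ ha)
        have n4 : t a ≠ i := fun e => hi (e ▸ (hinv a).2 ha)
        have n5 : z ≠ t i := fun e => hti (e ▸ hz)
        have n6 : t z ≠ t i := fun e => hti (e ▸ (hinv z).2 hz)
        have hs : swap a i * swap (t a) (t i) ∈ H := by
          apply hA
          · rw [mem_centralizer_singleton_iff]
            have e1 : t * (swap a i * swap (t a) (t i)) * t⁻¹ = swap a i * swap (t a) (t i) := by
              have : t * (swap a i * swap (t a) (t i)) * t⁻¹ =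
                  (t * swap a i * t⁻¹) * (t * swap (t a) (t i) * t⁻¹) := by group
              rw [this, ← swap_apply_apply, ← swap_apply_apply, ht.sq, ht.sq]
              have b1 := mv a
              have b2 := mv i
              ext w
              simp only [Perm.mul_apply, swap_apply_def]
              grind
            rw [← e1]; simp [mul_assoc, e1]
            exact (mul_inv_eq_iff_eq_mul.1 e1).symm
          · rw [Perm.sign_mul, sign_swap n1, sign_swap n2]; simp
        have := c3_mem_conj hs (hF a ha z hz (t z) ((hinv z).2 hz) (Ne.symm hz'.1) hz3.symm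
          (mv z).symm)
        rwa [Perm.mul_apply, Perm.mul_apply, Perm.mul_apply,
          swap_apply_of_ne_of_ne (mv a).symm n3, swap_apply_left,
          swap_apply_of_ne_of_ne hz'.2 n5, swap_apply_of_ne_of_ne hz'.1 h1.symm,
          swap_apply_of_ne_of_ne hz4 n6, swap_apply_of_ne_of_ne hz3 h2.symm] at this
  · obtain ⟨x0, h0⟩ := ht.exists_fixed hn
    have mv : ∀ x, x ≠ x0 → t x ≠ x := fun x hx e => hx (ht.fix _ _ e h0)
    have mv0 : ∀ x, x ≠ x0 → t x ≠ x0 := fun x hx e => hx (t.injective (e.trans h0.symm))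
    obtain ⟨x, -, hx⟩ := ht.exists_moved ∅ (by simp; omega)
    have hx0 : x ≠ x0 := fun e => hx (by rw [e, h0])
    set O := orbFin (P : Subgroup (Perm α)) x with hO
    have h0O : x0 ∉ O := by
      intro h
      obtain ⟨g, hg, e⟩ := mem_orbFin.1 h
      exact hx0 (g.injective (e.trans (ht.apply_fixed h0 hg).symm))
    obtain ⟨y, hy⟩ := exists_not_mem_of_card_lt (insert x0 O) (by
      obtain ⟨k, hk'⟩ := card_orbFin_pow P.isPGroup' x
      rw [Finset.card_insert_of_notMem h0O]
      refine lt_of_le_of_ne (by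
        rw [← Finset.card_insert_of_notMem h0O]; exact Finset.card_le_univ _) fun e => hk ?_
      rw [hk'] at e
      refine ⟨k, ?_, e.symm⟩
      by_contra h2
      have : 2 ^ k ≤ 2 ^ 1 := Nat.pow_le_pow_right (by norm_num) (by omega)
      omega)
    rw [Finset.mem_insert, not_or] at hy
    have hty : t y ∉ O := fun e => hy.2 (by
      have := apply_mem_orbFin (ht.swap_mem y) e
      rwa [swap_apply_right] at this)
    refine ⟨Part {x0}ᶜ, Part O, fun g hg => Or.inl fun w => ?_,
      fun g hg => Or.inl fun w => apply_mem_orbFin_iff hg,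
      not_alt_le_Part (x := x) (z := t x) (y := x0) hx0 (mv0 x hx0) hx.symm (by simp),
      not_alt_le_Part (x := x) (z := t x) (y := x0) (self_mem_orbFin _ _) (ht.t_mem_orbFin x)
        hx.symm h0O, fun H hA hB => ?_⟩
    · simp only [Set.mem_compl_iff, Set.mem_singleton_iff, not_iff_not]
      conv_lhs => rw [← ht.apply_fixed h0 hg]
      exact g.injective.eq_iff
    · have hF : Full H {x0}ᶜ :=
        (full_AltOn _).mono_left fun g hg => hA g (AltOn_le_Part _ hg) hg.1
      have hF2 : Full H (O : Set α)ᶜ := (full_AltOn _).mono_left fun g hg =>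
        hB g (Part_compl (O : Set α) ▸ AltOn_le_Part _ hg) hg.1
      apply Full.alternatingGroup_le
      have := hF.insert (a := y) (b := t y) (d := x0) hy.1 (mv0 y hy.1) (mv y hy.1).symm
        (hF2 y hy.2 (t y) hty x0 h0O (mv y hy.1).symm hy.1 (mv0 y hy.1))
      refine this.mono fun w _ => ?_
      by_cases hw : w = x0 <;> simp [hw]

theorem eq_top_of_alt_le_of_sylow (P : Sylow 2 (Perm α)) (hn : 2 ≤ Fintype.card α)
    {H : Subgroup (Perm α)} (hP : (P : Subgroup (Perm α)) ≤ H) (hA : alternatingGroup α ≤ H) :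
    H = ⊤ := by
  obtain ⟨t, ht⟩ := exists_match P
  obtain ⟨x, -, hx⟩ := ht.exists_moved ∅ (by simp; omega)
  rw [eq_top_iff]
  intro g _
  rcases Int.units_eq_one_or (sign g) with e | e
  · exact hA (mem_alternatingGroup.2 e)
  · have h1 : g * swap x (t x) ∈ H := hA (mem_alternatingGroup.2 (by
      rw [Perm.sign_mul, e, sign_swap hx.symm]; simp))
    simpa using mul_mem h1 (hP (ht.swap_mem x))

/-- overgroups of a Sylow `2`-subgroup of the alternating group of degree `2 ^ k + 1` -/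
theorem alt_overgroup (R : Sylow 2 (alternatingGroup α)) {k : ℕ} (hk : 2 ≤ k)
    (hn : Fintype.card α = 2 ^ k + 1) : ∃ x0 : α,
    (R : Subgroup (alternatingGroup α)) ≤ stabilizer (alternatingGroup α) x0 ∧
    stabilizer (alternatingGroup α) x0 ≠ ⊤ ∧
    ∀ H, (R : Subgroup (alternatingGroup α)) ≤ H → H ≤ stabilizer (alternatingGroup α) x0 ∨ H = ⊤ := by
  have h5 : 5 ≤ Fintype.card α := by
    have := Nat.pow_le_pow_right (n := 2) (by norm_num) hk
    omega
  obtain ⟨P, hP⟩ := R.exists_comap_subtype_eq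
  obtain ⟨t, ht⟩ := exists_match P
  obtain ⟨x0, h0⟩ := ht.exists_fixed (by
    rw [hn]; exact (Nat.even_pow.2 ⟨even_two, by omega⟩).add_one)
  refine ⟨x0, fun g hg => ?_, fun h => ?_, fun H hH => ?_⟩
  · rw [← hP] at hg
    exact ht.apply_fixed h0 hg
  · obtain ⟨x, -, hx⟩ := ht.exists_moved ∅ (by simp; omega)
    have hx0 : x0 ≠ x := fun e => hx (by rw [← e, h0])
    have hx1 : x0 ≠ t x := fun e => hx0 (t.injective (by rw [h0, e]))
    have : (⟨c3 x0 x (t x), mem_alternatingGroup.2 (sign_c3 hx0 hx1)⟩ : alternatingGroup α) ∈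
        stabilizer (alternatingGroup α) x0 := h ▸ mem_top _
    have e : c3 x0 x (t x) x0 = x0 := this
    rw [c3_apply_left hx0 hx.symm] at e
    exact hx0 e.symm
  · by_cases h1 : H ≤ stabilizer (alternatingGroup α) x0
    · exact Or.inl h1
    · right
      obtain ⟨g, hg, hg'⟩ := SetLike.not_le_iff_exists.1 h1
      have := ht.alt_le hk hn h0 (H := H.map (alternatingGroup α).subtype)
        (fun u hu hs => ⟨⟨u, mem_alternatingGroup.2 hs⟩, hH (by rw [← hP]; exact hu), rfl⟩)
        (g0 := g) ⟨g, hg, rfl⟩ hg'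
      rw [eq_top_iff]
      intro u _
      obtain ⟨v, hv, e⟩ := this u.2
      rwa [← Subtype.ext e]

theorem alt_unique_iff (R : Sylow 2 (alternatingGroup α)) (h5 : 5 ≤ Fintype.card α)
    (h6 : Fintype.card α ≠ 6) :
    (∃! M : Subgroup (alternatingGroup α), IsCoatom M ∧ (R : Subgroup (alternatingGroup α)) ≤ M) ↔
      ∃ k : ℕ, 2 ≤ k ∧ Fintype.card α = 2 ^ k + 1 := by
  constructor
  · intro h
    by_contra hk
    obtain ⟨P, hP⟩ := R.exists_comap_subtype_eq
    obtain ⟨A, B, h1, h2, h3, h4, h7⟩ := two_overgroups P h5 h6 hk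
    refine not_existsUnique_coatom_of (A := A.comap (alternatingGroup α).subtype)
      (B := B.comap (alternatingGroup α).subtype) (hP ▸ comap_mono h1) (hP ▸ comap_mono h2)
      (fun e => h3 fun g hg => ?_) (fun e => h4 fun g hg => ?_) (fun H hA hB => ?_) h
    · have : (⟨g, hg⟩ : alternatingGroup α) ∈ A.comap (alternatingGroup α).subtype :=
        e ▸ mem_top _
      exact this
    · have : (⟨g, hg⟩ : alternatingGroup α) ∈ B.comap (alternatingGroup α).subtype :=
        e ▸ mem_top _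
      exact this
    · have := h7 (H.map (alternatingGroup α).subtype)
        (fun u hu hs => ⟨⟨u, mem_alternatingGroup.2 hs⟩, hA hu, rfl⟩)
        (fun u hu hs => ⟨⟨u, mem_alternatingGroup.2 hs⟩, hB hu, rfl⟩)
      rw [eq_top_iff]
      intro u _
      obtain ⟨v, hv, e⟩ := this u.2
      rwa [← Subtype.ext e]
  · rintro ⟨k, hk, hn⟩
    obtain ⟨x0, h1, h2, h3⟩ := alt_overgroup R hk hn
    exact existsUnique_coatom_of h1 h2 h3

theorem perm_unique_iff (P : Sylow 2 (Perm α)) (h5 : 5 ≤ Fintype.card α)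
    (h6 : Fintype.card α ≠ 6) :
    (∃! M : Subgroup (Perm α), IsCoatom M ∧ (P : Subgroup (Perm α)) ≤ M) ↔
      ∃ k : ℕ, 2 ≤ k ∧ Fintype.card α = 2 ^ k + 1 := by
  constructor
  · intro h
    by_contra hk
    obtain ⟨A, B, h1, h2, h3, h4, h7⟩ := two_overgroups P h5 h6 hk
    refine not_existsUnique_coatom_of h1 h2 (fun e => h3 (e ▸ le_top)) (fun e => h4 (e ▸ le_top))
      (fun H hA hB => ?_) h
    exact eq_top_of_alt_le_of_sylow P (by omega) (h1.trans hA)
      (h7 H (fun u hu _ => hA hu) (fun u hu _ => hB hu))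
  · rintro ⟨k, hk, hn⟩
    obtain ⟨t, ht⟩ := exists_match P
    obtain ⟨x0, h0⟩ := ht.exists_fixed (by
      rw [hn]; exact (Nat.even_pow.2 ⟨even_two, by omega⟩).add_one)
    refine existsUnique_coatom_of (M0 := stabilizer (Perm α) x0)
      (fun g hg => ht.apply_fixed h0 hg) (fun h => ?_) (fun H hH => ?_)
    · obtain ⟨x, -, hx⟩ := ht.exists_moved ∅ (by simp; omega)
      have hx0 : x0 ≠ x := fun e => hx (by rw [← e, h0])
      have : swap x0 x ∈ stabilizer (Perm α) x0 := h ▸ mem_top _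
      have e : swap x0 x x0 = x0 := this
      rw [swap_apply_left] at e
      exact hx0 e.symm
    · by_cases h1 : H ≤ stabilizer (Perm α) x0
      · exact Or.inl h1
      · right
        obtain ⟨g, hg, hg'⟩ := SetLike.not_le_iff_exists.1 h1
        exact eq_top_of_alt_le_of_sylow P (by omega) hH
          (ht.alt_le hk hn h0 (fun u hu _ => hH hu) hg hg')

end Cfsg.Agent.H3
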