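import Cfsg.Agent.H3.TF1
import Cfsg.Agent.H8.TwPF4
import Cfsg.Agent.H8.TwInv

/-! The large Ree groups: layers of the unipotent subgroup and the index of the Borel subgroup. -/

set_option autoImplicit false
set_option linter.unusedSectionVars false

namespace Cfsg.Agent.H3.TF

open Cfsg.Lie Cfsg.Agent.H7 Cfsg.Agent.H8
open scoped commutatorElement

variable {K : Type*} [Field K] [CharP K 2] {G : Type*} [Group G] {x : ℕ → K → G} {e : ℕ} {φ : K →+* K} {σ : G →* G}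

/-- Layers. -/
def ly (r : ℕ) : ℕ := [2, 0, 3, 0, 1, 6, 1, 4, 5, 2, 3, 4, 7, 5, 8, 9, 10, 6, 7, 8, 11, 9, 10, 11].getD (r - 24) 0

/-- Long roots of the layers. -/
def lg (k : ℕ) : ℕ := [25, 30, 24, 26, 31, 32, 41, 42, 43, 45, 46, 47].getD k 0

/-- Short roots of the layers. -/
def sh (k : ℕ) : ℕ := [27, 28, 33, 34, 35, 37, 29, 36, 38, 39, 40, 44].getD k 0

set_option synthInstance.maxSize 4000 in
theorem layOK : LayOK chevF4 K rhoF4 ly lg 12 :=
  layOK_of agrF4 (p := 2) (by exact_mod_cast CharP.cast_eq_zero K 2) (by decide +kernel)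

/-- Words for the relative Weyl group. -/
def wd (i : Fin 16) : List ℕ :=
  ([[], [0], [1], [0, 1], [1, 0], [0, 1, 0], [1, 0, 1], [0, 1, 0, 1], [1, 0, 1, 0], [0, 1, 0, 1, 0], [1, 0, 1, 0, 1],
    [0, 1, 0, 1, 0, 1], [1, 0, 1, 0, 1, 0], [0, 1, 0, 1, 0, 1, 0], [1, 0, 1, 0, 1, 0, 1], [0, 1, 0, 1, 0, 1, 0, 1]].getD
      i []).flatMap fun j : ℕ => if j = 0 then [0, 3] else [1, 2, 1, 2]

/-- Half the lengths. -/
def hl (i : Fin 16) : ℕ := [0, 1, 2, 3, 3, 4, 5, 6, 6, 7, 8, 9, 9, 10, 11, 12].getD i 0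

theorem word_ext {l l' : List ℕ} (h : ∀ r < 48, wdL fastF4 l r = wdL fastF4 l' r) :
    wordW chevF4 (fl chevF4 l) = wordW chevF4 (fl chevF4 l') :=
  W_ext (wordW_mem _) (wordW_mem _) fun r hr => by rw [← wdL_eq agrF4, ← wdL_eq agrF4, h r hr]

theorem len_wd (i : Fin 16) : len chevF4 (wordW chevF4 (fl chevF4 (wd i))) = 2 * hl i := by
  simp only [len, invSet, ← wdL_eq agrF4]
  revert i; decide +kernel

variable [Fintype K] (hφ : ∀ t, φ t = t ^ e) (h2 : ∀ t, φ (φ t) ^ 2 = t)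
  (h : TwD chevF4 x σ rhoF4 pfF4 (twF H7.twF4 φ) (twS x (f4Words K e)) (fun i => {j | j ∈ oLF4 i}) (eF4 e) (zF4 x hφ))

local notation "𝐒" => twS x (f4Words K e)
local notation "𝐪" => Fintype.card K

variable (x e) in
/-- The filtration of the unipotent subgroup. -/
def PP (k : ℕ) : Subgroup (twS x (f4Words K e)) := (XS x (FL chevF4 ly k)).comap (twS x (f4Words K e)).subtype

include h

theorem exists_co : ∃ co χ : ℕ → 𝐒 → K, PP x e 12 = ⊥ ∧
    (∀ k < 12, Crd (PP x e k) (PP x e (k + 1)) ((HH chevF4 x).comap (𝐒).subtype) (co k) (χ k)) ∧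
    (∀ k, ∀ a ∈ PP x e 0, ∀ b ∈ PP x e k, ⁅a, b⁆ ∈ PP x e (k + 1)) ∧
    ∀ k < 12, ∀ (g : 𝐒) t, CoL chevF4 x ly (lg k) g t → co k g = t := by
  obtain ⟨co, χ, F, h1, -⟩ := layOK.exists_filt h.chev h.tw (θ := (𝐒).subtype) (by simp) fun g => h.sub.fix _ g.2
  exact ⟨co, χ, eq_bot_iff.2 ((𝐒).ker_subtype ▸ F.last), F.crd, F.comm, h1⟩

theorem base_card (i : Fin chevF4.rank) : 𝐪 ^ len chevF4 (wJ chevF4 {j | j ∈ oLF4 i}) ≤
    Nat.card ↥(𝐒 ⊓ Um chevF4 x (wJ chevF4 {j | j ∈ oLF4 i})) ^ 2 := by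
  have := h.chev.finite_G h.top
  rcases (by decide +kernel : ∀ i : Fin chevF4.rank, oLF4 i = [0, 3] ∨ oLF4 i = [1, 2]) i with h1 | h1 <;> rw [h1]
  · have := base_le h.faith (S := 𝐒) (J := [0, 3]) [0, 3] (R := [33, 24]) (fun (a : K) k => if k = 24 then a else a ^ e)
      (fun a => by simpa using mem_f4a (r := 33) (s := 24) (by simp) a) (fun a b h => by simpa using h 24 (by simp))
      (by decide +kernel)
    exact (Nat.pow_le_pow_right Fintype.card_pos this.1).trans (Nat.pow_le_pow_left (by simpa using this.2) 2)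
  · have := base_le h.faith (S := 𝐒) (J := [1, 2]) [1, 2, 1, 2] (R := [27, 25, 28, 30]) (fun (a : K × K) k =>
        if k = 27 then a.1 ^ e else if k = 25 then a.1 else if k = 28 then a.1 ^ e * a.1 + a.2 else (a.2 ^ e) ^ 2)
      (fun a => by simpa using mem_f4b (a := 27) (b := 25) (c := 28) (d := 30) (by simp) a.1 a.2) (fun a b h => by
        have h1 : a.1 = b.1 := by simpa using h 25 (by simp)
        exact Prod.ext h1 (by simpa [h1] using h 28 (by simp))) (by decide +kernel)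
    exact (Nat.pow_le_pow_right Fintype.card_pos this.1).trans ((by simp; ring : _ = Nat.card (K × K) ^ 2).trans_le
      (Nat.pow_le_pow_left this.2 2))

theorem card_step {k : ℕ} (hk : k < 12) (D : Subgroup 𝐒) :
    Nat.card ↥(PP x e k ⊓ D) ≤ 𝐪 * Nat.card ↥(PP x e (k + 1) ⊓ D) := by
  have := h.chev.finite_G h.top
  obtain ⟨co, χ, -, h1, -⟩ := exists_co hφ h
  simpa using crd_card (h1 k hk) D

theorem card_PP_le {i k : ℕ} (hk : k + i = 12) : Nat.card (PP x e k) ≤ 𝐪 ^ i := by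
  induction i generalizing k with
  | zero => obtain ⟨co, χ, h1, -⟩ := exists_co hφ h; rw [show k = 12 from hk, h1]; simp
  | succ i ih =>
    have := card_step hφ h (k := k) (by omega) ⊤
    rw [inf_top_eq, inf_top_eq] at this
    exact this.trans (by rw [pow_succ']; exact Nat.mul_le_mul_left _ (ih (by omega)))

theorem card_PP0 : Nat.card (PP x e 0) = Nat.card ↥(𝐒 ⊓ UU chevF4 x) := by
  rw [← Nat.card_congr (Subgroup.subgroupOfEquivOfLe (inf_le_left : 𝐒 ⊓ UU chevF4 x ≤ 𝐒)).toEquiv,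
    Subgroup.inf_subgroupOf_left, PP, XS_FL_zero]; rfl

theorem card_PP2 : 𝐪 ^ 10 ≤ Nat.card (PP x e 2) := by
  have := h.chev.finite_G h.top
  have h1 := h.sub.pow_le_card_UU h.tw h.faith (base_card hφ h)
  rw [← card_PP0 hφ h, show chevF4.nroots / 2 = 12 * 2 from rfl, pow_mul, Nat.pow_le_pow_iff_left two_ne_zero] at h1
  have h3 := card_step hφ h (k := 0) (by omega) ⊤
  have h4 := card_step hφ h (k := 1) (by omega) ⊤
  simp only [inf_top_eq] at h3 h4
  refine Nat.le_of_mul_le_mul_left ?_ (Nat.pow_pos (n := 2) (Fintype.card_pos (α := K)))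
  calc _ = 𝐪 ^ 12 := by ring
    _ ≤ 𝐪 * (𝐪 * Nat.card (PP x e 2)) := h1.trans (h3.trans (Nat.mul_le_mul_left _ h4))
    _ = _ := by ring

theorem index_BF : ((BB chevF4 x).subgroupOf 𝐒).index = (𝐪 + 1) * (𝐪 ^ 2 + 1) * (𝐪 ^ 3 + 1) * (𝐪 ^ 6 + 1) := by
  have := h.chev.finite_G h.top
  have hw : ∀ i, wordW chevF4 (fl chevF4 (wd i)) ∈ W chevF4 ∧ Commute rhoF4 (wordW chevF4 (fl chevF4 (wd i))) :=
    fun i => ⟨wordW_mem _, Equiv.ext fun r => by
      by_cases hr : r < chevF4.nroots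
      · simp only [Equiv.Perm.mul_apply, ← wdL_eq agrF4]
        revert i r; decide +kernel
      · rw [Equiv.Perm.mul_apply, Equiv.Perm.mul_apply, W_apply_ge (wordW_mem _) (not_lt.1 hr),
          W_apply_ge (wordW_mem _) (not_lt.1 (mt (h.tw.lt r).1 hr))]⟩
  rw [index_B h.sub h.tw h.faith _ hw (fun i j e => ?_) fun v hv hc => ?_,
    Finset.sum_congr rfl fun i _ => show _ = 𝐪 ^ hl i from ?_]
  · simp [Fin.sum_univ_succ, hl]; ring
  · refine Nat.pow_left_injective two_ne_zero ?_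
    simp only
    rw [card_Um_pow h.sub h.tw h.faith Fintype.card_pos (base_card hφ h) ?_ (hw i).1 (hw i).2, len_wd, ← pow_mul, mul_comm]
    rw [← card_PP0 hφ h, show chevF4.nroots / 2 = 12 * 2 from rfl, pow_mul]
    exact Nat.pow_le_pow_left (card_PP_le hφ h rfl) 2
  · refine (by decide +kernel : ∀ i j : Fin 16, (∀ r < 48, wdL fastF4 (wd i) r = wdL fastF4 (wd j) r) → i = j) i j
      fun r _ => ?_
    rw [wdL_eq agrF4, wdL_eq agrF4, show wordW chevF4 (fl chevF4 (wd i)) = _ from e]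
  · refine h.sub.induction h.tw h.faith (P := fun v => ∃ i, v = wordW chevF4 (fl chevF4 (wd i))) ⟨0, rfl⟩ ?_ hv hc
    rintro _ - - j - ⟨i, rfl⟩
    obtain ⟨l, -, ⟨h1, h3⟩, k, h4⟩ := (by decide +kernel : ∀ i : Fin 16, ∀ j : Fin chevF4.rank,
      ∃ l ∈ [[0, 3], [1, 2, 1, 2]], ((∀ i ∈ fl chevF4 l, i.1 ∈ oLF4 j) ∧ ∀ i : Fin chevF4.rank, i.1 ∈ oLF4 j →
        chevF4.IsNegRoot (wdL fastF4 l (chevF4.simple i))) ∧
        ∃ k, ∀ r < 48, wdL fastF4 (wd i ++ l) r = wdL fastF4 (wd k) r) i j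
    refine ⟨k, ?_⟩
    rw [← wordW_eq_wJ (J := {k | k ∈ oLF4 j}) h1 fun i hi => wdL_eq agrF4 l _ ▸ h3 i hi, ← wordW_append, ← fl_append,
      word_ext h4]

end Cfsg.Agent.H3.TF
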