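import Cfsg.Agent.H3.TG7
import Cfsg.Agent.H8.InvE7
import Cfsg.Agent.H8.LiftTabE7

/-! The groups of type `E7` have no 2-transitive action with transitive Borel subgroup. -/

set_option autoImplicit false
set_option linter.unusedSectionVars false

namespace Cfsg.Agent.H3.TG

open Cfsg.Lie Cfsg.Agent.H2 Cfsg.Agent.H7 Cfsg.Agent.H8 Matrix

/-- Coset representatives and their lengths. -/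
def wsU7 : List (List ℕ × ℕ) := [([], 0), ([0], 1), ([2, 0], 2), ([3, 2, 0], 3), ([1, 3, 2, 0], 4), ([4, 3, 2, 0], 4), ([4, 1, 3, 2, 0], 5), ([5, 4, 3, 2, 0], 5), ([3, 4, 1, 3, 2, 0], 6), ([5, 4, 1, 3, 2, 0], 6), ([6, 5, 4, 3, 2, 0], 6), ([2, 3, 4, 1, 3, 2, 0], 7), ([5, 3, 4, 1, 3, 2, 0], 7), ([6, 5, 4, 1, 3, 2, 0], 7), ([0, 2, 3, 4, 1, 3, 2, 0], 8), ([5, 2, 3, 4, 1, 3, 2, 0], 8), ([4, 5, 3, 4, 1, 3, 2, 0], 8), ([6, 5, 3, 4, 1, 3, 2, 0], 8), ([5, 0, 2, 3, 4, 1, 3, 2, 0], 9), ([4, 5, 2, 3, 4, 1, 3, 2, 0], 9), ([6, 5, 2, 3, 4, 1, 3, 2, 0], 9), ([6, 4, 5, 3, 4, 1, 3, 2, 0], 9), ([4, 5, 0, 2, 3, 4, 1, 3, 2, 0], 10), ([6, 5, 0, 2, 3, 4, 1, 3, 2, 0], 10), ([3, 4, 5, 2, 3, 4, 1,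 3, 2, 0], 10), ([6, 4, 5, 2, 3, 4, 1, 3, 2, 0], 10), ([5, 6, 4, 5, 3, 4, 1, 3, 2, 0], 10), ([3, 4, 5, 0, 2, 3, 4, 1, 3, 2, 0], 11), ([6, 4, 5, 0, 2, 3, 4, 1, 3, 2, 0], 11), ([1, 3, 4, 5, 2, 3, 4, 1, 3, 2, 0], 11), ([6, 3, 4, 5, 2, 3, 4, 1, 3, 2, 0], 11), ([5, 6, 4, 5, 2, 3, 4, 1, 3, 2, 0], 11), ([1, 3, 4, 5, 0, 2, 3, 4, 1, 3, 2, 0], 12), ([2, 3, 4, 5, 0, 2, 3, 4, 1, 3, 2, 0], 12), ([6, 3, 4, 5, 0, 2, 3, 4, 1, 3, 2, 0], 12), ([5, 6, 4, 5, 0, 2, 3, 4, 1, 3, 2, 0], 12), ([6, 1, 3, 4, 5, 2, 3, 4, 1, 3, 2, 0], 12), ([5, 6, 3, 4, 5, 2, 3, 4, 1, 3, 2, 0], 12), ([2, 1, 3, 4, 5, 0, 2, 3, 4, 1, 3, 2, 0], 13), ([6, 1, 3, 4, 5, 0, 2, 3, 4, 1, 3, 2, 0], 13), ([6, 2, 3, 4, 5, 0, 2, 3,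 4, 1, 3, 2, 0], 13), ([5, 6, 3, 4, 5, 0, 2, 3, 4, 1, 3, 2, 0], 13), ([5, 6, 1, 3, 4, 5, 2, 3, 4, 1, 3, 2, 0], 13), ([4, 5, 6, 3, 4, 5, 2, 3, 4, 1, 3, 2, 0], 13), ([3, 2, 1, 3, 4, 5, 0, 2, 3, 4, 1, 3, 2, 0], 14), ([6, 2, 1, 3, 4, 5, 0, 2, 3, 4, 1, 3, 2, 0], 14), ([5, 6, 1, 3, 4, 5, 0, 2, 3, 4, 1, 3, 2, 0], 14), ([5, 6, 2, 3, 4, 5, 0, 2, 3, 4, 1, 3, 2, 0], 14), ([4, 5, 6, 3, 4, 5, 0, 2, 3, 4, 1, 3, 2, 0], 14), ([4, 5, 6, 1, 3, 4, 5, 2, 3, 4, 1, 3, 2, 0], 14), ([4, 3, 2, 1, 3, 4, 5, 0, 2, 3, 4, 1, 3, 2, 0], 15), ([6, 3, 2, 1, 3, 4, 5, 0, 2, 3, 4, 1, 3, 2, 0], 15), ([5, 6, 2, 1, 3, 4, 5, 0, 2, 3, 4, 1, 3, 2, 0], 15), ([4, 5, 6, 1, 3, 4, 5, 0, 2, 3, 4, 1, 3, 2, 0], 15), ([4, 5,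 6, 2, 3, 4, 5, 0, 2, 3, 4, 1, 3, 2, 0], 15), ([3, 4, 5, 6, 1, 3, 4, 5, 2, 3, 4, 1, 3, 2, 0], 15), ([5, 4, 3, 2, 1, 3, 4, 5, 0, 2, 3, 4, 1, 3, 2, 0], 16), ([6, 4, 3, 2, 1, 3, 4, 5, 0, 2, 3, 4, 1, 3, 2, 0], 16), ([5, 6, 3, 2, 1, 3, 4, 5, 0, 2, 3, 4, 1, 3, 2, 0], 16), ([4, 5, 6, 2, 1, 3, 4, 5, 0, 2, 3, 4, 1, 3, 2, 0], 16), ([3, 4, 5, 6, 1, 3, 4, 5, 0, 2, 3, 4, 1, 3, 2, 0], 16), ([3, 4, 5, 6, 2, 3, 4, 5, 0, 2, 3, 4, 1, 3, 2, 0], 16), ([2, 3, 4, 5, 6, 1, 3, 4, 5, 2, 3, 4, 1, 3, 2, 0], 16), ([6, 5, 4, 3, 2, 1, 3, 4, 5, 0, 2, 3, 4, 1, 3, 2, 0], 17), ([5, 6, 4, 3, 2, 1, 3, 4, 5, 0, 2, 3, 4, 1, 3, 2, 0], 17), ([4, 5, 6, 3, 2, 1, 3, 4, 5, 0, 2, 3, 4, 1, 3, 2, 0], 17), ([3, 4, 5, 6,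 2, 1, 3, 4, 5, 0, 2, 3, 4, 1, 3, 2, 0], 17), ([2, 3, 4, 5, 6, 1, 3, 4, 5, 0, 2, 3, 4, 1, 3, 2, 0], 17), ([1, 3, 4, 5, 6, 2, 3, 4, 5, 0, 2, 3, 4, 1, 3, 2, 0], 17), ([0, 2, 3, 4, 5, 6, 1, 3, 4, 5, 2, 3, 4, 1, 3, 2, 0], 17), ([5, 6, 5, 4, 3, 2, 1, 3, 4, 5, 0, 2, 3, 4, 1, 3, 2, 0], 18), ([4, 5, 6, 4, 3, 2, 1, 3, 4, 5, 0, 2, 3, 4, 1, 3, 2, 0], 18), ([3, 4, 5, 6, 3, 2, 1, 3, 4, 5, 0, 2, 3, 4, 1, 3, 2, 0], 18), ([1, 3, 4, 5, 6, 2, 1, 3, 4, 5, 0, 2, 3, 4, 1, 3, 2, 0], 18), ([2, 3, 4, 5, 6, 2, 1, 3, 4, 5, 0, 2, 3, 4, 1, 3, 2, 0], 18), ([0, 2, 3, 4, 5, 6, 1, 3, 4, 5, 0, 2, 3, 4, 1, 3, 2, 0], 18), ([4, 5, 6, 5, 4, 3, 2, 1, 3, 4, 5, 0, 2, 3, 4, 1, 3, 2, 0], 19), ([3, 4, 5, 6, 4, 3, 2,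 1, 3, 4, 5, 0, 2, 3, 4, 1, 3, 2, 0], 19), ([1, 3, 4, 5, 6, 3, 2, 1, 3, 4, 5, 0, 2, 3, 4, 1, 3, 2, 0], 19), ([2, 3, 4, 5, 6, 3, 2, 1, 3, 4, 5, 0, 2, 3, 4, 1, 3, 2, 0], 19), ([2, 1, 3, 4, 5, 6, 2, 1, 3, 4, 5, 0, 2, 3, 4, 1, 3, 2, 0], 19), ([0, 2, 3, 4, 5, 6, 2, 1, 3, 4, 5, 0, 2, 3, 4, 1, 3, 2, 0], 19), ([3, 4, 5, 6, 5, 4, 3, 2, 1, 3, 4, 5, 0, 2, 3, 4, 1, 3, 2, 0], 20), ([1, 3, 4, 5, 6, 4, 3, 2, 1, 3, 4, 5, 0, 2, 3, 4, 1, 3, 2, 0], 20), ([2, 3, 4, 5, 6, 4, 3, 2, 1, 3, 4, 5, 0, 2, 3, 4, 1, 3, 2, 0], 20), ([2, 1, 3, 4, 5, 6, 3, 2, 1, 3, 4, 5, 0, 2, 3, 4, 1, 3, 2, 0], 20), ([0, 2, 3, 4, 5, 6, 3, 2, 1, 3, 4, 5, 0, 2, 3, 4, 1, 3, 2, 0], 20), ([0, 2, 1, 3, 4, 5, 6, 2, 1, 3, 4, 5,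 0, 2, 3, 4, 1, 3, 2, 0], 20), ([1, 3, 4, 5, 6, 5, 4, 3, 2, 1, 3, 4, 5, 0, 2, 3, 4, 1, 3, 2, 0], 21), ([2, 3, 4, 5, 6, 5, 4, 3, 2, 1, 3, 4, 5, 0, 2, 3, 4, 1, 3, 2, 0], 21), ([2, 1, 3, 4, 5, 6, 4, 3, 2, 1, 3, 4, 5, 0, 2, 3, 4, 1, 3, 2, 0], 21), ([0, 2, 3, 4, 5, 6, 4, 3, 2, 1, 3, 4, 5, 0, 2, 3, 4, 1, 3, 2, 0], 21), ([0, 2, 1, 3, 4, 5, 6, 3, 2, 1, 3, 4, 5, 0, 2, 3, 4, 1, 3, 2, 0], 21), ([3, 2, 1, 3, 4, 5, 6, 3, 2, 1, 3, 4, 5, 0, 2, 3, 4, 1, 3, 2, 0], 21), ([2, 1, 3, 4, 5, 6, 5, 4, 3, 2, 1, 3, 4, 5, 0, 2, 3, 4, 1, 3, 2, 0], 22), ([0, 2, 3, 4, 5, 6, 5, 4, 3, 2, 1, 3, 4, 5, 0, 2, 3, 4, 1, 3, 2, 0], 22), ([0, 2, 1, 3, 4, 5, 6, 4, 3, 2, 1, 3, 4, 5, 0, 2, 3, 4, 1, 3, 2, 0], 22), ([3,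 2, 1, 3, 4, 5, 6, 4, 3, 2, 1, 3, 4, 5, 0, 2, 3, 4, 1, 3, 2, 0], 22), ([3, 0, 2, 1, 3, 4, 5, 6, 3, 2, 1, 3, 4, 5, 0, 2, 3, 4, 1, 3, 2, 0], 22), ([0, 2, 1, 3, 4, 5, 6, 5, 4, 3, 2, 1, 3, 4, 5, 0, 2, 3, 4, 1, 3, 2, 0], 23), ([3, 2, 1, 3, 4, 5, 6, 5, 4, 3, 2, 1, 3, 4, 5, 0, 2, 3, 4, 1, 3, 2, 0], 23), ([3, 0, 2, 1, 3, 4, 5, 6, 4, 3, 2, 1, 3, 4, 5, 0, 2, 3, 4, 1, 3, 2, 0], 23), ([4, 3, 2, 1, 3, 4, 5, 6, 4, 3, 2, 1, 3, 4, 5, 0, 2, 3, 4, 1, 3, 2, 0], 23), ([2, 3, 0, 2, 1, 3, 4, 5, 6, 3, 2, 1, 3, 4, 5, 0, 2, 3, 4, 1, 3, 2, 0], 23), ([3, 0, 2, 1, 3, 4, 5, 6, 5, 4, 3, 2, 1, 3, 4, 5, 0, 2, 3, 4, 1, 3, 2, 0], 24), ([4, 3, 2, 1, 3, 4, 5, 6, 5, 4, 3, 2, 1, 3, 4, 5, 0, 2, 3, 4, 1, 3, 2, 0],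 24), ([2, 3, 0, 2, 1, 3, 4, 5, 6, 4, 3, 2, 1, 3, 4, 5, 0, 2, 3, 4, 1, 3, 2, 0], 24), ([4, 3, 0, 2, 1, 3, 4, 5, 6, 4, 3, 2, 1, 3, 4, 5, 0, 2, 3, 4, 1, 3, 2, 0], 24), ([2, 3, 0, 2, 1, 3, 4, 5, 6, 5, 4, 3, 2, 1, 3, 4, 5, 0, 2, 3, 4, 1, 3, 2, 0], 25), ([4, 3, 0, 2, 1, 3, 4, 5, 6, 5, 4, 3, 2, 1, 3, 4, 5, 0, 2, 3, 4, 1, 3, 2, 0], 25), ([5, 4, 3, 2, 1, 3, 4, 5, 6, 5, 4, 3, 2, 1, 3, 4, 5, 0, 2, 3, 4, 1, 3, 2, 0], 25), ([4, 2, 3, 0, 2, 1, 3, 4, 5, 6, 4, 3, 2, 1, 3, 4, 5, 0, 2, 3, 4, 1, 3, 2, 0], 25), ([4, 2, 3, 0, 2, 1, 3, 4, 5, 6, 5, 4, 3, 2, 1, 3, 4, 5, 0, 2, 3, 4, 1, 3, 2, 0], 26), ([5, 4, 3, 0, 2, 1, 3, 4, 5, 6, 5, 4, 3, 2, 1, 3, 4, 5, 0, 2, 3, 4, 1, 3, 2, 0], 26), ([3, 4, 2,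 3, 0, 2, 1, 3, 4, 5, 6, 4, 3, 2, 1, 3, 4, 5, 0, 2, 3, 4, 1, 3, 2, 0], 26), ([3, 4, 2, 3, 0, 2, 1, 3, 4, 5, 6, 5, 4, 3, 2, 1, 3, 4, 5, 0, 2, 3, 4, 1, 3, 2, 0], 27), ([5, 4, 2, 3, 0, 2, 1, 3, 4, 5, 6, 5, 4, 3, 2, 1, 3, 4, 5, 0, 2, 3, 4, 1, 3, 2, 0], 27), ([1, 3, 4, 2, 3, 0, 2, 1, 3, 4, 5, 6, 4, 3, 2, 1, 3, 4, 5, 0, 2, 3, 4, 1, 3, 2, 0], 27), ([1, 3, 4, 2, 3, 0, 2, 1, 3, 4, 5, 6, 5, 4, 3, 2, 1, 3, 4, 5, 0, 2, 3, 4, 1, 3, 2, 0], 28), ([5, 3, 4, 2, 3, 0, 2, 1, 3, 4, 5, 6, 5, 4, 3, 2, 1, 3, 4, 5, 0, 2, 3, 4, 1, 3, 2, 0], 28), ([5, 1, 3, 4, 2, 3, 0, 2, 1, 3, 4, 5, 6, 5, 4, 3, 2, 1, 3, 4, 5, 0, 2, 3, 4, 1, 3, 2, 0], 29), ([4, 5, 3, 4, 2, 3, 0, 2, 1, 3, 4, 5, 6, 5, 4, 3, 2, 1, 3,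 4, 5, 0, 2, 3, 4, 1, 3, 2, 0], 29), ([4, 5, 1, 3, 4, 2, 3, 0, 2, 1, 3, 4, 5, 6, 5, 4, 3, 2, 1, 3, 4, 5, 0, 2, 3, 4, 1, 3, 2, 0], 30), ([3, 4, 5, 1, 3, 4, 2, 3, 0, 2, 1, 3, 4, 5, 6, 5, 4, 3, 2, 1, 3, 4, 5, 0, 2, 3, 4, 1, 3, 2, 0], 31), ([2, 3, 4, 5, 1, 3, 4, 2, 3, 0, 2, 1, 3, 4, 5, 6, 5, 4, 3, 2, 1, 3, 4, 5, 0, 2, 3, 4, 1, 3, 2, 0], 32), ([0, 2, 3, 4, 5, 1, 3, 4, 2, 3, 0, 2, 1, 3, 4, 5, 6, 5, 4, 3, 2, 1, 3, 4, 5, 0, 2, 3, 4, 1, 3, 2, 0], 33)]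

theorem numU7 {q : ℕ} (hq : 2 ≤ q) :
    ([0, 1, 2, 3, 4, 4, 5, 5, 6, 6, 6, 7, 7, 7, 8, 8, 8, 8, 9, 9, 9, 9, 10, 10, 10, 10, 10, 11, 11, 11, 11, 11, 12, 12, 12, 12, 12, 12, 13, 13, 13, 13, 13, 13, 14, 14, 14, 14, 14, 14, 15, 15, 15, 15, 15, 15, 16, 16, 16, 16, 16, 16, 16, 17, 17, 17, 17, 17, 17, 17, 18, 18, 18, 18, 18, 18, 19, 19, 19, 19, 19, 19, 20, 20, 20, 20, 20, 20, 21, 21, 21, 21, 21, 21, 22, 22, 22, 22, 22, 23, 23, 23, 23, 23, 24, 24, 24, 24, 25, 25, 25, 25, 26, 26, 26, 27, 27, 27, 28, 28, 29, 29, 30, 31, 32, 33].map (q ^ ·)).sum * (q - 1) =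
      (q ^ 16 + q ^ 12 + q ^ 10 + q ^ 8 + q ^ 6 + q ^ 4 + 1) * (q * q ^ (16 + 1) - 1) ∧
    (q ^ 16 + q ^ 12 + q ^ 10 + q ^ 8 + q ^ 6 + q ^ 4 + 1) * q < q ^ (16 + 1) - 1 + (q ^ 16 + q ^ 12 + q ^ 10 + q ^ 8 + q ^ 6 + q ^ 4 + 1) ∧
    (q ^ 16 + q ^ 12 + q ^ 10 + q ^ 8 + q ^ 6 + q ^ 4 + 1) < q ^ (16 + 1) := by
  have h1 : 1 ≤ q ^ (16 + 1) := Nat.one_le_pow _ _ (by omega)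
  have h2 : 1 ≤ q * q ^ (16 + 1) := Nat.mul_pos (by omega) h1
  zify [h1, h2, show 1 ≤ q by omega] at hq ⊢
  obtain ⟨r, hr⟩ : ∃ r : ℕ, (q : ℤ) = r + 2 := ⟨q - 2, by omega⟩
  refine ⟨by simp; ring, ?_, ?_⟩ <;> rw [← sub_pos, hr] <;> ring_nf <;> positivity

/-- The groups of type `E7`. -/
theorem pieceU7 {F : Type*} [Field F] [Finite F] {Ω : Type*} [Finite Ω] [MulAction (chevE7.group F) Ω]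
    [FaithfulSMul (chevE7.group F) Ω] (ht : TT (chevE7.group F) Ω)
    (hB : ∀ a b : Ω, ∃ g ∈ BB chevE7 (xg chevE7 F), g • a = b) : False :=
  coreU (c := ocE7) tablesE7 (by decide +kernel) agrE7 (θ := 125) (α := 93) (Ls := [[], [3], [4], [5]]) (Ws := wsU7)
    (by decide +kernel) (numU7 Finite.one_lt_card) ht hB

end Cfsg.Agent.H3.TG
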