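import Cfsg.Agent.H3.Mu.Tits.Der
import Cfsg.Agent.H7.All

/-! The permutation model of the Tits group on 1755 vectors. -/

set_option autoImplicit false

namespace Cfsg.Agent.H3.Tits

open L0 Cfsg.Lie

/-- the generators of the twisted group -/
noncomputable def a (i : ℕ) : GL chevF4.Idx (ZMod 2) :=
  ((ws.getD i []).map fun r => H7.xu chevF4 (ZMod 2) r 1).prod

theorem a_val (i : ℕ) : (a i : Matrix chevF4.Idx chevF4.Idx (ZMod 2)) =
    ((ws.getD i []).map fun r => chevF4.x (ZMod 2) r 1).prod := by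
  change Units.coeHom _ (a i) = _
  rw [a, map_list_prod, List.map_map]
  rfl

theorem genL_a : genL a (List.range 8) = twistedF4 (ZMod 2) 1 := by
  have h2 : (1 : ZMod 2) + 1 = 0 := rfl
  refine genL_eq_closure (fun i hi => ?_) ?_
  · interval_cases i
    · exact ⟨_, Or.inl ⟨1, Or.inl rfl⟩, by rw [a_val]; rfl⟩
    · exact ⟨_, Or.inl ⟨1, Or.inr rfl⟩, by rw [a_val]; rfl⟩
    · exact ⟨_, Or.inr ⟨1, 0, Or.inl rfl⟩, by
        rw [a_val]; simp [ChevalleyDatum.wordMat, b2ClassWord, ws, H7.x_zero, f4a, f4b, f4ab]⟩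
    · exact ⟨_, Or.inr ⟨0, 1, Or.inl rfl⟩, by
        rw [a_val]; simp [ChevalleyDatum.wordMat, b2ClassWord, ws, H7.x_zero, f4ab, f4aab]⟩
    · exact ⟨_, Or.inr ⟨1, 1, Or.inl rfl⟩, by
        rw [a_val]; simp [ChevalleyDatum.wordMat, b2ClassWord, ws, H7.x_zero, f4a, f4b, f4aab, h2]⟩
    · exact ⟨_, Or.inr ⟨1, 0, Or.inr rfl⟩, by
        rw [a_val]; simp [ChevalleyDatum.wordMat, b2ClassWord, ws, H7.x_zero, f4ma, f4mb, f4mab]⟩
    · exact ⟨_, Or.inr ⟨0, 1, Or.inr rfl⟩, by
        rw [a_val]; simp [ChevalleyDatum.wordMat, b2ClassWord, ws, H7.x_zero, f4mab, f4maab]⟩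
    · exact ⟨_, Or.inr ⟨1, 1, Or.inr rfl⟩, by
        rw [a_val]; simp [ChevalleyDatum.wordMat, b2ClassWord, ws, H7.x_zero, f4ma, f4mb, f4maab, h2]⟩
  · have h01 : ∀ t : ZMod 2, t = 0 ∨ t = 1 := by decide
    have one : ∀ {g : GL chevF4.Idx (ZMod 2)}, g.val = 1 → g = 1 ∨ ∃ i < 8, g = a i :=
      fun h => Or.inl (Units.ext h)
    have gen : ∀ {g : GL chevF4.Idx (ZMod 2)} (i : ℕ) (_ : i < 8), g.val =
        ((ws.getD i []).map fun r => chevF4.x (ZMod 2) r 1).prod → g = 1 ∨ ∃ i < 8, g = a i :=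
      fun i hi h => Or.inr ⟨i, hi, Units.ext (h.trans (a_val i).symm)⟩
    rintro g ⟨w, ⟨t, rfl | rfl⟩ | ⟨t, u, rfl | rfl⟩, hg⟩
    · rcases h01 t with rfl | rfl
      · exact one (by simpa [ChevalleyDatum.wordMat, f4PairWord, H7.x_zero] using hg)
      · exact gen 0 (by norm_num) hg
    · rcases h01 t with rfl | rfl
      · exact one (by simpa [ChevalleyDatum.wordMat, f4PairWord, H7.x_zero] using hg)
      · exact gen 1 (by norm_num) hg
    · rcases h01 t with rfl | rfl <;> rcases h01 u with rfl | rfl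
      · exact one (by simpa [ChevalleyDatum.wordMat, b2ClassWord, H7.x_zero] using hg)
      · exact gen 3 (by norm_num) (by
          simpa [ChevalleyDatum.wordMat, b2ClassWord, ws, H7.x_zero, f4ab, f4aab] using hg)
      · exact gen 2 (by norm_num) (by
          simpa [ChevalleyDatum.wordMat, b2ClassWord, ws, H7.x_zero, f4a, f4b, f4ab] using hg)
      · exact gen 4 (by norm_num) (by
          simpa [ChevalleyDatum.wordMat, b2ClassWord, ws, H7.x_zero, f4a, f4b, f4aab, h2] using hg)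
    · rcases h01 t with rfl | rfl <;> rcases h01 u with rfl | rfl
      · exact one (by simpa [ChevalleyDatum.wordMat, b2ClassWord, H7.x_zero] using hg)
      · exact gen 6 (by norm_num) (by
          simpa [ChevalleyDatum.wordMat, b2ClassWord, ws, H7.x_zero, f4mab, f4maab] using hg)
      · exact gen 5 (by norm_num) (by
          simpa [ChevalleyDatum.wordMat, b2ClassWord, ws, H7.x_zero, f4ma, f4mb, f4mab] using hg)
      · exact gen 7 (by norm_num) (by
          simpa [ChevalleyDatum.wordMat, b2ClassWord, ws, H7.x_zero, f4ma, f4mb, f4maab, h2] using hg)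

theorem exists_act : ∃ (A : RAct (twistedF4 (ZMod 2) 1) 1755) (g : ℕ → twistedF4 (ZMod 2) 1),
    A.Tab g 8 T0 ∧ A.IsBase Bs ∧ genL g (List.range 8) = ⊤ := by
  have hi : H9.PM.Indep 2 (1 : ZMod 2) 1 := H9.PM.indep_one 2 1
  have hI := cod.cI (RingHom.id _) (by decide)
  obtain ⟨A, h1, h2⟩ := data.act (e := e) (ω := (1 : ZMod 2)) (by decide) (by decide)
    (Vec.adm_two hi (by decide +kernel)) (Vec.soundL_xE1 rfl rfl) (cod.cU (RingHom.id _) (by decide))
    hI ((Units.coeHom _).comp (twistedF4 (ZMod 2) 1).subtype)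
    (Units.val_injective.comp Subtype.val_injective) (g := subG a _) (fun i hi => by
      rw [MonoidHom.comp_apply, Subgroup.subtype_apply,
        subG_val (genL_a ▸ mem_genL a (List.mem_range.mpr hi)), Units.coeHom_apply, a_val,
        (codw i hi).1]
      exact Vec.coded_cw rfl hI _ fun r hr =>
        Vec.coded_of (by decide) (codr r ((codw i hi).2 r hr)).1 (codr r ((codw i hi).2 r hr)).2)
    (genL_subG genL_a)
  exact ⟨A, _, h1, h2, genL_subG genL_a⟩

theorem tits_model : Model TitsGroup 1755 4 T Bf := by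
  obtain ⟨A, g, h1, h2, h3⟩ := exists_act
  exact der_model h1 h2 h3

end Cfsg.Agent.H3.Tits
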