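import Cfsg.Agent.H9.PMat2
import Cfsg.Agent.L0.CosetChain
import Cfsg.Agent.L0.RAct

/-! Vectors over a ring of characteristic `p` coded by numbers; matrices coded by their columns. -/

set_option autoImplicit false

namespace Cfsg.Agent.H3.Vec

open Finset Matrix
open Cfsg.Agent.H9 (pack look)

/-- format: characteristic, digit width, degree, dimension -/
structure Fm where
  p : ℕ
  w : ℕ
  d : ℕ
  n : ℕ

variable {R : Type*} [CommRing R] {ι : Type*}

/-- the vector with digit function `g` -/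
def lin (P : Fm) (e : ι ≃ Fin P.n) (ω : R) (g : ℕ → ℕ) : ι → R :=
  fun i => ∑ u ∈ range P.d, (g (P.d * e i + u) : R) * ω ^ u

/-- the vector with code `x` -/
def dec (P : Fm) (e : ι ≃ Fin P.n) (ω : R) (x : ℕ) : ι → R := lin P e ω (look P.w x)

/-- reduced codes -/
def Valid (P : Fm) (x : ℕ) : Prop := x < 2 ^ (P.w * (P.d * P.n)) ∧ ∀ l, look P.w x l < P.p

/-- test for `Valid` -/
noncomputable def valid (P : Fm) (x : ℕ) : Bool :=
  Nat.blt x (2 ^ (P.w * (P.d * P.n))) && H9.allLt (P.d * P.n) fun q => Nat.blt (look P.w x q) P.p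

theorem look_eq_zero {w L x q : ℕ} (h : x < 2 ^ (w * L)) (hq : L ≤ q) : look w x q = 0 := by
  rw [H9.look_eq, Nat.shiftRight_eq_div_pow, Nat.div_eq_of_lt, Nat.zero_mod]
  exact lt_of_lt_of_le h (Nat.pow_le_pow_right (by norm_num) (Nat.mul_le_mul_left _ hq))

theorem valid_of {P : Fm} (hp : 0 < P.p) {x : ℕ} (h : valid P x = true) : Valid P x := by
  simp only [valid, Bool.and_eq_true, Nat.blt_eq, H9.allLt_iff] at h
  refine ⟨h.1, fun q => ?_⟩
  by_cases hq : q < P.d * P.n
  · exact h.2 q hq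
  · rw [look_eq_zero h.1 (not_lt.mp hq)]; exact hp

theorem valid_two {d n x : ℕ} (h : x < 2 ^ (d * n)) : Valid ⟨2, 1, d, n⟩ x :=
  ⟨by simpa using h, fun l => by simpa using H9.look_lt 1 x l⟩

variable {P : Fm} {e : ι ≃ Fin P.n} {ω : R}

theorem lin_congr {g h : ℕ → ℕ} (H : ∀ l < P.d * P.n, (g l : R) = h l) :
    lin P e ω g = lin P e ω h := by
  funext i
  exact sum_congr rfl fun u hu => by rw [H _ (H9.PM.blk_lt (e i).2 (mem_range.mp hu))]

theorem lin_add (g h : ℕ → ℕ) : lin P e ω (fun l => g l + h l) = lin P e ω g + lin P e ω h := by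
  funext i
  simp [lin, add_mul, sum_add_distrib]

theorem lin_mul (a : ℕ) (g : ℕ → ℕ) : lin P e ω (fun l => a * g l) = (a : R) • lin P e ω g := by
  funext i
  simp [lin, mul_sum, mul_assoc]

theorem lin_zero : lin P e ω (fun _ => 0) = 0 := by
  funext i; simp [lin]

theorem map_dec {S : Type*} [CommRing S] (φ : R →+* S) (x : ℕ) (i : ι) :
    φ (dec P e ω x i) = dec P e (φ ω) x i := by
  simp [dec, lin]

/-- the list `C` holds the codes of `ω ^ u` times the columns of `M` -/
def Coded (P : Fm) (e : ι ≃ Fin P.n) (ω : R) (C : List ℕ) (M : Matrix ι ι R) : Prop :=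
  C.length = P.d * P.n ∧ (∀ c ∈ C, Valid P c) ∧
    ∀ i j, ∀ u < P.d, M i j * ω ^ u = dec P e ω (C.getD (P.d * e j + u) 0) i

theorem Coded.map {S : Type*} [CommRing S] (φ : R →+* S) {C : List ℕ} {M : Matrix ι ι R}
    (h : Coded P e ω C M) : Coded P e (φ ω) C (M.map φ) :=
  ⟨h.1, h.2.1, fun i j u hu => by rw [← map_dec, ← h.2.2 i j u hu]; simp⟩

/-- the matrix read off the list of columns -/
def mat (P : Fm) (e : ι ≃ Fin P.n) (ω : R) (C : List ℕ) : Matrix ι ι R :=
  Matrix.of fun i j => dec P e ω (C.getD (P.d * e j) 0) i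

theorem mat_map {S : Type*} [CommRing S] (φ : R →+* S) (C : List ℕ) :
    (mat P e ω C).map φ = mat P e (φ ω) C := by
  ext i j; simp [mat, map_dec]

/-- shape test for a list of columns -/
noncomputable def colsB (P : Fm) (C : List ℕ) : Bool :=
  Nat.beq C.length (P.d * P.n) && L0.allL C (valid P)

theorem colsB_spec (hp : 0 < P.p) {C : List ℕ} (h : colsB P C = true) :
    C.length = P.d * P.n ∧ ∀ c ∈ C, Valid P c := by
  simp only [colsB, Bool.and_eq_true, Nat.beq_eq, L0.allL_iff] at h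
  exact ⟨h.1, fun c hc => valid_of hp (h.2 c hc)⟩

theorem coded_of (hp : 0 < P.p) {C : List ℕ} (h : colsB P C = true) {M : Matrix ι ι R}
    (hM : ∀ i j, ∀ u < P.d, M i j * ω ^ u = dec P e ω (C.getD (P.d * e j + u) 0) i) :
    Coded P e ω C M := ⟨(colsB_spec hp h).1, (colsB_spec hp h).2, hM⟩

theorem coded_mat_one (hp : 0 < P.p) (hd : P.d = 1) {C : List ℕ} (h : colsB P C = true) :
    Coded P e ω C (mat P e ω C) :=
  coded_of hp h fun i j u hu => by
    have : u = 0 := by omega
    subst this; simp [mat]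

theorem Coded.eq_mat (hd : 0 < P.d) {C : List ℕ} {M : Matrix ι ι R} (h : Coded P e ω C M) :
    M = mat P e ω C := by
  ext i j
  simpa [mat] using h.2.2 i j 0 hd

theorem Coded.mulVec_lin [Fintype ι] {C : List ℕ} {M : Matrix ι ι R} (h : Coded P e ω C M)
    (g : ℕ → ℕ) :
    M *ᵥ lin P e ω g = ∑ l ∈ range (P.d * P.n), (g l : R) • dec P e ω (C.getD l 0) := by
  funext i
  rw [H9.PM.sum_range_mul', ← Fin.sum_univ_eq_sum_range
    (fun k => ∑ s ∈ range P.d, (g (P.d * k + s) : R) • dec P e ω (C.getD (P.d * k + s) 0)),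
    ← e.sum_comp, Finset.sum_apply]
  simp only [Matrix.mulVec, dotProduct, lin, mul_sum]
  refine sum_congr rfl fun j _ => ?_
  rw [Finset.sum_apply]
  refine sum_congr rfl fun u hu => ?_
  rw [Pi.smul_apply, ← h.2.2 i j u (mem_range.mp hu), smul_eq_mul]
  ring

/-! ### characteristic two -/

/-- apply a coded matrix, characteristic two -/
noncomputable def xapp (C : List ℕ) : ℕ → ℕ → ℕ :=
  List.rec (motive := fun _ => ℕ → ℕ → ℕ) (fun _ acc => acc)
    (fun c _ ih x acc => Nat.rec (motive := fun _ => ℕ) 0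
      (fun y _ => ih y (Nat.xor acc (Nat.mul (Nat.land x 1) c))) (Nat.succ (Nat.shiftRight x 1))) C

theorem look_one (x l : ℕ) : look 1 x l = if x.testBit l then 1 else 0 := by
  rw [← H9.bit_eq, H9.look_eq, one_mul]
  exact (Nat.and_one_is_mod _).symm

theorem look_succ (w x l : ℕ) : look w x (l + 1) = look w (x >>> w) l := by
  rw [H9.look_eq, H9.look_eq, ← Nat.shiftRight_add, Nat.mul_succ, add_comm]

theorem look_zero (w x : ℕ) : look w x 0 = x % 2 ^ w := by
  rw [H9.look_eq]; simp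

theorem dec_xor (hw : P.w = 1) (h2 : (2 : R) = 0) (a b : ℕ) :
    dec P e ω (a ^^^ b) = dec P e ω a + dec P e ω b := by
  rw [dec, dec, dec, ← lin_add, hw]
  refine lin_congr fun l _ => ?_
  rw [look_one, look_one, look_one, Nat.testBit_xor]
  cases a.testBit l <;> cases b.testBit l <;> simp
  exact h2.symm

theorem dec_zero : dec P e ω 0 = 0 := by
  rw [dec, ← lin_zero (P := P) (e := e) (ω := ω)]
  exact lin_congr fun l _ => by simp [H9.look_eq]

theorem dec_xapp (hw : P.w = 1) (h2 : (2 : R) = 0) (C : List ℕ) : ∀ x acc,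
    dec P e ω (xapp C x acc) =
      dec P e ω acc + ∑ l ∈ range C.length, (look 1 x l : R) • dec P e ω (C.getD l 0) := by
  induction C with
  | nil => intro x acc; simp [xapp]
  | cons c C ih =>
    intro x acc
    have e1 : xapp (c :: C) x acc = xapp C (x >>> 1) (acc ^^^ ((x &&& 1) * c)) := rfl
    rw [e1, ih, dec_xor hw h2, List.length_cons, sum_range_succ', add_assoc, add_comm (∑ _ ∈ _, _)]
    congr 2
    · rw [look_zero, Nat.and_one_is_mod, pow_one]
      rcases Nat.mod_two_eq_zero_or_one x with h | h <;> simp [h, dec_zero]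
    · exact sum_congr rfl fun l _ => by rw [look_succ]; rfl

theorem Coded.xapp [Fintype ι] (hw : P.w = 1) (h2 : (2 : R) = 0) {C : List ℕ} {M : Matrix ι ι R}
    (h : Coded P e ω C M) (x : ℕ) : M *ᵥ dec P e ω x = dec P e ω (xapp C x 0) := by
  rw [dec_xapp hw h2, dec_zero, zero_add, dec, h.mulVec_lin, h.1, hw]

/-! ### any characteristic -/

/-- apply a coded matrix without reduction -/
noncomputable def raw (w m : ℕ) (C : List ℕ) : ℕ → ℕ → ℕ :=
  List.rec (motive := fun _ => ℕ → ℕ → ℕ) (fun _ acc => acc)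
    (fun c _ ih x acc => Nat.rec (motive := fun _ => ℕ) 0
      (fun y _ => ih y (Nat.add acc (Nat.mul (Nat.land x m) c))) (Nat.succ (Nat.shiftRight x w))) C

theorem raw_eq (w : ℕ) (C : List ℕ) : ∀ x acc,
    raw w (2 ^ w - 1) C x acc = acc + ∑ l ∈ range C.length, look w x l * C.getD l 0 := by
  induction C with
  | nil => intro x acc; simp [raw]
  | cons c C ih =>
    intro x acc
    have e1 : raw w (2 ^ w - 1) (c :: C) x acc =
      raw w (2 ^ w - 1) C (x >>> w) (acc + ((x &&& (2 ^ w - 1)) * c)) := rfl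
    rw [e1, ih, List.length_cons, sum_range_succ', add_assoc, add_comm (∑ _ ∈ _, _)]
    congr 2
    · rw [look_zero, Nat.and_two_pow_sub_one_eq_mod]; rfl
    · exact sum_congr rfl fun l _ => by rw [look_succ]; rfl

/-- `z` is a digit string with digits at most `B` and value `v` -/
def Rp (P : Fm) (e : ι ≃ Fin P.n) (ω : R) (B z : ℕ) (v : ι → R) : Prop :=
  ∃ g : ℕ → ℕ, z = pack P.w (P.d * P.n) g ∧ (∀ l, g l ≤ B) ∧ v = lin P e ω g

theorem Rp.add {B B' z z' : ℕ} {v v' : ι → R} (h : Rp P e ω B z v) (h' : Rp P e ω B' z' v') :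
    Rp P e ω (B + B') (z + z') (v + v') := by
  obtain ⟨g, rfl, h1, rfl⟩ := h
  obtain ⟨g', rfl, h1', rfl⟩ := h'
  exact ⟨fun l => g l + g' l, H9.pack_add _ _ _ _, fun l => Nat.add_le_add (h1 l) (h1' l),
    (lin_add _ _).symm⟩

theorem Rp.mul {B z : ℕ} {v : ι → R} (h : Rp P e ω B z v) (a : ℕ) :
    Rp P e ω (a * B) (a * z) ((a : R) • v) := by
  obtain ⟨g, rfl, h1, rfl⟩ := h
  exact ⟨fun l => a * g l, by rw [mul_comm, H9.pack_mul]; simp only [mul_comm],
    fun l => Nat.mul_le_mul_left _ (h1 l), (lin_mul _ _).symm⟩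

theorem Rp.mono {B B' z : ℕ} {v : ι → R} (h : Rp P e ω B z v) (hB : B ≤ B') : Rp P e ω B' z v := by
  obtain ⟨g, h0, h1, h2⟩ := h
  exact ⟨g, h0, fun l => (h1 l).trans hB, h2⟩

theorem Rp.zero : Rp P e ω 0 0 0 := ⟨fun _ => 0, by simp [pack], fun _ => le_rfl, lin_zero.symm⟩

theorem Valid.rp (hw : 0 < P.w) {x : ℕ} (h : Valid P x) : Rp P e ω (P.p - 1) x (dec P e ω x) :=
  ⟨look P.w x, (H9.pack_look hw h.1).symm, fun l => Nat.le_sub_one_of_lt (h.2 l), rfl⟩

theorem Coded.rp [Fintype ι] (hw : 0 < P.w) {C : List ℕ} {M : Matrix ι ι R} (h : Coded P e ω C M)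
    {x : ℕ} (hx : Valid P x) :
    Rp P e ω (P.d * P.n * ((P.p - 1) * (P.p - 1))) (raw P.w (2 ^ P.w - 1) C x 0)
      (M *ᵥ dec P e ω x) := by
  rw [raw_eq, zero_add, dec, h.mulVec_lin, h.1]
  have key : ∀ m ≤ P.d * P.n, Rp P e ω (m * ((P.p - 1) * (P.p - 1)))
      (∑ l ∈ range m, look P.w x l * C.getD l 0)
      (∑ l ∈ range m, (look P.w x l : R) • dec P e ω (C.getD l 0)) := by
    intro m
    induction m with
    | zero => intro _; simpa using Rp.zero
    | succ m ih =>
      intro hm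
      rw [sum_range_succ, sum_range_succ, Nat.succ_mul]
      refine (ih (by omega)).add ?_
      have hc : Valid P (C.getD m 0) := by
        have : m < C.length := by rw [h.1]; omega
        rw [List.getD_eq_getElem _ _ this]
        exact h.2.1 _ (List.getElem_mem this)
      exact ((hc.rp hw).mul _).mono (Nat.mul_le_mul_right _ (Nat.le_sub_one_of_lt (hx.2 m)))
  exact key _ le_rfl

/-- all digits of `z` are multiples of `p`; `lo` masks the low bits of every digit -/
noncomputable def zeroB (p lo z : ℕ) : Bool :=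
  Nat.rec (motive := fun _ => Bool) false (fun z _ =>
    Nat.rec (motive := fun _ => Bool) false (fun y _ =>
      Bool.rec (motive := fun _ => Bool) false (Nat.beq (Nat.land y lo) y) (Nat.beq (Nat.mul p y) z))
      (Nat.succ (Nat.div z p))) (Nat.succ z)

/-- consistency of the parameters for the test without reduction -/
structure OddOK (P : Fm) (m s lo : ℕ) : Prop where
  hw : 0 < P.w
  hp : 0 < P.p
  hm : m = 2 ^ P.w - 1
  hs : P.p * 2 ^ s ≤ 2 ^ P.w
  hlo : lo = pack P.w (P.d * P.n) fun _ => 2 ^ s - 1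
  hB : P.p * (P.d * P.n * ((P.p - 1) * (P.p - 1))) < 2 ^ P.w

/-- test for `OddOK` -/
noncomputable def oddB (P : Fm) (m s lo : ℕ) : Bool :=
  Nat.blt 0 P.w && Nat.blt 0 P.p && Nat.beq m (2 ^ P.w - 1) && Nat.ble (P.p * 2 ^ s) (2 ^ P.w) &&
    Nat.beq lo (H9.repl P.w (P.d * P.n) (2 ^ s - 1)) &&
    Nat.blt (P.p * (P.d * P.n * ((P.p - 1) * (P.p - 1)))) (2 ^ P.w)

theorem oddOK_of {m s lo : ℕ} (h : oddB P m s lo = true) : OddOK P m s lo := by
  simp only [oddB, Bool.and_eq_true, Nat.blt_eq, Nat.ble_eq, Nat.beq_eq, H9.repl_eq] at h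
  obtain ⟨⟨⟨⟨⟨h1, h2⟩, h3⟩, h4⟩, h5⟩, h6⟩ := h
  exact ⟨h1, h2, h3, h4, h5, h6⟩

theorem Rp.eq_zero {m s lo : ℕ} (ho : OddOK P m s lo) (hp : (P.p : R) = 0) {B z : ℕ} {v : ι → R}
    (h : Rp P e ω B z v) (hB : B < 2 ^ P.w) (hz : zeroB P.p lo z = true) : v = 0 := by
  have e1 : zeroB P.p lo z = Bool.rec (motive := fun _ => Bool) false
    (Nat.beq (Nat.land (z / P.p) lo) (z / P.p)) (Nat.beq (P.p * (z / P.p)) z) := rfl
  rw [e1] at hz
  obtain ⟨h1, h2⟩ := L0.brec_true hz
  have h1 := Nat.eq_of_beq_eq_true h1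
  have h2 : (z / P.p) &&& lo = z / P.p := Nat.eq_of_beq_eq_true h2
  generalize z / P.p = y at h1 h2
  have hs : 2 ^ s ≤ 2 ^ P.w := le_trans (Nat.le_mul_of_pos_left _ ho.hp) ho.hs
  have hlt : ∀ q < P.d * P.n, 2 ^ s - 1 < 2 ^ P.w := fun _ _ =>
    lt_of_lt_of_le (Nat.sub_one_lt (Nat.two_pow_pos _).ne') hs
  have hy : y < 2 ^ (P.w * (P.d * P.n)) := by
    rw [← h2]
    exact lt_of_le_of_lt Nat.and_le_right (ho.hlo ▸ H9.pack_lt hlt)
  have hd : ∀ q < P.d * P.n, look P.w y q < 2 ^ s := by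
    intro q hq
    refine Nat.lt_pow_two_of_testBit _ fun r hr => ?_
    rw [H9.testBit_look]
    by_cases hr' : r < P.w
    · rw [← h2, Nat.testBit_and, ho.hlo, H9.testBit_pack hlt q r hr', Nat.testBit_two_pow_sub_one]
      simp [not_lt.mpr hr]
    · simp [hr']
  obtain ⟨g, hg, h3, rfl⟩ := h
  rw [← H9.pack_look ho.hw hy, mul_comm, H9.pack_mul, hg] at h1
  rw [← lin_zero (P := P) (e := e) (ω := ω)]
  refine lin_congr fun l hl => ?_
  have h4 := congrArg (fun t => look P.w t l) h1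
  rw [H9.look_pack (fun q hq => lt_of_lt_of_le
      (Nat.mul_lt_mul_of_pos_right (hd q hq) ho.hp) (by rw [mul_comm]; exact ho.hs)) hl,
    H9.look_pack (fun q _ => lt_of_le_of_lt (h3 q) hB) hl] at h4
  rw [← h4]
  simp [hp]

/-! ### testers -/

/-- a sound test for `M x = M' y` -/
def Sound [Fintype ι] (P : Fm) (e : ι ≃ Fin P.n) (ω : R) (E : List ℕ → ℕ → List ℕ → ℕ → Bool) :
    Prop :=
  ∀ ⦃C C' : List ℕ⦄ ⦃M M' : Matrix ι ι R⦄ ⦃x y : ℕ⦄, Coded P e ω C M → Coded P e ω C' M' →
    Valid P x → Valid P y → E C x C' y = true → M *ᵥ dec P e ω x = M' *ᵥ dec P e ω y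

/-- the test in characteristic two -/
noncomputable def xE (C : List ℕ) (x : ℕ) (C' : List ℕ) (y : ℕ) : Bool :=
  Nat.beq (xapp C x 0) (xapp C' y 0)

theorem sound_xE [Fintype ι] (hw : P.w = 1) (h2 : (2 : R) = 0) : Sound P e ω xE :=
  fun _ _ _ _ _ _ h h' _ _ hE => by
    rw [h.xapp hw h2, h'.xapp hw h2, Nat.eq_of_beq_eq_true hE]

/-- the test in any characteristic -/
noncomputable def rE (p q w m lo : ℕ) (C : List ℕ) (x : ℕ) (C' : List ℕ) (y : ℕ) : Bool :=
  zeroB p lo (Nat.add (raw w m C x 0) (Nat.mul q (raw w m C' y 0)))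

theorem sound_rE [Fintype ι] {m s lo : ℕ} (ho : OddOK P m s lo) (hp : (P.p : R) = 0) :
    Sound P e ω (rE P.p (P.p - 1) P.w m lo) := by
  intro C C' M M' x y h h' hx hy hE
  have h1 := (h.rp ho.hw hx).add ((h'.rp ho.hw hy).mul (P.p - 1))
  rw [← ho.hm] at h1
  have h2 := h1.eq_zero ho hp (by
    have := ho.hB
    have h3 := ho.hp
    obtain ⟨p, hp'⟩ : ∃ p, P.p = p + 1 := ⟨P.p - 1, by omega⟩
    rw [hp'] at this ⊢
    simp only [Nat.add_sub_cancel] at this ⊢
    nlinarith) hE
  have h3 : ((P.p - 1 : ℕ) : R) = -1 := by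
    rw [Nat.cast_sub ho.hp, hp]; simp
  rw [h3, neg_one_smul] at h2
  exact add_neg_eq_zero.mp h2

/-! ### injectivity -/

theorem dec_inj (hw : 0 < P.w) (hi : H9.PM.Indep P.p ω P.d) {x y : ℕ} (hx : Valid P x)
    (hy : Valid P y) (h : dec P e ω x = dec P e ω y) : x = y := by
  rw [← H9.pack_look hw hx.1, ← H9.pack_look hw hy.1]
  refine H9.pack_congr fun q hq => ?_
  have hd : 0 < P.d := by
    rcases Nat.eq_zero_or_pos P.d with h0 | h0
    · rw [h0] at hq; omega
    · exact h0
  have h1 := congrFun h (e.symm ⟨q / P.d, Nat.div_lt_of_lt_mul hq⟩)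
  simp only [dec, lin, Equiv.apply_symm_apply] at h1
  have := hi _ _ (fun u => hx.2 _) (fun u => hy.2 _) h1 (q % P.d) (Nat.mod_lt _ hd)
  simpa only [Nat.div_add_mod] using this

/-- the first non-zero coordinate is `1` -/
noncomputable def normB (P : Fm) (x : ℕ) : Bool :=
  !(H9.allLt P.n fun j =>
    !(Nat.beq (Nat.mod x (Nat.pow 2 (P.w * (P.d * (j + 1))))) (Nat.pow 2 (P.w * (P.d * j)))))

theorem normB_spec (hw : 0 < P.w) (hd : 0 < P.d) {x : ℕ} (h : normB P x = true) :
    ∃ j : ι, dec P e ω x j = 1 ∧ ∀ i, e i < e j → dec P e ω x i = 0 := by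
  have h1 : ∃ j < P.n, x % 2 ^ (P.w * (P.d * (j + 1))) = 2 ^ (P.w * (P.d * j)) := by
    by_contra hc
    push Not at hc
    have : (H9.allLt P.n fun j => !(Nat.beq (Nat.mod x (Nat.pow 2 (P.w * (P.d * (j + 1)))))
        (Nat.pow 2 (P.w * (P.d * j))))) = true :=
      (H9.allLt_iff _ _).mpr fun j hj => by
        rw [Bool.not_eq_true', Bool.eq_false_iff]
        exact fun h2 => hc j hj (Nat.eq_of_beq_eq_true h2)
    rw [normB, this] at h
    exact absurd h (by simp)
  obtain ⟨j, hj, h1⟩ := h1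
  have hl : ∀ l < P.d * (j + 1), look P.w x l = if l = P.d * j then 1 else 0 := by
    intro l hl
    apply Nat.eq_of_testBit_eq
    intro r
    rw [H9.testBit_look]
    by_cases hr : r < P.w
    · have h2 : P.w * l + r < P.w * (P.d * (j + 1)) := by
        have : P.w * (l + 1) ≤ P.w * (P.d * (j + 1)) := Nat.mul_le_mul_left _ hl
        rw [Nat.mul_succ] at this; omega
      have h3 := congrArg (fun t => t.testBit (P.w * l + r)) h1
      simp only [Nat.testBit_mod_two_pow, h2, decide_true, Bool.true_and, Nat.testBit_two_pow] at h3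
      rw [h3]
      by_cases h4 : l = P.d * j
      · subst h4
        rw [if_pos rfl, show (1 : ℕ) = 2 ^ 0 from rfl, Nat.testBit_two_pow]
        simp [hr, eq_comm]
      · rw [if_neg h4, Nat.zero_testBit]
        simp only [hr, decide_true, Bool.true_and, decide_eq_false_iff_not]
        intro h5
        apply h4
        have := congrArg (· / P.w) h5
        simp only [Nat.mul_div_cancel_left _ hw, Nat.mul_add_div hw, Nat.div_eq_of_lt hr] at this
        omega
    · have : (if l = P.d * j then 1 else 0 : ℕ).testBit r = false := by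
        refine Nat.testBit_lt_two_pow (lt_of_le_of_lt (b := 1) (by split_ifs <;> omega) ?_)
        exact Nat.one_lt_two_pow (by omega)
      simp [hr, this]
  refine ⟨e.symm ⟨j, hj⟩, ?_, fun i hi => ?_⟩
  · simp only [dec, lin, Equiv.apply_symm_apply]
    rw [sum_eq_single 0]
    · rw [hl _ (by rw [Nat.mul_succ]; omega)]; simp
    · intro u hu h0
      have := mem_range.mp hu
      rw [hl _ (by rw [Nat.mul_succ]; omega), if_neg (by omega)]; simp
    · intro h0; exact absurd (mem_range.mpr hd) h0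
  · simp only [Equiv.apply_symm_apply, Fin.lt_def] at hi
    simp only [dec, lin]
    refine sum_eq_zero fun u hu => ?_
    have h2 := H9.PM.blk_lt (d := P.d) hi (mem_range.mp hu)
    rw [hl _ (by rw [Nat.mul_succ]; omega), if_neg (by omega)]; simp

theorem eq_of_smul [Nontrivial R] (hw : 0 < P.w) (hd : 0 < P.d) (hi : H9.PM.Indep P.p ω P.d)
    {x y : ℕ} (hx : Valid P x) (hy : Valid P y) (nx : normB P x = true) (ny : normB P y = true)
    {l : R} (h : dec P e ω x = l • dec P e ω y) : x = y := by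
  obtain ⟨j, a1, a2⟩ := normB_spec (e := e) (ω := ω) hw hd nx
  obtain ⟨j', b1, b2⟩ := normB_spec (e := e) (ω := ω) hw hd ny
  have hl : l = 1 := by
    rcases lt_trichotomy (e j) (e j') with h1 | h1 | h1
    · have := congrFun h j
      rw [a1, Pi.smul_apply, b2 j h1] at this
      simp at this
    · have := congrFun h j
      rw [a1, Pi.smul_apply, e.injective h1, b1] at this
      simpa using this.symm
    · have := congrFun h j'
      rw [a2 j' h1, Pi.smul_apply, b1, smul_eq_mul, mul_one] at this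
      have h2 := congrFun h j
      rw [a1, ← this] at h2
      simp at h2
  rw [hl, one_smul] at h
  exact dec_inj hw hi hx hy h

/-- `V (S j)` increases strictly -/
noncomputable def sortB (V S : ℕ → ℕ) (N j : ℕ) : Bool :=
  Bool.rec (motive := fun _ => Bool)
    (Bool.rec (motive := fun _ => Bool) false
      (Bool.rec (motive := fun _ => Bool) (Nat.blt (V (S j)) (V (S (Nat.succ j)))) true
        (Nat.ble N (Nat.succ j)))
      (Nat.blt (S j) N))
    true (Nat.ble N j)

theorem inj_of_sortB {V S : ℕ → ℕ} {N M : ℕ} (hM : N ≤ M) (h : ∀ j < M, sortB V S N j = true) :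
    ∀ c < N, ∀ d < N, V c = V d → c = d := by
  have h1 : ∀ j < N, S j < N ∧ (j + 1 < N → V (S j) < V (S (j + 1))) := by
    intro j hj
    have := h j (by omega)
    unfold sortB at this
    have h2 : Nat.ble N j = false := by
      rw [Bool.eq_false_iff]; intro h3; exact absurd (Nat.le_of_ble_eq_true h3) (by omega)
    rw [h2] at this
    obtain ⟨h3, h4⟩ := L0.brec_true this
    refine ⟨by simpa [Nat.blt_eq] using h3, fun hj' => ?_⟩
    have h5 : Nat.ble N (Nat.succ j) = false := by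
      rw [Bool.eq_false_iff]; intro h3; exact absurd (Nat.le_of_ble_eq_true h3) (by omega)
    rw [h5] at h4
    simpa [Nat.blt_eq] using h4
  have h2 : ∀ j < N, ∀ i < j, V (S i) < V (S j) := by
    intro j
    induction j with
    | zero => intro _ i hi; omega
    | succ j ih =>
      intro hj i hi
      have := (h1 j (by omega)).2 hj
      rcases Nat.lt_succ_iff_lt_or_eq.mp hi with h3 | h3
      · exact (ih (by omega) i h3).trans this
      · rw [h3]; exact this
  have h3 : ∀ i < N, ∀ j < N, V (S i) = V (S j) → i = j := by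
    intro i hi j hj hV
    rcases lt_trichotomy i j with h4 | h4 | h4
    · exact absurd hV (h2 j hj i h4).ne
    · exact h4
    · exact absurd hV (h2 i hi j h4).ne'
  let f : Fin N → Fin N := fun j => ⟨S j, (h1 j j.2).1⟩
  have hf : Function.Injective f := fun a b hab =>
    Fin.ext (h3 _ a.2 _ b.2 (congrArg V (congrArg Fin.val hab)))
  intro c hc d hd hV
  obtain ⟨i, hi⟩ := Finite.surjective_of_injective hf ⟨c, hc⟩
  obtain ⟨j, hj⟩ := Finite.surjective_of_injective hf ⟨d, hd⟩
  have hi' : S i = c := congrArg Fin.val hi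
  have hj' : S j = d := congrArg Fin.val hj
  rw [← hi', ← hj', h3 _ i.2 _ j.2 (by rw [hi', hj', hV])]

end Cfsg.Agent.H3.Vec
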