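import Cfsg.Agent.H3.Vec
import Cfsg.Agent.L0.Cover

/-! Permutation models of matrix groups from coded vectors or coded projective points. -/

set_option autoImplicit false

namespace Cfsg.Agent.H3

open L0 Matrix

universe u v

/-- a faithful numbered action with table `T` of `k` generating letters and base `B` -/
def Model (G : Type u) [Group G] (N k : ℕ) (T : ℕ → ℕ → ℕ) (B : List ℕ) : Prop :=
  ∃ (A : RAct G N) (x : ℕ → G), A.Tab x k T ∧ A.IsBase B ∧ genL x (List.range k) = ⊤

section groups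
variable {G : Type u} [Group G] {N k : ℕ} {T : ℕ → ℕ → ℕ} {B : List ℕ}

theorem genL_map {G' : Type v} [Group G'] (f : G →* G') (x : ℕ → G) (l : List ℕ) :
    (genL x l).map f = genL (fun i => f (x i)) l := by
  rw [genL, genL, MonoidHom.map_closure, Set.image_image]

theorem genL_congr {x y : ℕ → G} {l : List ℕ} (h : ∀ i ∈ l, x i = y i) : genL x l = genL y l :=
  le_antisymm (genL_le fun i hi => h i hi ▸ mem_genL y hi)
    (genL_le fun i hi => (h i hi).symm ▸ mem_genL x hi)

theorem model_of_surj {H : Type v} [Group H] {A : RAct H N} {x : ℕ → H} (h : A.Tab x k T)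
    (ht : genL x (List.range k) = ⊤) (f : H →* G) (hf : Function.Surjective f)
    (hk : ∀ y, f y = 1 → ∀ c < N, A.act c y = c) (hb : ∀ y ∈ A.fixL B, f y = 1) :
    Model G N k T B := by
  refine ⟨A.descend f hf hk, fun i => f (x i), h.descend f hf hk, fun y hy => ?_, ?_⟩
  · obtain ⟨z, rfl⟩ := hf y
    exact hb z fun c hl hc => by rw [← A.descend_act f hf hk hc]; exact hy c hl hc
  · rw [← genL_map, ht, Subgroup.map_top_of_surjective _ hf]

theorem Model.congr {G' : Type v} [Group G'] (h : Model G N k T B) (e : G ≃* G') :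
    Model G' N k T B := by
  obtain ⟨A, x, h1, h2, h3⟩ := h
  refine model_of_surj h1 h3 e.toMonoidHom e.surjective (fun y hy c hc => ?_) (fun y hy => ?_)
  · have : y = 1 := e.map_eq_one_iff.mp hy
    rw [this, A.one hc]
  · rw [h2 y hy, map_one]

theorem model_range {H : Type v} [Group H] {A : RAct H N} {x : ℕ → H} (h : A.Tab x k T)
    (ht : genL x (List.range k) = ⊤) (f : H →* G)
    (hk : ∀ y, f y = 1 → ∀ c < N, A.act c y = c) (hb : ∀ y ∈ A.fixL B, f y = 1) :
    Model f.range N k T B :=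
  model_of_surj h ht f.rangeRestrict f.rangeRestrict_surjective
    (fun y hy => hk y (congrArg Subtype.val hy)) (fun y hy => Subtype.ext (hb y hy))

theorem Model.of_sub [Finite G] {K : Subgroup G} (h : Model K N k T B)
    (hc : Nat.card G ≤ Nat.card K) : Model G N k T B := by
  have := Subgroup.eq_top_of_le_card K hc
  subst this
  exact h.congr Subgroup.topEquiv

/-- letters as elements of a subgroup containing them -/
noncomputable def subG (g : ℕ → G) (K : Subgroup G) (i : ℕ) : K := by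
  classical exact if h : g i ∈ K then ⟨g i, h⟩ else 1

theorem subG_val {g : ℕ → G} {K : Subgroup G} {i : ℕ} (h : g i ∈ K) : (subG g K i).val = g i := by
  rw [subG, dif_pos h]

theorem genL_subG {g : ℕ → G} {K : Subgroup G} {l : List ℕ} (h : genL g l = K) :
    genL (subG g K) l = ⊤ := by
  apply Subgroup.map_injective K.subtype_injective
  rw [genL_map, ← MonoidHom.range_eq_map, K.range_subtype, ← h]
  exact genL_congr fun i hi => subG_val (h ▸ mem_genL g hi)

/-- restrict an action to the subgroup generated by the letters -/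
theorem tab_sub {A : RAct G N} {g : ℕ → G} (h : A.Tab g k T) {K : Subgroup G}
    (hK : genL g (List.range k) = K) : (A.comap K.subtype).Tab (subG g K) k T := fun i hi c hc => by
  change A.act c (subG g K i).val = _
  rw [subG_val (hK ▸ mem_genL g (List.mem_range.mpr hi)), h i hi c hc]

theorem model_sub {A : RAct G N} {g : ℕ → G} (h : A.Tab g k T) (hb : A.IsBase B) {K : Subgroup G}
    (hK : genL g (List.range k) = K) : Model K N k T B :=
  ⟨A.comap K.subtype, subG g K, tab_sub h hK, fun y hy => Subtype.ext (hb y.val hy), genL_subG hK⟩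

/-! ### new letters -/

/-- relator number `j` defines the letter `k + j` -/
def defsB : List (List ℕ) → ℕ → Bool
  | [], _ => true
  | r :: D, k => (r.getLast? == some k) && (r.dropLast.all fun y => decide (y < k)) && defsB D (k + 1)

theorem tab_extend {A : RAct G N} {D : List (List ℕ)} : ∀ {k : ℕ} {g : ℕ → G}, A.Tab g k T →
    defsB D k = true → (∀ c < N, ∀ r ∈ D, tr T r c = c) →
    ∃ g' : ℕ → G, (∀ i < k, g' i = g i) ∧ A.Tab g' (k + D.length) T ∧
      genL g' (List.range (k + D.length)) = genL g (List.range k) := by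
  induction D with
  | nil => intro k g h _ _; exact ⟨g, fun _ _ => rfl, h, rfl⟩
  | cons r D ih =>
    intro k g h hD hc
    simp only [defsB, Bool.and_eq_true, beq_iff_eq, List.all_eq_true, decide_eq_true_eq] at hD
    obtain ⟨⟨h1, h2⟩, h3⟩ := hD
    have hr : r = r.dropLast ++ [k] := (List.dropLast_append_getLast? k h1).symm
    let g1 : ℕ → G := fun i => if i = k then (ev g r.dropLast)⁻¹ else g i
    have e1 : ∀ i < k, g1 i = g i := fun i hi => if_neg hi.ne
    have ht : A.Tab g1 (k + 1) T := by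
      intro i hi c hc'
      rcases Nat.lt_succ_iff_lt_or_eq.mp hi with h4 | h4
      · rw [e1 i h4, h i h4 c hc']
      · subst h4
        have h5 := hc _ (A.lt (ev g r.dropLast)⁻¹ hc') r (by simp)
        rw [hr, tr_append, ← h.act_ev h2 (A.lt _ hc'), ← hr, A.inv_act _ hc'] at h5
        simp only [g1, if_pos]
        exact h5.symm
    obtain ⟨g', a1, a2, a3⟩ := ih ht h3 (fun c hc' r' hr' => hc c hc' r' (by simp [hr']))
    have e : k + (r :: D).length = k + 1 + D.length := by simp; omega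
    refine ⟨g', fun i hi => by rw [a1 i (by omega), e1 i hi], e ▸ a2, ?_⟩
    rw [e, a3]
    refine le_antisymm (genL_le fun i hi => ?_) (genL_le fun i hi => ?_)
    · rcases Nat.lt_succ_iff_lt_or_eq.mp (List.mem_range.mp hi) with h4 | h4
      · rw [e1 i h4]; exact mem_genL g (List.mem_range.mpr h4)
      · subst h4
        simp only [g1, if_pos]
        exact inv_mem (ev_mem _ _ fun y hy => mem_genL g (List.mem_range.mpr (h2 y hy)))
    · have h4 := List.mem_range.mp hi
      rw [← e1 i h4]; exact mem_genL g1 (List.mem_range.mpr (by omega))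

/-- row check for the defining relators -/
noncomputable def defChk (T : ℕ → ℕ → ℕ) (N : ℕ) (D : List (List ℕ)) (c : ℕ) : Bool :=
  Bool.rec (motive := fun _ => Bool) (allL D fun r => Nat.beq (tr T r c) c) true (Nat.ble N c)

theorem ble_false' {N c : ℕ} (hc : c < N) : Nat.ble N c = false := by
  rw [Bool.eq_false_iff]; intro h3; exact absurd (Nat.le_of_ble_eq_true h3) (by omega)

theorem tab_extend' {A : RAct G N} {D : List (List ℕ)} {k k' M : ℕ} {g : ℕ → G} (h : A.Tab g k T)
    (hD : defsB D k = true) (hk : k + D.length = k') (hM : N ≤ M)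
    (hc : ∀ c < M, defChk T N D c = true) :
    ∃ g' : ℕ → G, (∀ i < k, g' i = g i) ∧ A.Tab g' k' T ∧
      genL g' (List.range k') = genL g (List.range k) := by
  subst hk
  refine tab_extend h hD fun c hc' r hr => ?_
  have := hc c (by omega)
  rw [defChk, ble_false' hc'] at this
  exact Nat.eq_of_beq_eq_true ((allL_iff _ _).mp this r hr)

theorem Model.extend {D : List (List ℕ)} {k' M : ℕ} (h : Model G N k T B)
    (hD : defsB D k = true) (hk : k + D.length = k') (hM : N ≤ M)
    (hc : ∀ c < M, defChk T N D c = true) : Model G N k' T B := by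
  obtain ⟨A, x, h1, h2, h3⟩ := h
  obtain ⟨g, -, a2, a3⟩ := tab_extend' h1 hD hk hM hc
  exact ⟨A, g, a2, h2, a3.trans h3⟩

/-- row check: the words `W` over `T0` have the table `T` -/
noncomputable def derChk (T0 T : ℕ → ℕ → ℕ) (N : ℕ) (W : List (List ℕ)) (ls : List ℕ) (c : ℕ) :
    Bool :=
  Bool.rec (motive := fun _ => Bool) (allL ls fun j => Nat.beq (dT T0 W c j) (T c j)) true
    (Nat.ble N c)

theorem tab_derive {A : RAct G N} {g : ℕ → G} {k0 M : ℕ} {T0 : ℕ → ℕ → ℕ} (h : A.Tab g k0 T0)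
    {W : List (List ℕ)} (hW : lettersB k0 W = true) (hM : N ≤ M)
    (hc : ∀ c < M, derChk T0 T N W (List.range k) c = true) : A.Tab (dG g W) k T := by
  intro i hi c hc'
  have := hc c (by omega)
  rw [derChk, ble_false' hc'] at this
  rw [h.derive hW k i hi c hc']
  exact Nat.eq_of_beq_eq_true ((allL_iff _ _).mp this i (List.mem_range.mpr hi))

/-! ### central elements -/

/-- the point `c` is `b` or is moved by one of the words -/
noncomputable def movB (T : ℕ → ℕ → ℕ) (N : ℕ) (S : List (List ℕ)) (b c : ℕ) : Bool :=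
  Nat.ble N c || Nat.beq c b || !(allL S fun w => Nat.beq (tr T w c) c)

theorem fix_of_central {A : RAct G N} {g : ℕ → G} (h : A.Tab g k T) {S : List (List ℕ)}
    (hS : lettersB k S = true) {b M : ℕ} (hb : b < N) (hf : RAct.fixB T S [b] = true) (hM : N ≤ M)
    (hc : ∀ c < M, movB T N S b c = true) {W : List (List ℕ)} (hW : lettersB k W = true)
    {z : G} (hz : z ∈ Subgroup.center G) : z ∈ A.fixL (W.map fun w => tr T w b) := by
  have h1 : A.act b z = b := by
    have hlt := A.lt z hb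
    have := hc (A.act b z) (by omega)
    simp only [movB, Bool.or_eq_true, Nat.ble_eq, Nat.beq_eq, Bool.not_eq_true'] at this
    rcases this with (h2 | h2) | h2
    · omega
    · exact h2
    · rw [Bool.eq_false_iff] at h2
      refine absurd ((allL_iff _ _).mpr fun w hw => ?_) h2
      rw [← h.act_ev (lettersB_spec hS w hw) hlt, ← A.mul _ _ hb,
        ← Subgroup.mem_center_iff.mp hz, A.mul _ _ hb, h.mem_fixL hS hf w hw b (by simp) hb]
      exact Nat.beq_refl _
  intro c hl _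
  obtain ⟨w, hw, rfl⟩ := List.mem_map.mp hl
  rw [← h.act_ev (lettersB_spec hW w hw) hb, ← A.mul _ _ hb, Subgroup.mem_center_iff.mp hz,
    A.mul _ _ hb, h1]

/-! ### derived subgroups -/

theorem perfect_of_rel {x : ℕ → G} {R : List (List ℕ)} (hR : ∀ r ∈ R, ev x r = 1)
    (hk : lettersLt k R = true) (ht : genL x (List.range k) = ⊤) (Ls : List (List (ℤ × ℕ)))
    (hL : ((List.range k).all fun i =>
      zeroExp k ([i] :: R) ((-1, 0) :: (Ls.getD i []).map fun p => (p.1, p.2 + 1))) = true) :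
    commutator G = ⊤ := by
  rw [eq_top_iff, ← ht]
  refine genL_le fun i hi => ?_
  have h1 := prod_zeroExp (fun i => Abelianization.of (x i)) (k := k) (R := [i] :: R)
    (lettersLt_iff.mpr fun r hr y hy => by
      rcases List.mem_cons.mp hr with rfl | h
      · rw [List.mem_singleton.mp hy]; exact List.mem_range.mp hi
      · exact lettersLt_iff.mp hk r h y hy) (List.all_eq_true.mp hL i hi)
  rw [List.map_cons, List.prod_cons, List.prod_eq_one, mul_one] at h1
  · rw [← Abelianization.ker_of, MonoidHom.mem_ker]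
    simpa using h1
  · intro y hy
    simp only [List.map_map, List.mem_map, Function.comp_apply, List.getD_cons_succ] at hy
    obtain ⟨p, _, rfl⟩ := hy
    rw [← map_ev, show ev x (R.getD p.2 []) = 1 from ?_, map_one, _root_.one_zpow]
    by_cases hp : p.2 < R.length
    · rw [List.getD_eq_getElem _ _ hp]; exact hR _ (List.getElem_mem hp)
    · rw [List.getD_eq_default _ _ (not_lt.mp hp)]; rfl

theorem le_commutator_of_perfect {K : Subgroup G} (h : commutator K = ⊤) : K ≤ commutator G := by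
  intro y hy
  have : (⟨y, hy⟩ : K) ∈ commutator K := h ▸ Subgroup.mem_top _
  have h2 := Subgroup.mem_map_of_mem K.subtype this
  rw [commutator_def, Subgroup.map_commutator] at h2
  exact Subgroup.commutator_mono le_top le_top h2

theorem commutator_le_of_gens [Finite G] {a : ℕ → G} {k0 : ℕ} (ha : genL a (List.range k0) = ⊤)
    {x : ℕ → G} (hn : ∀ i < k, ∀ j < k0, (a j)⁻¹ * x i * a j ∈ genL x (List.range k))
    (hc : ∀ j < k0, ∀ l < j, (a l * a j)⁻¹ * (a j * a l) ∈ genL x (List.range k)) :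
    commutator G ≤ genL x (List.range k) := by
  set K := genL x (List.range k) with hK
  have hN : K.Normal := by
    rw [← Subgroup.normalizer_eq_top_iff, eq_top_iff, ← ha]
    refine genL_le fun j hj => ?_
    rw [← inv_mem_iff]
    refine Subgroup.mem_normalizer_fintype fun y hy => ?_
    have : K ≤ K.comap (MulAut.conj (a j)⁻¹).toMonoidHom :=
      genL_le fun i hi => by simpa using hn i (List.mem_range.mp hi) j (List.mem_range.mp hj)
    simpa using this hy
  have h1 : ∀ j < k0, ∀ l < k0, Commute (QuotientGroup.mk' K (a j)) (QuotientGroup.mk' K (a l)) := by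
    have h2 : ∀ j < k0, ∀ l < j, Commute (QuotientGroup.mk' K (a j)) (QuotientGroup.mk' K (a l)) := by
      intro j hj l hl
      rw [Commute, SemiconjBy, ← map_mul, ← map_mul, eq_comm]
      exact QuotientGroup.eq.mpr (hc j hj l hl)
    intro j hj l hl
    rcases lt_trichotomy j l with h | h | h
    · exact (h2 l hl j h).symm
    · rw [h]
    · exact h2 j hj l h
  have h3 : ∀ y, ∀ l < k0, Commute (QuotientGroup.mk' K y) (QuotientGroup.mk' K (a l)) := by
    intro y l hl
    have : genL a (List.range k0) ≤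
        (Subgroup.centralizer {QuotientGroup.mk' K (a l)}).comap (QuotientGroup.mk' K) :=
      genL_le fun j hj => Subgroup.mem_centralizer_singleton_iff.mpr
        (h1 j (List.mem_range.mp hj) l hl)
    exact Subgroup.mem_centralizer_singleton_iff.mp (this (ha ▸ Subgroup.mem_top y))
  have h4 : ∀ y z, Commute (QuotientGroup.mk' K y) (QuotientGroup.mk' K z) := by
    intro y z
    have : genL a (List.range k0) ≤
        (Subgroup.centralizer {QuotientGroup.mk' K y}).comap (QuotientGroup.mk' K) :=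
      genL_le fun j hj => Subgroup.mem_centralizer_singleton_iff.mpr
        (h3 y j (List.mem_range.mp hj)).symm
    exact (Subgroup.mem_centralizer_singleton_iff.mp (this (ha ▸ Subgroup.mem_top z))).symm
  rw [commutator_def, Subgroup.commutator_le]
  intro y _ z _
  rw [← QuotientGroup.eq_one_iff, ← QuotientGroup.mk'_apply, map_commutatorElement,
    commutatorElement_eq_one_iff_commute]
  exact h4 y z

/-- check of `x i * a j = a j * v` and `a j * a l = a l * a j * v` on the base -/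
noncomputable def nrmB (T0 T : ℕ → ℕ → ℕ) (B : List ℕ) (k0 k1 k : ℕ) (Vn Vc : List (List ℕ)) :
    Bool :=
  lettersB k Vn && lettersB k Vc &&
  (allL (List.range k0) fun j => allL (List.range k1) fun i => allL B fun b =>
    Nat.beq (T0 (T b i) j) (tr T (nthW Vn (k1 * j + i)) (T0 b j))) &&
  allL (List.range k0) fun j => allL (List.range j) fun l => allL B fun b =>
    Nat.beq (T0 (T0 b j) l) (tr T (nthW Vc (k0 * j + l)) (T0 (T0 b l) j))

theorem commutator_le_of_chk [Finite G] {A : RAct G N} {a x : ℕ → G} {k0 k1 : ℕ} {T0 : ℕ → ℕ → ℕ}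
    (h0 : A.Tab a k0 T0) (h : A.Tab x k T) (hb : A.IsBase B) (ha : genL a (List.range k0) = ⊤)
    {Vn Vc : List (List ℕ)} (hk : k1 ≤ k) (hx : genL x (List.range k) = genL x (List.range k1))
    (hc : nrmB T0 T B k0 k1 k Vn Vc = true) :
    commutator G ≤ genL x (List.range k) := by
  simp only [nrmB, Bool.and_eq_true, allL_iff, List.mem_range, Nat.beq_eq] at hc
  obtain ⟨⟨⟨h1, h2⟩, h3⟩, h4⟩ := hc
  have hw : ∀ {V : List (List ℕ)}, lettersB k V = true → ∀ j, ∀ y ∈ nthW V j, y < k := by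
    intro V hV j y hy
    rcases nthW_mem V j with h5 | h5
    · rw [h5] at hy; simp at hy
    · exact lettersB_spec hV _ h5 y hy
  have hm : ∀ {V : List (List ℕ)}, lettersB k V = true → ∀ j,
      ev x (nthW V j) ∈ genL x (List.range k1) := fun hV j =>
    hx ▸ ev_mem _ _ fun y hy => mem_genL x (List.mem_range.mpr (hw hV j y hy))
  rw [hx]
  refine commutator_le_of_gens ha (fun i hi j hj => ?_) (fun j hj l hl => ?_)
  · have : x i * a j = a j * ev x (nthW Vn (k1 * j + i)) := hb.eq_of_act fun c hl hc => by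
      rw [A.mul _ _ hc, A.mul _ _ hc, h0 j hj _ (A.lt _ hc), h.act_ev (hw h1 _) (A.lt _ hc),
        h i (by omega) c hc, h0 j hj c hc]
      exact h3 j hj i hi c hl
    rw [mul_assoc, this, inv_mul_cancel_left]
    exact hm h1 _
  · have : a j * a l = a l * a j * ev x (nthW Vc (k0 * j + l)) := hb.eq_of_act fun c hl' hc => by
      rw [A.mul _ _ hc, A.mul _ _ hc, h.act_ev (hw h2 _) (A.lt _ hc), A.mul _ _ hc,
        h0 l (by omega) _ (A.lt _ hc), h0 j hj _ (A.lt _ hc), h0 j hj c hc, h0 l (by omega) c hc]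
      exact h4 j hj l hl c hl'
    rw [this, inv_mul_cancel_left]
    exact hm h2 _

end groups

/-! ### actions on vectors and on lines -/

namespace Vec

variable {F : Type*} [Field F] {ι : Type*} [Fintype ι] [DecidableEq ι] {G : Type u} [Group G]

/-- the multiples of `v` by elements of `Λ` -/
def cls (Λ : Subgroup Fˣ) (v : ι → F) : Set (ι → F) := {x | ∃ l ∈ Λ, x = (l : F) • v}

/-- action on sets of vectors -/
@[reducible] def setAct (ρ : G →* Matrix ι ι F) : MulAction G (Set (ι → F)) where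
  smul g S := (fun v => ρ g *ᵥ v) '' S
  one_smul S := by
    change (fun v => ρ 1 *ᵥ v) '' S = S
    simp
  mul_smul g h S := by
    change (fun v => ρ (g * h) *ᵥ v) '' S = (fun v => ρ g *ᵥ v) '' ((fun v => ρ h *ᵥ v) '' S)
    simp [Set.image_image]

omit [Fintype ι] [DecidableEq ι] in
theorem cls_eq {Λ : Subgroup Fˣ} {v v' : ι → F} :
    cls Λ v = cls Λ v' ↔ ∃ l ∈ Λ, v = (l : F) • v' := by
  constructor
  · intro h
    have : v ∈ cls Λ v := ⟨1, one_mem _, by simp⟩
    rwa [h] at this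
  · rintro ⟨l, hl, rfl⟩
    ext x
    constructor
    · rintro ⟨m, hm, rfl⟩
      exact ⟨m * l, mul_mem hm hl, by simp [smul_smul]⟩
    · rintro ⟨m, hm, rfl⟩
      exact ⟨m * l⁻¹, mul_mem hm (inv_mem hl), by simp [smul_smul]⟩

omit [DecidableEq ι] in
theorem image_cls (Λ : Subgroup Fˣ) (M : Matrix ι ι F) (v : ι → F) :
    (fun v => M *ᵥ v) '' cls Λ v = cls Λ (M *ᵥ v) := by
  ext x
  constructor
  · rintro ⟨_, ⟨l, hl, rfl⟩, rfl⟩
    exact ⟨l, hl, by simp [Matrix.mulVec_smul]⟩
  · rintro ⟨l, hl, rfl⟩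
    exact ⟨_, ⟨l, hl, rfl⟩, by simp [Matrix.mulVec_smul]⟩

/-- `A` is the action through `ρ` on the classes of the vectors `u c` -/
def IsVA {N : ℕ} (A : RAct G N) (ρ : G →* Matrix ι ι F) (Λ : Subgroup Fˣ) (u : ℕ → ι → F) : Prop :=
  ∀ x : G, ∀ c < N, ∀ d < N, A.act c x = d ↔ ∃ l ∈ Λ, ρ x *ᵥ u d = (l : F) • u c

theorem exists_isVA (ρ : G →* Matrix ι ι F) (Λ : Subgroup Fˣ) (u : ℕ → ι → F) {N : ℕ}
    (hinj : ∀ c < N, ∀ d < N, ∀ l ∈ Λ, u c = (l : F) • u d → c = d) {s : Set G}
    (hs : Subgroup.closure s = ⊤)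
    (htab : ∀ y ∈ s, ∀ c < N, ∃ d < N, ∃ l ∈ Λ, ρ y *ᵥ u d = (l : F) • u c) :
    ∃ A : RAct G N, IsVA A ρ Λ u := by
  letI := setAct ρ
  have hsm : ∀ (x : G) c d, x • cls Λ (u d) = cls Λ (u c) ↔
      ∃ l ∈ Λ, ρ x *ᵥ u d = (l : F) • u c := fun x c d => by
    rw [← cls_eq, ← image_cls]; rfl
  have hi : ∀ c < N, ∀ d < N, cls Λ (u c) = cls Λ (u d) → c = d := fun c hc d hd h => by
    obtain ⟨l, hl, h1⟩ := cls_eq.mp h
    exact hinj c hc d hd l hl h1
  have hcl : ∀ x : G, ∀ c < N, ∃ d < N, x • cls Λ (u d) = cls Λ (u c) := fun x =>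
    RAct.emb_closed (fun c => cls Λ (u c)) hi s (fun y hy c hc => by
      obtain ⟨d, hd, h⟩ := htab y hy c hc
      exact ⟨d, hd, (hsm _ _ _).mpr h⟩) x (hs ▸ Subgroup.mem_top x)
  refine ⟨RAct.ofEmb (fun c => cls Λ (u c)) hi hcl, fun x c hc d hd => ⟨?_, fun h => ?_⟩⟩
  · rintro rfl
    exact (hsm _ _ _).mp (RAct.ofEmb_spec (fun c => cls Λ (u c)) hi hcl x hc)
  · exact RAct.ofEmb_act _ hi hcl hc hd ((hsm _ _ _).mpr h)

variable {N : ℕ} {A : RAct G N} {ρ : G →* Matrix ι ι F} {Λ : Subgroup Fˣ} {u : ℕ → ι → F}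

theorem IsVA.comap (h : IsVA A ρ Λ u) {H : Type v} [Group H] (f : H →* G) :
    IsVA (A.comap f) (ρ.comp f) Λ u := fun x => h (f x)

theorem IsVA.scalar (h : IsVA A ρ ⊤ u) {x : G} {a : F} (hx : ρ x = a • 1) {c : ℕ} (hc : c < N) :
    A.act c x = c := by
  by_cases ha : a = 0
  · obtain ⟨l, -, h1⟩ := (h x c hc _ (A.lt x hc)).mp rfl
    have h2 : u c = 0 := by
      rw [hx, ha] at h1
      simpa using h1.symm
    exact (h x c hc c hc).mpr ⟨1, trivial, by simp [h2]⟩
  · exact (h x c hc c hc).mpr ⟨Units.mk0 a ha, trivial, by simp [hx, Matrix.smul_mulVec]⟩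

theorem IsVA.eq_one (h : IsVA A ρ ⊥ u) {b : ι → ℕ} (hb : ∀ j, b j < N)
    (hU : IsUnit (Matrix.of fun i j => u (b j) i)) {x : G} (hx : ∀ j, A.act (b j) x = b j) :
    ρ x = 1 := by
  have : ρ x * (Matrix.of fun i j => u (b j) i) = 1 * Matrix.of fun i j => u (b j) i := by
    rw [Matrix.one_mul]
    ext i j
    obtain ⟨l, hl, h1⟩ := (h x _ (hb j) _ (hb j)).mp (hx j)
    rw [Subgroup.mem_bot.mp hl] at h1
    simpa [Matrix.mul_apply, Matrix.mulVec, dotProduct] using congrFun h1 i
  exact hU.mul_right_cancel this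

theorem IsVA.eq_smul (h : IsVA A ρ Λ u) {b : ι → ℕ} (hb : ∀ j, b j < N)
    (hU : IsUnit (Matrix.of fun i j => u (b j) i)) {b0 : ℕ} (hb0 : b0 < N) {c : ι → F}
    (hc : ∀ j, c j ≠ 0) {l0 : Fˣ} (h0 : (Matrix.of fun i j => u (b j) i) *ᵥ c = (l0 : F) • u b0)
    {x : G} (hx : ∀ j, A.act (b j) x = b j) (hx0 : A.act b0 x = b0) : ∃ a : F, ρ x = a • 1 := by
  set U : Matrix ι ι F := Matrix.of fun i j => u (b j) i with hUdef
  choose l _ hl using fun j => (h x _ (hb j) _ (hb j)).mp (hx j)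
  obtain ⟨a, -, ha⟩ := (h x _ hb0 _ hb0).mp hx0
  have h1 : ρ x * U = U * Matrix.diagonal fun j => (l j : F) := by
    ext i j
    rw [Matrix.mul_diagonal]
    simpa [hUdef, Matrix.mul_apply, Matrix.mulVec, dotProduct, mul_comm] using congrFun (hl j) i
  have h2 : U *ᵥ ((Matrix.diagonal fun j => (l j : F)) *ᵥ c) = U *ᵥ ((a : F) • c) := by
    rw [Matrix.mulVec_mulVec, ← h1, ← Matrix.mulVec_mulVec, Matrix.mulVec_smul, h0,
      Matrix.mulVec_smul, ha, smul_comm]
  have h3 := Matrix.mulVec_injective_of_isUnit hU h2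
  have h4 : ∀ j, (l j : F) = a := fun j => by
    have := congrFun h3 j
    rw [Matrix.mulVec_diagonal, Pi.smul_apply, smul_eq_mul] at this
    exact mul_right_cancel₀ (hc j) this
  refine ⟨a, hU.mul_right_cancel ?_⟩
  rw [h1]
  simp only [h4]
  ext i j
  simp [Matrix.mul_diagonal, mul_comm]

/-! ### checks -/

variable {P : Fm} {e : ι ≃ Fin P.n} {ω : F}

/-- a sound test for `M x = l y` with `l` in `Λ` -/
def SoundL (P : Fm) (e : ι ≃ Fin P.n) (ω : F) (Λ : Subgroup Fˣ) (E : List ℕ → ℕ → ℕ → Bool) :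
    Prop :=
  ∀ ⦃C : List ℕ⦄ ⦃M : Matrix ι ι F⦄ ⦃x y : ℕ⦄, Coded P e ω C M → Valid P x → Valid P y →
    E C x y = true → ∃ l ∈ Λ, M *ᵥ dec P e ω x = (l : F) • dec P e ω y

/-- vectors in characteristic two -/
noncomputable def xE1 (C : List ℕ) (x y : ℕ) : Bool := Nat.beq (xapp C x 0) y

omit [DecidableEq ι] in
theorem soundL_xE1 (hw : P.w = 1) (h2 : (2 : F) = 0) : SoundL P e ω Λ xE1 :=
  fun _ _ _ _ h _ _ hE => ⟨1, one_mem _, by
    rw [h.xapp hw h2, Nat.eq_of_beq_eq_true hE]; simp⟩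

/-- try the coded scalar matrices of the list -/
noncomputable def anyE (E : List ℕ → ℕ → List ℕ → ℕ → Bool) (Ss : List (List ℕ)) (C : List ℕ)
    (x y : ℕ) : Bool :=
  List.rec (motive := fun _ => Bool) false
    (fun S _ ih => Bool.rec (motive := fun _ => Bool) ih true (E C x S y)) Ss

theorem soundL_anyE {E : List ℕ → ℕ → List ℕ → ℕ → Bool} (hE : Sound P e ω E) {Ss : List (List ℕ)}
    (hS : ∀ S ∈ Ss, ∃ l ∈ Λ, Coded P e ω S ((l : F) • (1 : Matrix ι ι F))) :
    SoundL P e ω Λ (anyE E Ss) := by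
  intro C M x y h hx hy
  induction Ss with
  | nil => intro h1; exact absurd h1 (by simp [anyE])
  | cons S Ss ih =>
    intro h1
    have e1 : anyE E (S :: Ss) C x y =
      Bool.rec (motive := fun _ => Bool) (anyE E Ss C x y) true (E C x S y) := rfl
    rw [e1] at h1
    cases h2 : E C x S y with
    | true =>
      obtain ⟨l, hl, h3⟩ := hS S (by simp)
      exact ⟨l, hl, by rw [hE h h3 hx hy h2]; simp [Matrix.smul_mulVec]⟩
    | false =>
      rw [h2] at h1
      exact ih (fun S' hS' => hS S' (by simp [hS'])) h1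

/-- row check: the code is admissible, and the coded matrices act as the table says -/
noncomputable def rowChk (ok : ℕ → Bool) (E : List ℕ → ℕ → ℕ → Bool) (Cs : List (List ℕ))
    (ls : List ℕ) (V : ℕ → ℕ) (T : ℕ → ℕ → ℕ) (N c : ℕ) : Bool :=
  Bool.rec (motive := fun _ => Bool)
    (Nat.rec (motive := fun _ => Bool) false (fun v _ =>
      Bool.rec (motive := fun _ => Bool) false
        (allL ls fun i => Nat.rec (motive := fun _ => Bool) false (fun d _ =>
          Bool.rec (motive := fun _ => Bool) false (E (nthW Cs i) (V d) v) (Nat.blt d N))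
          (Nat.succ (T c i)))
        (ok v)) (Nat.succ (V c)))
    true (Nat.ble N c)

theorem rowChk_spec {ok : ℕ → Bool} {E : List ℕ → ℕ → ℕ → Bool} {Cs : List (List ℕ)}
    {ls : List ℕ} {V : ℕ → ℕ} {T : ℕ → ℕ → ℕ} {N c : ℕ} (h : rowChk ok E Cs ls V T N c = true)
    (hc : c < N) : ok (V c) = true ∧
      ∀ i ∈ ls, T c i < N ∧ E (nthW Cs i) (V (T c i)) (V c) = true := by
  unfold rowChk at h
  rw [ble_false' hc] at h
  obtain ⟨h1, h2⟩ := brec_true (b := ok (V c)) h
  refine ⟨h1, fun i hi => ?_⟩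
  obtain ⟨h3, h4⟩ := brec_true (b := Nat.blt (T c i) N) ((allL_iff _ _).mp h2 i hi)
  exact ⟨by simpa [Nat.blt_eq] using h3, h4⟩

/-- admissible codes: reduced, and distinct codes give distinct classes -/
def Adm (P : Fm) (e : ι ≃ Fin P.n) (ω : F) (Λ : Subgroup Fˣ) (ok : ℕ → Bool) : Prop :=
  (∀ x, ok x = true → Valid P x) ∧ ∀ x y, ok x = true → ok y = true → ∀ l ∈ Λ,
    dec P e ω x = (l : F) • dec P e ω y → x = y

omit [Fintype ι] [DecidableEq ι] in
theorem adm_bot (hw : 0 < P.w) (hi : H9.PM.Indep P.p ω P.d) {ok : ℕ → Bool}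
    (h : ∀ x, ok x = true → Valid P x) : Adm P e ω ⊥ ok :=
  ⟨h, fun x y hx hy l hl h1 => by
    rw [Subgroup.mem_bot.mp hl, Units.val_one, one_smul] at h1
    exact dec_inj hw hi (h x hx) (h y hy) h1⟩

/-- reduced and normalised -/
noncomputable def okL (P : Fm) (x : ℕ) : Bool := valid P x && normB P x

omit [Fintype ι] [DecidableEq ι] in
theorem adm_top (hw : 0 < P.w) (hd : 0 < P.d) (hp : 0 < P.p) (hi : H9.PM.Indep P.p ω P.d) :
    Adm P e ω ⊤ (okL P) := by
  refine ⟨fun x hx => valid_of hp (Bool.and_eq_true_iff.mp hx).1, fun x y hx hy l _ h => ?_⟩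
  obtain ⟨a1, a2⟩ := Bool.and_eq_true_iff.mp hx
  obtain ⟨b1, b2⟩ := Bool.and_eq_true_iff.mp hy
  exact eq_of_smul hw hd hi (valid_of hp a1) (valid_of hp b1) a2 b2 h

/-- the action of a group generated by coded matrices -/
theorem exists_act {ok : ℕ → Bool} (ha : Adm P e ω Λ ok) {E : List ℕ → ℕ → ℕ → Bool}
    (hE : SoundL P e ω Λ E) (ρ : G →* Matrix ι ι F) {g : ℕ → G} {k : ℕ} {Cs : List (List ℕ)}
    (hC : ∀ i < k, Coded P e ω (nthW Cs i) (ρ (g i))) (ht : genL g (List.range k) = ⊤)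
    {V S : ℕ → ℕ} {T : ℕ → ℕ → ℕ} {N M M' : ℕ} (hM : N ≤ M) (hM' : N ≤ M')
    (h1 : ∀ c < M, rowChk ok E Cs (List.range k) V T N c = true)
    (h2 : ∀ j < M', sortB V S N j = true) :
    (∀ c < N, Valid P (V c)) ∧
      ∃ A : RAct G N, A.Tab g k T ∧ IsVA A ρ Λ fun c => dec P e ω (V c) := by
  have h3 := fun c (hc : c < N) => rowChk_spec (h1 c (by omega)) hc
  have h4 : ∀ i < k, ∀ c < N, T c i < N ∧
      ∃ l ∈ Λ, ρ (g i) *ᵥ dec P e ω (V (T c i)) = (l : F) • dec P e ω (V c) := by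
    intro i hi c hc
    obtain ⟨a1, a2⟩ := (h3 c hc).2 i (List.mem_range.mpr hi)
    exact ⟨a1, hE (hC i hi) (ha.1 _ (h3 _ a1).1) (ha.1 _ (h3 c hc).1) a2⟩
  obtain ⟨A, hA⟩ := exists_isVA ρ Λ (fun c => dec P e ω (V c)) (N := N)
    (fun c hc d hd l hl h => inj_of_sortB hM' h2 c hc d hd
      (ha.2 _ _ (h3 c hc).1 (h3 d hd).1 l hl h)) ht (by
      rintro _ ⟨i, hi, rfl⟩ c hc
      have := h4 i (List.mem_range.mp hi) c hc
      exact ⟨_, this.1, this.2⟩)
  exact ⟨fun c hc => ha.1 _ (h3 c hc).1, A,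
    fun i hi c hc => (hA _ c hc _ (h4 i hi c hc).1).mpr (h4 i hi c hc).2, hA⟩

/-- the vectors of the points `Bs` are the columns of `CU`, which has a right inverse -/
noncomputable def spanB (P : Fm) (E : List ℕ → ℕ → ℕ → Bool) (V : ℕ → ℕ) (N : ℕ) (Bs CU CW I : List ℕ) :
    Bool :=
  H9.allLt P.n fun j => Nat.blt (Bs.getD j N) N && Nat.beq (V (Bs.getD j N)) (CU.getD (P.d * j) 0) &&
    valid P (CW.getD j 0) && E CU (CW.getD j 0) (I.getD (P.d * j) 0)

theorem spanB_spec (hd : 0 < P.d) (hp : 0 < P.p) {E : List ℕ → ℕ → ℕ → Bool}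
    (hE : SoundL P e ω Λ E) {V : ℕ → ℕ} {Bs CU CW I : List ℕ} (hU : Coded P e ω CU (mat P e ω CU))
    (hI : Coded P e ω I 1) (h : spanB P E V N Bs CU CW I = true) :
    (∀ j, Bs.getD (e j) N < N ∧ Bs.getD (e j) N ∈ Bs) ∧
      mat P e ω CU = (Matrix.of fun i j => dec P e ω (V (Bs.getD (e j) N)) i) ∧
      IsUnit (mat P e ω CU) := by
  simp only [spanB, H9.allLt_iff, Bool.and_eq_true, Nat.blt_eq, Nat.beq_eq] at h
  refine ⟨fun j => ⟨(h _ (e j).2).1.1.1, ?_⟩, ?_, ?_⟩
  · have h1 := (h _ (e j).2).1.1.1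
    by_cases h2 : (e j : ℕ) < Bs.length
    · rw [List.getD_eq_getElem _ _ h2]; exact List.getElem_mem h2
    · rw [List.getD_eq_default _ _ (not_lt.mp h2)] at h1; omega
  · ext i j
    simp only [mat, Matrix.of_apply, (h _ (e j).2).1.1.2]
  · have h1 : ∀ j, ∃ w : ι → F, mat P e ω CU *ᵥ w = fun i => (1 : Matrix ι ι F) i j := by
      intro j
      have hlt : P.d * e j < I.length := by
        rw [hI.1]; simpa using H9.PM.blk_lt (e j).2 hd
      obtain ⟨l, -, h2⟩ := hE hU (valid_of hp (h _ (e j).2).1.2)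
        (by rw [List.getD_eq_getElem _ _ hlt]; exact hI.2.1 _ (List.getElem_mem hlt)) (h _ (e j).2).2
      refine ⟨((l⁻¹ : Fˣ) : F) • dec P e ω (CW.getD (e j) 0), ?_⟩
      rw [Matrix.mulVec_smul, h2, smul_smul, Units.inv_mul, one_smul]
      funext i
      simpa using (hI.2.2 i j 0 hd).symm
    choose w hw using h1
    have h2 : mat P e ω CU * (Matrix.of fun i j => w j i) = 1 := by
      ext i j
      simpa [Matrix.mul_apply, Matrix.mulVec, dotProduct] using congrFun (hw j) i
    exact IsUnit.of_mul_eq_one _ h2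

theorem base_vec (hd : 0 < P.d) (hp : 0 < P.p) {E : List ℕ → ℕ → ℕ → Bool}
    (hE : SoundL P e ω ⊥ E) {V : ℕ → ℕ} (hA : IsVA A ρ ⊥ fun c => dec P e ω (V c))
    {Bs CU CW I : List ℕ} (hU : Coded P e ω CU (mat P e ω CU))
    (hI : Coded P e ω I 1) (h : spanB P E V N Bs CU CW I = true) {x : G} (hx : x ∈ A.fixL Bs) :
    ρ x = 1 := by
  obtain ⟨h1, h2, h3⟩ := spanB_spec hd hp hE hU hI h
  exact hA.eq_one (b := fun j => Bs.getD (e j) N) (fun j => (h1 j).1) (h2 ▸ h3)
    fun j => hx _ (h1 j).2 (h1 j).1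

/-- the point `b0` has non-zero coordinates `cc` with respect to the columns of `CU` -/
noncomputable def frameB (P : Fm) (E : List ℕ → ℕ → ℕ → Bool) (V : ℕ → ℕ) (N : ℕ) (CU : List ℕ)
    (b0 cc : ℕ) : Bool :=
  Nat.blt b0 N && valid P cc && valid P (V b0) && E CU cc (V b0) &&
    H9.allLt P.n fun j => !(H9.allLt P.d fun u => Nat.beq (H9.look P.w cc (P.d * j + u)) 0)

theorem base_line (hd : 0 < P.d) (hp : 0 < P.p) (hi : H9.PM.Indep P.p ω P.d)
    {E : List ℕ → ℕ → ℕ → Bool} (hE : SoundL P e ω Λ E) {V : ℕ → ℕ}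
    (hA : IsVA A ρ Λ fun c => dec P e ω (V c)) {Bs CU CW I : List ℕ}
    (hU : Coded P e ω CU (mat P e ω CU)) (hI : Coded P e ω I 1)
    (h : spanB P E V N Bs CU CW I = true) {b0 cc : ℕ} (h' : frameB P E V N CU b0 cc = true)
    {x : G} (hx : x ∈ A.fixL (b0 :: Bs)) : ∃ a : F, ρ x = a • 1 := by
  obtain ⟨h1, h2, h3⟩ := spanB_spec hd hp hE hU hI h
  simp only [frameB, Bool.and_eq_true, Nat.blt_eq, H9.allLt_iff, Bool.not_eq_true'] at h'
  obtain ⟨⟨⟨⟨a1, a2⟩, a3⟩, a4⟩, a5⟩ := h'
  obtain ⟨l, -, hl⟩ := hE hU (valid_of hp a2) (valid_of hp a3) a4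
  refine hA.eq_smul (b := fun j => Bs.getD (e j) N) (fun j => (h1 j).1) (h2 ▸ h3) a1
    (c := dec P e ω cc) (fun j hj => ?_) (h2 ▸ hl)
    (fun j => hx _ (List.mem_cons_of_mem _ (h1 j).2) (h1 j).1) (hx _ (by simp) a1)
  have h4 := hi (fun u => H9.look P.w cc (P.d * e j + u)) (fun _ => 0)
    (fun u => (valid_of hp a2).2 _) (fun _ => hp) (by simpa [dec, lin] using hj)
  have h5 := a5 _ (e j).2
  rw [Bool.eq_false_iff] at h5
  exact h5 ((H9.allLt_iff _ _).mpr fun u hu => by rw [h4 u hu]; rfl)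

end Vec

end Cfsg.Agent.H3
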