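import Cfsg.Agent.H3.Core

/-! Assembling permutation models of linear and projective groups. -/

set_option autoImplicit false

namespace Cfsg.Agent.H3

open L0 Matrix

universe u v

theorem cardLe_cast {Γ : Type u} [Group Γ] {x : ℕ → Γ} {l l' : List ℕ} {n n' : ℕ}
    (h : CardLe x l n) (hl : l = l') (hn : n = n') : CardLe x l' n' := hl ▸ hn ▸ h

theorem schur_of_sub {G : Type u} [Group G] [Finite G] {K : Subgroup G} {A : Type} [CommGroup A]
    {n : ℕ} (h : Finite K ∧ Nat.card K = n ∧ HasSchurMultiplier K A) (hG : Nat.card G ≤ n) :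
    HasSchurMultiplier G A := by
  have := Subgroup.eq_top_of_le_card K (h.2.1 ▸ hG)
  subst this
  exact hasSchur_congr h.2.2 Subgroup.topEquiv

theorem card_quot_le {G : Type u} [Group G] [Finite G] (Z : Subgroup G) {n z : ℕ} (hz : 0 < z)
    (h : Nat.card G ≤ n * z) (h' : z ≤ Nat.card Z) : Nat.card (G ⧸ Z) ≤ n := by
  rw [Subgroup.card_eq_card_quotient_mul_card_subgroup Z] at h
  exact Nat.le_of_mul_le_mul_right ((Nat.mul_le_mul_left _ h').trans h) hz

theorem le_card_of_orderOf {G : Type u} [Group G] [Finite G] {Z : Subgroup G} {c : G} (hc : c ∈ Z)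
    {z : ℕ} (h : orderOf c = z) : z ≤ Nat.card Z :=
  h ▸ Nat.le_of_dvd Nat.card_pos (Subgroup.orderOf_dvd_natCard Z hc)

namespace Vec

variable {F : Type*} [Field F] {ι : Type*} [Fintype ι] [DecidableEq ι] {G : Type u} [Group G]
variable {P : Fm} {e : ι ≃ Fin P.n} {ω : F}

/-- all the checks for an action on coded vectors -/
structure VecData (P : Fm) (ok : ℕ → Bool) (E : List ℕ → ℕ → ℕ → Bool) (Cs : List (List ℕ))
    (k N : ℕ) (T : ℕ → ℕ → ℕ) (Bs CU I : List ℕ) : Prop where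
  ex : ∃ (V S : ℕ → ℕ) (CW : List ℕ), (∀ c < N, rowChk ok E Cs (List.range k) V T N c = true) ∧
    (∀ j < N, sortB V S N j = true) ∧ spanB P E V N Bs CU CW I = true

/-- all the checks for an action on coded projective points -/
structure LineData (P : Fm) (E : List ℕ → ℕ → ℕ → Bool) (Cs : List (List ℕ))
    (k N : ℕ) (T : ℕ → ℕ → ℕ) (b0 : ℕ) (Bs CU I : List ℕ) (V : ℕ → ℕ) : Prop where
  ex : ∃ (S : ℕ → ℕ) (CW : List ℕ) (cc : ℕ),
    (∀ c < N, rowChk (okL P) E Cs (List.range k) V T N c = true) ∧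
    (∀ j < N, sortB V S N j = true) ∧ spanB P E V N Bs CU CW I = true ∧
    frameB P E V N CU b0 cc = true

variable {ok : ℕ → Bool} {E : List ℕ → ℕ → ℕ → Bool} {Cs : List (List ℕ)} {k N : ℕ}
  {T : ℕ → ℕ → ℕ} {b0 : ℕ} {Bs CU I : List ℕ} {V : ℕ → ℕ}

theorem VecData.act (h : VecData P ok E Cs k N T Bs CU I) (hd : 0 < P.d) (hp : 0 < P.p)
    (ha : Adm P e ω ⊥ ok) (hE : SoundL P e ω ⊥ E) (hU : Coded P e ω CU (mat P e ω CU))
    (hI : Coded P e ω I 1) (ρ : G →* Matrix ι ι F) (hρ : Function.Injective ρ) {g : ℕ → G}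
    (hC : ∀ i < k, Coded P e ω (nthW Cs i) (ρ (g i))) (ht : genL g (List.range k) = ⊤) :
    ∃ A : RAct G N, A.Tab g k T ∧ A.IsBase Bs := by
  obtain ⟨V, S, CW, h1, h2, h3⟩ := h.ex
  obtain ⟨-, A, a1, a2⟩ := exists_act ha hE ρ hC ht le_rfl le_rfl h1 h2
  exact ⟨A, a1, fun x hx => hρ (by rw [base_vec hd hp hE a2 hU hI h3 hx, map_one])⟩

theorem VecData.model (h : VecData P ok E Cs k N T Bs CU I) (hd : 0 < P.d) (hp : 0 < P.p)
    (ha : Adm P e ω ⊥ ok) (hE : SoundL P e ω ⊥ E) (hU : Coded P e ω CU (mat P e ω CU))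
    (hI : Coded P e ω I 1) (ρ : G →* Matrix ι ι F) (hρ : Function.Injective ρ) {g : ℕ → G}
    (hC : ∀ i < k, Coded P e ω (nthW Cs i) (ρ (g i))) :
    Model (genL g (List.range k)) N k T Bs := by
  obtain ⟨A, a1, a2⟩ := h.act hd hp ha hE hU hI (ρ.comp (genL g (List.range k)).subtype)
    (hρ.comp Subtype.val_injective) (g := subG g _) (fun i hi => by
      rw [MonoidHom.comp_apply, Subgroup.subtype_apply,
        subG_val (mem_genL g (List.mem_range.mpr hi))]
      exact hC i hi) (genL_subG rfl)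
  exact ⟨A, _, a1, a2, genL_subG rfl⟩

theorem LineData.act (h : LineData P E Cs k N T b0 Bs CU I V) (hw : 0 < P.w) (hd : 0 < P.d)
    (hp : 0 < P.p) (hi : H9.PM.Indep P.p ω P.d) (hE : SoundL P e ω ⊤ E)
    (hU : Coded P e ω CU (mat P e ω CU)) (hI : Coded P e ω I 1) (ρ : G →* Matrix ι ι F) {g : ℕ → G}
    (hC : ∀ i < k, Coded P e ω (nthW Cs i) (ρ (g i))) (ht : genL g (List.range k) = ⊤) :
    ∃ A : RAct G N, A.Tab g k T ∧ (IsVA A ρ ⊤ fun c => dec P e ω (V c)) ∧
      ∀ x ∈ A.fixL (b0 :: Bs), ∃ a : F, ρ x = a • 1 := by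
  obtain ⟨S, CW, cc, h1, h2, h3, h4⟩ := h.ex
  obtain ⟨-, A, a1, a2⟩ := exists_act (adm_top hw hd hp hi) hE ρ hC ht le_rfl le_rfl h1 h2
  exact ⟨A, a1, a2, fun x hx => base_line hd hp hi hE a2 hU hI h3 h4 hx⟩

theorem central_of_scalar {ρ : G →* Matrix ι ι F} (hρ : Function.Injective ρ) {x : G} {a : F}
    (h : ρ x = a • 1) : x ∈ Subgroup.center G :=
  Subgroup.mem_center_iff.mpr fun y => hρ (by simp [h])

theorem LineData.model (h : LineData P E Cs k N T b0 Bs CU I V) (hw : 0 < P.w) (hd : 0 < P.d)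
    (hp : 0 < P.p) (hi : H9.PM.Indep P.p ω P.d) (hE : SoundL P e ω ⊤ E)
    (hU : Coded P e ω CU (mat P e ω CU)) (hI : Coded P e ω I 1) (ρ : G →* Matrix ι ι F)
    (hρ : Function.Injective ρ) (hz : ∀ z ∈ Subgroup.center G, ∃ a : F, ρ z = a • 1) {g : ℕ → G}
    (hC : ∀ i < k, Coded P e ω (nthW Cs i) (ρ (g i))) :
    Model ((QuotientGroup.mk' (Subgroup.center G)).comp (genL g (List.range k)).subtype).range
      N k T (b0 :: Bs) := by
  obtain ⟨A, a1, a2, a3⟩ := h.act hw hd hp hi hE hU hI (ρ.comp (genL g (List.range k)).subtype)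
    (g := subG g _) (fun i hi => by
      rw [MonoidHom.comp_apply, Subgroup.subtype_apply,
        subG_val (mem_genL g (List.mem_range.mpr hi))]
      exact hC i hi) (genL_subG rfl)
  refine model_range a1 (genL_subG rfl) _ (fun y hy c hc => ?_) (fun y hy => ?_)
  · obtain ⟨a, ha⟩ := hz y.val ((QuotientGroup.eq_one_iff _).mp hy)
    exact a2.scalar ha hc
  · obtain ⟨a, ha⟩ := a3 y hy
    exact (QuotientGroup.eq_one_iff _).mpr (central_of_scalar hρ ha)

/-- validity test in characteristic two -/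
theorem adm_two {d n : ℕ} {e : ι ≃ Fin n} (hi : H9.PM.Indep 2 ω d) {b : ℕ} (hb : b = 2 ^ (d * n)) :
    Adm ⟨2, 1, d, n⟩ e ω ⊥ fun x => Nat.blt x b :=
  adm_bot (P := ⟨2, 1, d, n⟩) Nat.one_pos hi fun x hx => valid_two (by simpa [Nat.blt_eq, hb] using hx)

theorem adm_valid (hw : 0 < P.w) (hp : 0 < P.p) (hi : H9.PM.Indep P.p ω P.d) :
    Adm P e ω ⊥ (valid P) := adm_bot hw hi fun _ hx => valid_of hp hx

/-- transfer of the coding from a computable ring -/
theorem coded_map {R : Type*} [CommRing R] (φ : R →+* F) {ω0 : R} (hω : φ ω0 = ω) (hp : 0 < P.p)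
    {C : List ℕ} (h : colsB P C = true) {M : Matrix ι ι R}
    (hM : ∀ i j, ∀ u < P.d, M i j * ω0 ^ u = dec P e ω0 (C.getD (P.d * e j + u) 0) i) :
    Coded P e ω C (M.map φ) := hω ▸ (coded_of hp h hM).map φ

theorem coded_mat {R : Type*} [CommRing R] (φ : R →+* F) {ω0 : R} (hω : φ ω0 = ω) (hp : 0 < P.p)
    {C : List ℕ} (h : colsB P C = true)
    (hM : ∀ i j, ∀ u < P.d, mat P e ω0 C i j * ω0 ^ u = dec P e ω0 (C.getD (P.d * e j + u) 0) i) :
    Coded P e ω C (mat P e ω C) := by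
  have := coded_map φ hω hp h hM
  rwa [mat_map, hω] at this

theorem coded_smul {R : Type*} [CommRing R] (φ : R →+* F) {ω0 : R} (hω : φ ω0 = ω) (hp : 0 < P.p)
    {C : List ℕ} (h : colsB P C = true) {a : R}
    (hM : ∀ i j, ∀ u < P.d, (if i = j then a else 0) * ω0 ^ u =
      dec P e ω0 (C.getD (P.d * e j + u) 0) i) :
    Coded P e ω C (φ a • (1 : Matrix ι ι F)) := by
  have := coded_map φ hω hp h (M := Matrix.of fun i j => if i = j then a else 0) hM
  convert this using 1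
  ext i j
  by_cases hij : i = j <;> simp [hij, Matrix.one_apply]

theorem coded_one {R : Type*} [CommRing R] (φ : R →+* F) {ω0 : R} (hω : φ ω0 = ω) (hp : 0 < P.p)
    {C : List ℕ} (h : colsB P C = true)
    (hM : ∀ i j, ∀ u < P.d, (if i = j then 1 else 0) * ω0 ^ u =
      dec P e ω0 (C.getD (P.d * e j + u) 0) i) :
    Coded P e ω C (1 : Matrix ι ι F) := by
  simpa using coded_smul φ hω hp h hM

end Vec

end Cfsg.Agent.H3
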